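import Cfsg.Agent.Lib.Fi24Out.Defs

/-!
# Kernel checks: the candidates for the third generator
-/

set_option autoImplicit false
set_option maxRecDepth 100000

namespace CfsgLib.Fi24Out

open CfsgLib.PresCert

theorem cand_all : ([false, true].all fun minus => mWords.all fun m => (List.range 11).all fun k =>
    rejected minus k m || (centWord k m).isEmpty || bif minus then false
      else sameW (centWord k m) wW || sameW (centWord k m) ([0] ++ wW ++ [0])) = true := by
  decide +kernel

end CfsgLib.Fi24Out
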