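import Cfsg.Agent.Lib.Fi24Out.Defs

/-!
# Kernel checks: generation
-/

set_option autoImplicit false
set_option maxRecDepth 100000

namespace CfsgLib.Fi24Out

open CfsgLib.PresCert

theorem chk_gen : sameW (Fi24P.witWord (symWords false wW) genWord)
      (upWord (Fi23P.scanReflWord qPath)) = true ∧
    Fi23P.genReach wU qPath esK (List.range 10) = true := by
  decide +kernel

end CfsgLib.Fi24Out
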