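import Cfsg.Agent.Lib.Fi24Out.Defs

/-!
# Kernel checks: the generators and their relations
-/

set_option autoImplicit false
set_option maxRecDepth 100000

namespace CfsgLib.Fi24Out

open CfsgLib.PresCert

theorem chk_letters :
    [wUs, wV, wH, pxU, pxV, qPath].all (fun w => w.all fun g => Nat.blt g 10) = true := by
  decide +kernel

theorem chk_orders : Fi23P.sameBase (powWord 23 wUs) [] = true ∧
    (Nat.blt 5 31671 && !(Nat.beq (Fi23P.fwalk wUs 5) 5)) = true ∧
    Fi23P.sameBase (powWord 11 wV) [] = true ∧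
    (Nat.blt 6 31671 && !(Nat.beq (Fi23P.fwalk wV 6) 6)) = true := by
  decide +kernel

theorem chk_norm : Fi23P.sameBase (wV.reverse ++ wU ++ wV) (powWord kk wU) = true := by
  decide +kernel

theorem chk_exponent : kk * kkInv % 23 = 1 := by decide +kernel

theorem shift_exists : ∀ j < 23, ∃ i < 23, (i * kkInv + j) % 23 = i := by decide +kernel

theorem exponent_cases : ∀ a < 23, a ≠ 0 →
    ∃ r : Fin 11, (kk ^ r.val * a) % 23 = 1 ∨ (kk ^ r.val * a) % 23 = 22 := by
  decide +kernel

theorem chk_third :
    (wW.all (fun g => Nat.blt g 12) && Nat.beq (wW.length % 2) 0) = true := by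
  decide +kernel

theorem chk_transversal :
    tWords.all (fun t => t.all (fun g => Nat.blt g 12) && Nat.beq (t.length % 2) 0 &&
      sameW (t ++ upWord wV) (upWord wV ++ t)) = true ∧
    (tWords.any (fun t => Nat.beq (Fi24P.tab.walk 0 t) 0) &&
      tWords.any (fun t => Nat.beq (Fi24P.tab.walk 0 t) 1) &&
      tWords.any (fun t => Nat.beq (Fi24P.tab.walk 0 t) (ptB + 1))) = true := by
  decide +kernel

theorem chk_orbit : (Nat.ble 1 midPt && Nat.ble midPt 31671 &&
    Nat.ble 1 (Fi24P.tab.walk 0 wW) && Nat.ble (Fi24P.tab.walk 0 wW) 31671 &&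
    Nat.ble 31672 (Fi24P.tab.walk midPt wW)) = true := by
  decide +kernel

theorem chk_outer : (Nat.blt outerPt 306936 &&
    !(Nat.beq (Fi24P.tab.walk outerPt ([0] ++ wW)) (Fi24P.tab.walk outerPt (wW ++ [0])))) =
      true := by
  decide +kernel

theorem chk_points :
    (Nat.blt testPt 306936 && relList.all fun e => Nat.blt e.2 306936) = true := by
  decide +kernel

theorem chk_relations : (sameW (powWord 3 wW) [] = true ∧
    (relList.all fun e => sameW (Fi24P.witWord (symWords false wW) e.1) []) = true) ∧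
    sameW (wW ++ upWord wV) (upWord wV ++ wW) = true := by
  decide +kernel

end CfsgLib.Fi24Out
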