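import Cfsg.Agent.Lib.PresCert.Fast

/-!
# Orbit representatives as paths from the first point (generated)
-/

set_option autoImplicit false
set_option maxRecDepth 100000

namespace CfsgLib.Fi24Out

/-- A part of the representatives. -/
def repsV_0 : List (List ℕ) :=
  [[],
    [7],
    [7, 6, 5],
    [7, 6, 5, 4],
    [7, 6, 5, 4, 3, 2],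
    [7, 6, 5, 4, 3, 2, 1],
    [7, 6, 5, 4, 3, 8, 9],
    [7, 6, 5, 4, 3, 2, 1, 0],
    [7, 6, 5, 4, 3, 2, 8, 3],
    [7, 6, 5, 4, 3, 2, 8, 9],
    [7, 6, 5, 4, 3, 2, 1, 0, 8],
    [7, 6, 5, 4, 3, 2, 1, 8, 9],
    [7, 6, 5, 4, 3, 2, 8, 3, 4],
    [7, 6, 5, 4, 3, 2, 8, 3, 9],
    [7, 6, 5, 4, 3, 2, 1, 0, 8, 3],
    [7, 6, 5, 4, 3, 2, 1, 0, 8, 9],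
    [7, 6, 5, 4, 3, 2, 1, 8, 3, 2],
    [7, 6, 5, 4, 3, 2, 8, 3, 4, 5],
    [7, 6, 5, 4, 3, 2, 8, 3, 4, 9],
    [7, 6, 5, 4, 3, 2, 8, 3, 9, 8],
    [7, 6, 5, 4, 3, 2, 1, 0, 8, 3, 2],
    [7, 6, 5, 4, 3, 2, 1, 0, 8, 3, 4],
    [7, 6, 5, 4, 3, 2, 1, 0, 8, 3, 9],
    [7, 6, 5, 4, 3, 2, 1, 8, 3, 2, 4],
    [7, 6, 5, 4, 3, 2, 1, 8, 3, 2, 9],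
    [7, 6, 5, 4, 3, 2, 1, 8, 3, 4, 5],
    [7, 6, 5, 4, 3, 2, 1, 8, 3, 4, 9],
    [7, 6, 5, 4, 3, 2, 8, 3, 4, 5, 9],
    [7, 6, 5, 4, 3, 2, 8, 3, 4, 9, 8],
    [7, 6, 5, 4, 3, 2, 1, 0, 8, 3, 2, 1],
    [7, 6, 5, 4, 3, 2, 1, 0, 8, 3, 2, 4],
    [7, 6, 5, 4, 3, 2, 1, 0, 8, 3, 2, 9],
    [7, 6, 5, 4, 3, 2, 1, 0, 8, 3, 4, 5],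
    [7, 6, 5, 4, 3, 2, 1, 0, 8, 3, 4, 9],
    [7, 6, 5, 4, 3, 2, 1, 0, 8, 3, 9, 8],
    [7, 6, 5, 4, 3, 2, 1, 8, 3, 2, 4, 3],
    [7, 6, 5, 4, 3, 2, 1, 8, 3, 2, 4, 5],
    [7, 6, 5, 4, 3, 2, 1, 8, 3, 2, 4, 9],
    [7, 6, 5, 4, 3, 2, 1, 8, 3, 4, 5, 6],
    [7, 6, 5, 4, 3, 2, 1, 8, 3, 4, 5, 9],
    [7, 6, 5, 4, 3, 2, 1, 8, 3, 4, 9, 8],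
    [7, 6, 5, 4, 3, 2, 8, 3, 4, 5, 6, 7],
    [7, 6, 5, 4, 3, 2, 8, 3, 4, 5, 6, 9],
    [7, 6, 5, 4, 3, 2, 8, 3, 4, 5, 9, 8],
    [7, 6, 5, 4, 3, 2, 1, 0, 8, 3, 2, 1, 4],
    [7, 6, 5, 4, 3, 2, 1, 0, 8, 3, 2, 1, 9],
    [7, 6, 5, 4, 3, 2, 1, 0, 8, 3, 2, 4, 3],
    [7, 6, 5, 4, 3, 2, 1, 0, 8, 3, 2, 4, 5],
    [7, 6, 5, 4, 3, 2, 1, 0, 8, 3, 2, 4, 9],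
    [7, 6, 5, 4, 3, 2, 1, 0, 8, 3, 2, 9, 8],
    [7, 6, 5, 4, 3, 2, 1, 0, 8, 3, 4, 5, 6],
    [7, 6, 5, 4, 3, 2, 1, 0, 8, 3, 4, 5, 9],
    [7, 6, 5, 4, 3, 2, 1, 0, 8, 3, 4, 9, 8],
    [7, 6, 5, 4, 3, 2, 1, 8, 3, 2, 4, 3, 5],
    [7, 6, 5, 4, 3, 2, 1, 8, 3, 2, 4, 3, 8],
    [7, 6, 5, 4, 3, 2, 1, 8, 3, 2, 4, 3, 9],
    [7, 6, 5, 4, 3, 2, 1, 8, 3, 2, 4, 5, 9],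
    [7, 6, 5, 4, 3, 2, 1, 8, 3, 2, 9, 8, 3],
    [7, 6, 5, 4, 3, 2, 1, 8, 3, 4, 5, 6, 7],
    [7, 6, 5, 4, 3, 2, 1, 8, 3, 4, 5, 6, 9],
    [7, 6, 5, 4, 3, 2, 1, 8, 3, 4, 5, 9, 8],
    [7, 6, 5, 4, 3, 2, 8, 3, 4, 5, 6, 7, 9],
    [7, 6, 5, 4, 3, 2, 8, 3, 4, 5, 9, 8, 3],
    [7, 6, 5, 4, 3, 2, 8, 3, 4, 9, 8, 3, 2],
    [7, 6, 5, 4, 3, 2, 1, 0, 8, 3, 2, 1, 4, 3],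
    [7, 6, 5, 4, 3, 2, 1, 0, 8, 3, 2, 1, 4, 9],
    [7, 6, 5, 4, 3, 2, 1, 0, 8, 3, 2, 1, 9, 8],
    [7, 6, 5, 4, 3, 2, 1, 0, 8, 3, 2, 4, 3, 5],
    [7, 6, 5, 4, 3, 2, 1, 0, 8, 3, 2, 4, 3, 8],
    [7, 6, 5, 4, 3, 2, 1, 0, 8, 3, 2, 4, 3, 9],
    [7, 6, 5, 4, 3, 2, 1, 0, 8, 3, 2, 4, 5, 9],
    [7, 6, 5, 4, 3, 2, 1, 0, 8, 3, 2, 4, 9, 8],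
    [7, 6, 5, 4, 3, 2, 1, 0, 8, 3, 4, 5, 6, 7],
    [7, 6, 5, 4, 3, 2, 1, 0, 8, 3, 4, 5, 6, 9],
    [7, 6, 5, 4, 3, 2, 1, 0, 8, 3, 4, 5, 9, 8],
    [7, 6, 5, 4, 3, 2, 1, 8, 3, 2, 4, 3, 5, 4],
    [7, 6, 5, 4, 3, 2, 1, 8, 3, 2, 4, 3, 5, 6],
    [7, 6, 5, 4, 3, 2, 1, 8, 3, 2, 4, 3, 5, 8],
    [7, 6, 5, 4, 3, 2, 1, 8, 3, 2, 4, 3, 5, 9],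
    [7, 6, 5, 4, 3, 2, 1, 8, 3, 2, 4, 3, 8, 9],
    [7, 6, 5, 4, 3, 2, 1, 8, 3, 2, 4, 3, 9, 8],
    [7, 6, 5, 4, 3, 2, 1, 8, 3, 2, 4, 5, 6, 7],
    [7, 6, 5, 4, 3, 2, 1, 8, 3, 2, 4, 5, 9, 8],
    [7, 6, 5, 4, 3, 2, 1, 8, 3, 2, 9, 8, 3, 4],
    [7, 6, 5, 4, 3, 2, 1, 8, 3, 4, 5, 6, 7, 9],
    [7, 6, 5, 4, 3, 2, 1, 8, 3, 4, 5, 6, 9, 8],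
    [7, 6, 5, 4, 3, 2, 1, 8, 3, 4, 9, 8, 3, 2],
    [7, 6, 5, 4, 3, 2, 8, 3, 4, 5, 6, 7, 9, 8],
    [7, 6, 5, 4, 3, 2, 8, 3, 4, 5, 6, 9, 8, 3],
    [7, 6, 5, 4, 3, 2, 8, 3, 4, 5, 9, 8, 3, 2],
    [7, 6, 5, 4, 3, 2, 8, 3, 4, 5, 9, 8, 3, 4],
    [7, 6, 5, 4, 3, 2, 1, 0, 8, 3, 2, 1, 4, 3, 2],
    [7, 6, 5, 4, 3, 2, 1, 0, 8, 3, 2, 1, 4, 3, 5],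
    [7, 6, 5, 4, 3, 2, 1, 0, 8, 3, 2, 1, 4, 3, 9],
    [7, 6, 5, 4, 3, 2, 1, 0, 8, 3, 2, 1, 4, 9, 8],
    [7, 6, 5, 4, 3, 2, 1, 0, 8, 3, 2, 1, 9, 8, 3],
    [7, 6, 5, 4, 3, 2, 1, 0, 8, 3, 2, 4, 3, 5, 4],
    [7, 6, 5, 4, 3, 2, 1, 0, 8, 3, 2, 4, 3, 5, 6],
    [7, 6, 5, 4, 3, 2, 1, 0, 8, 3, 2, 4, 3, 5, 8],
    [7, 6, 5, 4, 3, 2, 1, 0, 8, 3, 2, 4, 3, 5, 9],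
    [7, 6, 5, 4, 3, 2, 1, 0, 8, 3, 2, 4, 3, 8, 9],
    [7, 6, 5, 4, 3, 2, 1, 0, 8, 3, 2, 4, 3, 9, 8],
    [7, 6, 5, 4, 3, 2, 1, 0, 8, 3, 2, 4, 5, 6, 7],
    [7, 6, 5, 4, 3, 2, 1, 0, 8, 3, 2, 4, 5, 6, 9],
    [7, 6, 5, 4, 3, 2, 1, 0, 8, 3, 2, 4, 5, 9, 8],
    [7, 6, 5, 4, 3, 2, 1, 0, 8, 3, 2, 4, 9, 8, 3],
    [7, 6, 5, 4, 3, 2, 1, 0, 8, 3, 2, 9, 8, 3, 4],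
    [7, 6, 5, 4, 3, 2, 1, 0, 8, 3, 4, 5, 6, 7, 9],
    [7, 6, 5, 4, 3, 2, 1, 0, 8, 3, 4, 5, 6, 9, 8],
    [7, 6, 5, 4, 3, 2, 1, 0, 8, 3, 4, 9, 8, 3, 2],
    [7, 6, 5, 4, 3, 2, 1, 8, 3, 2, 4, 3, 5, 4, 6],
    [7, 6, 5, 4, 3, 2, 1, 8, 3, 2, 4, 3, 5, 4, 8],
    [7, 6, 5, 4, 3, 2, 1, 8, 3, 2, 4, 3, 5, 4, 9],
    [7, 6, 5, 4, 3, 2, 1, 8, 3, 2, 4, 3, 5, 6, 7],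
    [7, 6, 5, 4, 3, 2, 1, 8, 3, 2, 4, 3, 5, 6, 9],
    [7, 6, 5, 4, 3, 2, 1, 8, 3, 2, 4, 3, 5, 8, 9],
    [7, 6, 5, 4, 3, 2, 1, 8, 3, 2, 4, 3, 5, 9, 8],
    [7, 6, 5, 4, 3, 2, 1, 8, 3, 2, 4, 3, 8, 9, 8],
    [7, 6, 5, 4, 3, 2, 1, 8, 3, 2, 4, 5, 6, 7, 9],
    [7, 6, 5, 4, 3, 2, 1, 8, 3, 2, 4, 5, 9, 8, 3],
    [7, 6, 5, 4, 3, 2, 1, 8, 3, 2, 4, 9, 8, 3, 2],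
    [7, 6, 5, 4, 3, 2, 1, 8, 3, 2, 9, 8, 3, 4, 5],
    [7, 6, 5, 4, 3, 2, 1, 8, 3, 4, 5, 6, 7, 9, 8],
    [7, 6, 5, 4, 3, 2, 1, 8, 3, 4, 5, 9, 8, 3, 2],
    [7, 6, 5, 4, 3, 2, 1, 8, 3, 4, 9, 8, 3, 2, 1],
    [7, 6, 5, 4, 3, 2, 8, 3, 4, 5, 6, 9, 8, 3, 4],
    [7, 6, 5, 4, 3, 2, 8, 3, 4, 5, 9, 8, 3, 2, 1],
    [7, 6, 5, 4, 3, 2, 8, 3, 4, 9, 8, 3, 2, 1, 0]]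

/-- A part of the representatives. -/
def repsV_1 : List (List ℕ) :=
  [[7, 6, 5, 4, 3, 2, 1, 0, 8, 3, 2, 1, 4, 3, 2, 5],
    [7, 6, 5, 4, 3, 2, 1, 0, 8, 3, 2, 1, 4, 3, 2, 8],
    [7, 6, 5, 4, 3, 2, 1, 0, 8, 3, 2, 1, 4, 3, 2, 9],
    [7, 6, 5, 4, 3, 2, 1, 0, 8, 3, 2, 1, 4, 3, 5, 4],
    [7, 6, 5, 4, 3, 2, 1, 0, 8, 3, 2, 1, 4, 3, 5, 6],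
    [7, 6, 5, 4, 3, 2, 1, 0, 8, 3, 2, 1, 4, 3, 5, 8],
    [7, 6, 5, 4, 3, 2, 1, 0, 8, 3, 2, 1, 4, 3, 5, 9],
    [7, 6, 5, 4, 3, 2, 1, 0, 8, 3, 2, 1, 4, 3, 8, 9],
    [7, 6, 5, 4, 3, 2, 1, 0, 8, 3, 2, 1, 4, 3, 9, 8],
    [7, 6, 5, 4, 3, 2, 1, 0, 8, 3, 2, 1, 4, 5, 6, 7],
    [7, 6, 5, 4, 3, 2, 1, 0, 8, 3, 2, 1, 4, 5, 6, 9],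
    [7, 6, 5, 4, 3, 2, 1, 0, 8, 3, 2, 1, 9, 8, 3, 2],
    [7, 6, 5, 4, 3, 2, 1, 0, 8, 3, 2, 4, 3, 5, 4, 6],
    [7, 6, 5, 4, 3, 2, 1, 0, 8, 3, 2, 4, 3, 5, 4, 8],
    [7, 6, 5, 4, 3, 2, 1, 0, 8, 3, 2, 4, 3, 5, 4, 9],
    [7, 6, 5, 4, 3, 2, 1, 0, 8, 3, 2, 4, 3, 5, 6, 7],
    [7, 6, 5, 4, 3, 2, 1, 0, 8, 3, 2, 4, 3, 5, 6, 9],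
    [7, 6, 5, 4, 3, 2, 1, 0, 8, 3, 2, 4, 3, 5, 8, 9],
    [7, 6, 5, 4, 3, 2, 1, 0, 8, 3, 2, 4, 3, 5, 9, 8],
    [7, 6, 5, 4, 3, 2, 1, 0, 8, 3, 2, 4, 3, 8, 9, 8],
    [7, 6, 5, 4, 3, 2, 1, 0, 8, 3, 2, 4, 3, 9, 8, 3],
    [7, 6, 5, 4, 3, 2, 1, 0, 8, 3, 2, 4, 5, 6, 7, 9],
    [7, 6, 5, 4, 3, 2, 1, 0, 8, 3, 2, 4, 5, 9, 8, 3],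
    [7, 6, 5, 4, 3, 2, 1, 0, 8, 3, 2, 4, 9, 8, 3, 2],
    [7, 6, 5, 4, 3, 2, 1, 0, 8, 3, 2, 4, 9, 8, 3, 4],
    [7, 6, 5, 4, 3, 2, 1, 0, 8, 3, 2, 9, 8, 3, 4, 5],
    [7, 6, 5, 4, 3, 2, 1, 0, 8, 3, 4, 5, 6, 7, 9, 8],
    [7, 6, 5, 4, 3, 2, 1, 0, 8, 3, 4, 5, 6, 9, 8, 3],
    [7, 6, 5, 4, 3, 2, 1, 0, 8, 3, 4, 5, 9, 8, 3, 2],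
    [7, 6, 5, 4, 3, 2, 1, 0, 8, 3, 4, 9, 8, 3, 2, 1],
    [7, 6, 5, 4, 3, 2, 1, 8, 3, 2, 4, 3, 5, 4, 6, 5],
    [7, 6, 5, 4, 3, 2, 1, 8, 3, 2, 4, 3, 5, 4, 6, 7],
    [7, 6, 5, 4, 3, 2, 1, 8, 3, 2, 4, 3, 5, 4, 6, 9],
    [7, 6, 5, 4, 3, 2, 1, 8, 3, 2, 4, 3, 5, 4, 8, 9],
    [7, 6, 5, 4, 3, 2, 1, 8, 3, 2, 4, 3, 5, 4, 9, 8],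
    [7, 6, 5, 4, 3, 2, 1, 8, 3, 2, 4, 3, 5, 6, 7, 9],
    [7, 6, 5, 4, 3, 2, 1, 8, 3, 2, 4, 3, 5, 6, 8, 9],
    [7, 6, 5, 4, 3, 2, 1, 8, 3, 2, 4, 3, 5, 8, 9, 8],
    [7, 6, 5, 4, 3, 2, 1, 8, 3, 2, 4, 3, 5, 9, 8, 3],
    [7, 6, 5, 4, 3, 2, 1, 8, 3, 2, 4, 3, 9, 8, 3, 2],
    [7, 6, 5, 4, 3, 2, 1, 8, 3, 2, 4, 5, 6, 7, 9, 8],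
    [7, 6, 5, 4, 3, 2, 1, 8, 3, 2, 4, 5, 6, 9, 8, 3],
    [7, 6, 5, 4, 3, 2, 1, 8, 3, 2, 4, 5, 9, 8, 3, 2],
    [7, 6, 5, 4, 3, 2, 1, 8, 3, 2, 4, 5, 9, 8, 3, 4],
    [7, 6, 5, 4, 3, 2, 1, 8, 3, 2, 4, 9, 8, 3, 2, 1],
    [7, 6, 5, 4, 3, 2, 1, 8, 3, 2, 4, 9, 8, 3, 2, 4],
    [7, 6, 5, 4, 3, 2, 1, 8, 3, 2, 4, 9, 8, 3, 4, 5],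
    [7, 6, 5, 4, 3, 2, 1, 8, 3, 4, 5, 9, 8, 3, 2, 1],
    [7, 6, 5, 4, 3, 2, 1, 8, 3, 4, 5, 9, 8, 3, 2, 4],
    [7, 6, 5, 4, 3, 2, 8, 3, 4, 5, 6, 7, 9, 8, 3, 2],
    [7, 6, 5, 4, 3, 2, 8, 3, 4, 5, 6, 7, 9, 8, 3, 4],
    [7, 6, 5, 4, 3, 2, 8, 3, 4, 5, 6, 9, 8, 3, 4, 5],
    [7, 6, 5, 4, 3, 2, 8, 3, 4, 5, 9, 8, 3, 2, 1, 4],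
    [7, 6, 5, 4, 3, 2, 8, 3, 4, 5, 9, 8, 3, 2, 4, 3],
    [7, 6, 5, 4, 3, 2, 1, 0, 8, 3, 2, 1, 4, 3, 2, 5, 4],
    [7, 6, 5, 4, 3, 2, 1, 0, 8, 3, 2, 1, 4, 3, 2, 5, 9],
    [7, 6, 5, 4, 3, 2, 1, 0, 8, 3, 2, 1, 4, 3, 2, 8, 3],
    [7, 6, 5, 4, 3, 2, 1, 0, 8, 3, 2, 1, 4, 3, 2, 8, 9],
    [7, 6, 5, 4, 3, 2, 1, 0, 8, 3, 2, 1, 4, 3, 2, 9, 8],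
    [7, 6, 5, 4, 3, 2, 1, 0, 8, 3, 2, 1, 4, 3, 5, 4, 6],
    [7, 6, 5, 4, 3, 2, 1, 0, 8, 3, 2, 1, 4, 3, 5, 4, 8],
    [7, 6, 5, 4, 3, 2, 1, 0, 8, 3, 2, 1, 4, 3, 5, 4, 9],
    [7, 6, 5, 4, 3, 2, 1, 0, 8, 3, 2, 1, 4, 3, 5, 6, 7],
    [7, 6, 5, 4, 3, 2, 1, 0, 8, 3, 2, 1, 4, 3, 5, 6, 8],
    [7, 6, 5, 4, 3, 2, 1, 0, 8, 3, 2, 1, 4, 3, 5, 6, 9],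
    [7, 6, 5, 4, 3, 2, 1, 0, 8, 3, 2, 1, 4, 3, 5, 8, 9],
    [7, 6, 5, 4, 3, 2, 1, 0, 8, 3, 2, 1, 4, 3, 5, 9, 8],
    [7, 6, 5, 4, 3, 2, 1, 0, 8, 3, 2, 1, 4, 5, 6, 7, 9],
    [7, 6, 5, 4, 3, 2, 1, 0, 8, 3, 2, 1, 4, 9, 8, 3, 2],
    [7, 6, 5, 4, 3, 2, 1, 0, 8, 3, 2, 1, 9, 8, 3, 2, 4],
    [7, 6, 5, 4, 3, 2, 1, 0, 8, 3, 2, 4, 3, 5, 4, 6, 5],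
    [7, 6, 5, 4, 3, 2, 1, 0, 8, 3, 2, 4, 3, 5, 4, 6, 7],
    [7, 6, 5, 4, 3, 2, 1, 0, 8, 3, 2, 4, 3, 5, 4, 6, 9],
    [7, 6, 5, 4, 3, 2, 1, 0, 8, 3, 2, 4, 3, 5, 4, 8, 3],
    [7, 6, 5, 4, 3, 2, 1, 0, 8, 3, 2, 4, 3, 5, 4, 8, 9],
    [7, 6, 5, 4, 3, 2, 1, 0, 8, 3, 2, 4, 3, 5, 4, 9, 8],
    [7, 6, 5, 4, 3, 2, 1, 0, 8, 3, 2, 4, 3, 5, 6, 7, 9],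
    [7, 6, 5, 4, 3, 2, 1, 0, 8, 3, 2, 4, 3, 5, 6, 8, 9],
    [7, 6, 5, 4, 3, 2, 1, 0, 8, 3, 2, 4, 3, 8, 9, 8, 3],
    [7, 6, 5, 4, 3, 2, 1, 0, 8, 3, 2, 4, 3, 9, 8, 3, 2],
    [7, 6, 5, 4, 3, 2, 1, 0, 8, 3, 2, 4, 3, 9, 8, 3, 4],
    [7, 6, 5, 4, 3, 2, 1, 0, 8, 3, 2, 4, 5, 6, 7, 9, 8],
    [7, 6, 5, 4, 3, 2, 1, 0, 8, 3, 2, 4, 5, 9, 8, 3, 2],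
    [7, 6, 5, 4, 3, 2, 1, 0, 8, 3, 2, 4, 5, 9, 8, 3, 4],
    [7, 6, 5, 4, 3, 2, 1, 0, 8, 3, 2, 4, 9, 8, 3, 2, 1],
    [7, 6, 5, 4, 3, 2, 1, 0, 8, 3, 2, 4, 9, 8, 3, 2, 4],
    [7, 6, 5, 4, 3, 2, 1, 0, 8, 3, 2, 4, 9, 8, 3, 4, 5],
    [7, 6, 5, 4, 3, 2, 1, 0, 8, 3, 4, 5, 6, 7, 9, 8, 3],
    [7, 6, 5, 4, 3, 2, 1, 0, 8, 3, 4, 5, 6, 9, 8, 3, 4],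
    [7, 6, 5, 4, 3, 2, 1, 0, 8, 3, 4, 5, 9, 8, 3, 2, 1],
    [7, 6, 5, 4, 3, 2, 1, 0, 8, 3, 4, 5, 9, 8, 3, 2, 4],
    [7, 6, 5, 4, 3, 2, 1, 8, 3, 2, 4, 3, 5, 4, 6, 5, 7],
    [7, 6, 5, 4, 3, 2, 1, 8, 3, 2, 4, 3, 5, 4, 6, 5, 9],
    [7, 6, 5, 4, 3, 2, 1, 8, 3, 2, 4, 3, 5, 4, 6, 7, 8],
    [7, 6, 5, 4, 3, 2, 1, 8, 3, 2, 4, 3, 5, 4, 6, 7, 9],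
    [7, 6, 5, 4, 3, 2, 1, 8, 3, 2, 4, 3, 5, 4, 6, 8, 9],
    [7, 6, 5, 4, 3, 2, 1, 8, 3, 2, 4, 3, 5, 4, 8, 9, 8],
    [7, 6, 5, 4, 3, 2, 1, 8, 3, 2, 4, 3, 5, 6, 7, 8, 9],
    [7, 6, 5, 4, 3, 2, 1, 8, 3, 2, 4, 3, 5, 6, 7, 9, 8],
    [7, 6, 5, 4, 3, 2, 1, 8, 3, 2, 4, 3, 5, 6, 8, 9, 8],
    [7, 6, 5, 4, 3, 2, 1, 8, 3, 2, 4, 3, 5, 6, 9, 8, 3],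
    [7, 6, 5, 4, 3, 2, 1, 8, 3, 2, 4, 3, 5, 8, 9, 8, 3],
    [7, 6, 5, 4, 3, 2, 1, 8, 3, 2, 4, 3, 5, 9, 8, 3, 2],
    [7, 6, 5, 4, 3, 2, 1, 8, 3, 2, 4, 3, 5, 9, 8, 3, 4],
    [7, 6, 5, 4, 3, 2, 1, 8, 3, 2, 4, 3, 8, 9, 8, 3, 2],
    [7, 6, 5, 4, 3, 2, 1, 8, 3, 2, 4, 3, 9, 8, 3, 2, 1],
    [7, 6, 5, 4, 3, 2, 1, 8, 3, 2, 4, 3, 9, 8, 3, 2, 4],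
    [7, 6, 5, 4, 3, 2, 1, 8, 3, 2, 4, 3, 9, 8, 3, 4, 5],
    [7, 6, 5, 4, 3, 2, 1, 8, 3, 2, 4, 5, 6, 7, 9, 8, 3],
    [7, 6, 5, 4, 3, 2, 1, 8, 3, 2, 4, 5, 6, 9, 8, 3, 2],
    [7, 6, 5, 4, 3, 2, 1, 8, 3, 2, 4, 5, 6, 9, 8, 3, 4],
    [7, 6, 5, 4, 3, 2, 1, 8, 3, 2, 4, 5, 9, 8, 3, 2, 1],
    [7, 6, 5, 4, 3, 2, 1, 8, 3, 2, 4, 5, 9, 8, 3, 4, 5],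
    [7, 6, 5, 4, 3, 2, 1, 8, 3, 2, 4, 9, 8, 3, 2, 1, 0],
    [7, 6, 5, 4, 3, 2, 1, 8, 3, 2, 4, 9, 8, 3, 2, 1, 4],
    [7, 6, 5, 4, 3, 2, 1, 8, 3, 2, 4, 9, 8, 3, 2, 4, 5],
    [7, 6, 5, 4, 3, 2, 1, 8, 3, 2, 4, 9, 8, 3, 4, 5, 6],
    [7, 6, 5, 4, 3, 2, 1, 8, 3, 2, 9, 8, 3, 4, 5, 6, 7],
    [7, 6, 5, 4, 3, 2, 1, 8, 3, 4, 5, 6, 7, 9, 8, 3, 2],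
    [7, 6, 5, 4, 3, 2, 1, 8, 3, 4, 5, 6, 9, 8, 3, 4, 5],
    [7, 6, 5, 4, 3, 2, 1, 8, 3, 4, 5, 9, 8, 3, 2, 4, 3],
    [7, 6, 5, 4, 3, 2, 8, 3, 4, 5, 6, 7, 9, 8, 3, 2, 1],
    [7, 6, 5, 4, 3, 2, 8, 3, 4, 5, 6, 7, 9, 8, 3, 2, 4],
    [7, 6, 5, 4, 3, 2, 8, 3, 4, 5, 6, 7, 9, 8, 3, 4, 5],
    [7, 6, 5, 4, 3, 2, 8, 3, 4, 5, 6, 9, 8, 3, 2, 4, 3],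
    [7, 6, 5, 4, 3, 2, 1, 0, 8, 3, 2, 1, 4, 3, 2, 5, 4, 8],
    [7, 6, 5, 4, 3, 2, 1, 0, 8, 3, 2, 1, 4, 3, 2, 5, 4, 9],
    [7, 6, 5, 4, 3, 2, 1, 0, 8, 3, 2, 1, 4, 3, 2, 5, 6, 7]]

/-- A part of the representatives. -/
def repsV_2 : List (List ℕ) :=
  [[7, 6, 5, 4, 3, 2, 1, 0, 8, 3, 2, 1, 4, 3, 2, 5, 6, 9],
    [7, 6, 5, 4, 3, 2, 1, 0, 8, 3, 2, 1, 4, 3, 2, 5, 8, 3],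
    [7, 6, 5, 4, 3, 2, 1, 0, 8, 3, 2, 1, 4, 3, 2, 5, 8, 9],
    [7, 6, 5, 4, 3, 2, 1, 0, 8, 3, 2, 1, 4, 3, 2, 8, 3, 9],
    [7, 6, 5, 4, 3, 2, 1, 0, 8, 3, 2, 1, 4, 3, 2, 9, 8, 3],
    [7, 6, 5, 4, 3, 2, 1, 0, 8, 3, 2, 1, 4, 3, 5, 4, 6, 7],
    [7, 6, 5, 4, 3, 2, 1, 0, 8, 3, 2, 1, 4, 3, 5, 4, 6, 8],
    [7, 6, 5, 4, 3, 2, 1, 0, 8, 3, 2, 1, 4, 3, 5, 4, 6, 9],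
    [7, 6, 5, 4, 3, 2, 1, 0, 8, 3, 2, 1, 4, 3, 5, 4, 8, 9],
    [7, 6, 5, 4, 3, 2, 1, 0, 8, 3, 2, 1, 4, 3, 5, 4, 9, 8],
    [7, 6, 5, 4, 3, 2, 1, 0, 8, 3, 2, 1, 4, 3, 5, 6, 7, 8],
    [7, 6, 5, 4, 3, 2, 1, 0, 8, 3, 2, 1, 4, 3, 5, 6, 7, 9],
    [7, 6, 5, 4, 3, 2, 1, 0, 8, 3, 2, 1, 4, 3, 5, 6, 8, 9],
    [7, 6, 5, 4, 3, 2, 1, 0, 8, 3, 2, 1, 4, 3, 5, 6, 9, 8],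
    [7, 6, 5, 4, 3, 2, 1, 0, 8, 3, 2, 1, 4, 3, 5, 8, 9, 8],
    [7, 6, 5, 4, 3, 2, 1, 0, 8, 3, 2, 1, 4, 5, 6, 7, 9, 8],
    [7, 6, 5, 4, 3, 2, 1, 0, 8, 3, 2, 1, 4, 5, 6, 9, 8, 3],
    [7, 6, 5, 4, 3, 2, 1, 0, 8, 3, 2, 1, 4, 5, 9, 8, 3, 2],
    [7, 6, 5, 4, 3, 2, 1, 0, 8, 3, 2, 1, 4, 9, 8, 3, 2, 1],
    [7, 6, 5, 4, 3, 2, 1, 0, 8, 3, 2, 1, 4, 9, 8, 3, 2, 4],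
    [7, 6, 5, 4, 3, 2, 1, 0, 8, 3, 2, 1, 4, 9, 8, 3, 4, 5],
    [7, 6, 5, 4, 3, 2, 1, 0, 8, 3, 2, 1, 9, 8, 3, 2, 4, 3],
    [7, 6, 5, 4, 3, 2, 1, 0, 8, 3, 2, 4, 3, 5, 4, 6, 5, 8],
    [7, 6, 5, 4, 3, 2, 1, 0, 8, 3, 2, 4, 3, 5, 4, 6, 5, 9],
    [7, 6, 5, 4, 3, 2, 1, 0, 8, 3, 2, 4, 3, 5, 4, 6, 7, 8],
    [7, 6, 5, 4, 3, 2, 1, 0, 8, 3, 2, 4, 3, 5, 4, 6, 7, 9],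
    [7, 6, 5, 4, 3, 2, 1, 0, 8, 3, 2, 4, 3, 5, 4, 6, 8, 9],
    [7, 6, 5, 4, 3, 2, 1, 0, 8, 3, 2, 4, 3, 5, 4, 8, 3, 2],
    [7, 6, 5, 4, 3, 2, 1, 0, 8, 3, 2, 4, 3, 5, 4, 8, 9, 8],
    [7, 6, 5, 4, 3, 2, 1, 0, 8, 3, 2, 4, 3, 5, 6, 7, 8, 9],
    [7, 6, 5, 4, 3, 2, 1, 0, 8, 3, 2, 4, 3, 5, 6, 7, 9, 8],
    [7, 6, 5, 4, 3, 2, 1, 0, 8, 3, 2, 4, 3, 5, 6, 8, 9, 8],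
    [7, 6, 5, 4, 3, 2, 1, 0, 8, 3, 2, 4, 3, 5, 9, 8, 3, 2],
    [7, 6, 5, 4, 3, 2, 1, 0, 8, 3, 2, 4, 3, 8, 9, 8, 3, 2],
    [7, 6, 5, 4, 3, 2, 1, 0, 8, 3, 2, 4, 3, 8, 9, 8, 3, 4],
    [7, 6, 5, 4, 3, 2, 1, 0, 8, 3, 2, 4, 3, 9, 8, 3, 2, 1],
    [7, 6, 5, 4, 3, 2, 1, 0, 8, 3, 2, 4, 3, 9, 8, 3, 2, 4],
    [7, 6, 5, 4, 3, 2, 1, 0, 8, 3, 2, 4, 3, 9, 8, 3, 4, 5],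
    [7, 6, 5, 4, 3, 2, 1, 0, 8, 3, 2, 4, 5, 6, 9, 8, 3, 2],
    [7, 6, 5, 4, 3, 2, 1, 0, 8, 3, 2, 4, 5, 9, 8, 3, 2, 1],
    [7, 6, 5, 4, 3, 2, 1, 0, 8, 3, 2, 4, 5, 9, 8, 3, 2, 4],
    [7, 6, 5, 4, 3, 2, 1, 0, 8, 3, 2, 4, 5, 9, 8, 3, 4, 5],
    [7, 6, 5, 4, 3, 2, 1, 0, 8, 3, 2, 4, 9, 8, 3, 2, 1, 0],
    [7, 6, 5, 4, 3, 2, 1, 0, 8, 3, 2, 4, 9, 8, 3, 2, 1, 4],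
    [7, 6, 5, 4, 3, 2, 1, 0, 8, 3, 2, 4, 9, 8, 3, 2, 4, 5],
    [7, 6, 5, 4, 3, 2, 1, 0, 8, 3, 2, 4, 9, 8, 3, 4, 5, 6],
    [7, 6, 5, 4, 3, 2, 1, 0, 8, 3, 2, 9, 8, 3, 4, 5, 6, 7],
    [7, 6, 5, 4, 3, 2, 1, 0, 8, 3, 4, 5, 6, 7, 9, 8, 3, 2],
    [7, 6, 5, 4, 3, 2, 1, 0, 8, 3, 4, 5, 6, 7, 9, 8, 3, 4],
    [7, 6, 5, 4, 3, 2, 1, 0, 8, 3, 4, 5, 6, 9, 8, 3, 2, 1],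
    [7, 6, 5, 4, 3, 2, 1, 0, 8, 3, 4, 5, 6, 9, 8, 3, 4, 5],
    [7, 6, 5, 4, 3, 2, 1, 0, 8, 3, 4, 5, 9, 8, 3, 2, 1, 0],
    [7, 6, 5, 4, 3, 2, 1, 0, 8, 3, 4, 5, 9, 8, 3, 2, 1, 4],
    [7, 6, 5, 4, 3, 2, 1, 0, 8, 3, 4, 5, 9, 8, 3, 2, 4, 3],
    [7, 6, 5, 4, 3, 2, 1, 8, 3, 2, 4, 3, 5, 4, 6, 5, 7, 6],
    [7, 6, 5, 4, 3, 2, 1, 8, 3, 2, 4, 3, 5, 4, 6, 5, 7, 8],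
    [7, 6, 5, 4, 3, 2, 1, 8, 3, 2, 4, 3, 5, 4, 6, 5, 7, 9],
    [7, 6, 5, 4, 3, 2, 1, 8, 3, 2, 4, 3, 5, 4, 6, 5, 8, 3],
    [7, 6, 5, 4, 3, 2, 1, 8, 3, 2, 4, 3, 5, 4, 6, 5, 8, 9],
    [7, 6, 5, 4, 3, 2, 1, 8, 3, 2, 4, 3, 5, 4, 6, 7, 8, 3],
    [7, 6, 5, 4, 3, 2, 1, 8, 3, 2, 4, 3, 5, 4, 6, 7, 8, 9],
    [7, 6, 5, 4, 3, 2, 1, 8, 3, 2, 4, 3, 5, 4, 6, 7, 9, 8],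
    [7, 6, 5, 4, 3, 2, 1, 8, 3, 2, 4, 3, 5, 4, 6, 8, 9, 8],
    [7, 6, 5, 4, 3, 2, 1, 8, 3, 2, 4, 3, 5, 4, 8, 3, 2, 1],
    [7, 6, 5, 4, 3, 2, 1, 8, 3, 2, 4, 3, 5, 4, 8, 3, 9, 8],
    [7, 6, 5, 4, 3, 2, 1, 8, 3, 2, 4, 3, 5, 4, 9, 8, 3, 2],
    [7, 6, 5, 4, 3, 2, 1, 8, 3, 2, 4, 3, 5, 6, 7, 8, 9, 8],
    [7, 6, 5, 4, 3, 2, 1, 8, 3, 2, 4, 3, 5, 6, 7, 9, 8, 3],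
    [7, 6, 5, 4, 3, 2, 1, 8, 3, 2, 4, 3, 5, 6, 8, 9, 8, 3],
    [7, 6, 5, 4, 3, 2, 1, 8, 3, 2, 4, 3, 5, 6, 9, 8, 3, 4],
    [7, 6, 5, 4, 3, 2, 1, 8, 3, 2, 4, 3, 5, 8, 9, 8, 3, 2],
    [7, 6, 5, 4, 3, 2, 1, 8, 3, 2, 4, 3, 5, 8, 9, 8, 3, 4],
    [7, 6, 5, 4, 3, 2, 1, 8, 3, 2, 4, 3, 5, 9, 8, 3, 2, 1],
    [7, 6, 5, 4, 3, 2, 1, 8, 3, 2, 4, 3, 5, 9, 8, 3, 4, 5],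
    [7, 6, 5, 4, 3, 2, 1, 8, 3, 2, 4, 3, 8, 9, 8, 3, 2, 1],
    [7, 6, 5, 4, 3, 2, 1, 8, 3, 2, 4, 3, 8, 9, 8, 3, 2, 4],
    [7, 6, 5, 4, 3, 2, 1, 8, 3, 2, 4, 3, 8, 9, 8, 3, 4, 5],
    [7, 6, 5, 4, 3, 2, 1, 8, 3, 2, 4, 3, 9, 8, 3, 2, 1, 0],
    [7, 6, 5, 4, 3, 2, 1, 8, 3, 2, 4, 3, 9, 8, 3, 2, 1, 4],
    [7, 6, 5, 4, 3, 2, 1, 8, 3, 2, 4, 3, 9, 8, 3, 2, 4, 5],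
    [7, 6, 5, 4, 3, 2, 1, 8, 3, 2, 4, 3, 9, 8, 3, 4, 5, 6],
    [7, 6, 5, 4, 3, 2, 1, 8, 3, 2, 4, 5, 6, 7, 9, 8, 3, 2],
    [7, 6, 5, 4, 3, 2, 1, 8, 3, 2, 4, 5, 6, 7, 9, 8, 3, 4],
    [7, 6, 5, 4, 3, 2, 1, 8, 3, 2, 4, 5, 6, 9, 8, 3, 2, 1],
    [7, 6, 5, 4, 3, 2, 1, 8, 3, 2, 4, 5, 6, 9, 8, 3, 2, 4],
    [7, 6, 5, 4, 3, 2, 1, 8, 3, 2, 4, 5, 9, 8, 3, 2, 1, 0],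
    [7, 6, 5, 4, 3, 2, 1, 8, 3, 2, 4, 5, 9, 8, 3, 2, 1, 4],
    [7, 6, 5, 4, 3, 2, 1, 8, 3, 2, 4, 5, 9, 8, 3, 2, 4, 3],
    [7, 6, 5, 4, 3, 2, 1, 8, 3, 2, 4, 5, 9, 8, 3, 2, 4, 5],
    [7, 6, 5, 4, 3, 2, 1, 8, 3, 2, 4, 5, 9, 8, 3, 4, 5, 6],
    [7, 6, 5, 4, 3, 2, 1, 8, 3, 2, 4, 9, 8, 3, 2, 1, 0, 4],
    [7, 6, 5, 4, 3, 2, 1, 8, 3, 2, 4, 9, 8, 3, 2, 1, 4, 5],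
    [7, 6, 5, 4, 3, 2, 1, 8, 3, 2, 4, 9, 8, 3, 4, 5, 6, 7],
    [7, 6, 5, 4, 3, 2, 1, 8, 3, 4, 5, 6, 7, 9, 8, 3, 2, 1],
    [7, 6, 5, 4, 3, 2, 1, 8, 3, 4, 5, 6, 7, 9, 8, 3, 2, 4],
    [7, 6, 5, 4, 3, 2, 1, 8, 3, 4, 5, 6, 7, 9, 8, 3, 4, 5],
    [7, 6, 5, 4, 3, 2, 1, 8, 3, 4, 5, 6, 9, 8, 3, 2, 1, 0],
    [7, 6, 5, 4, 3, 2, 1, 8, 3, 4, 5, 6, 9, 8, 3, 2, 4, 3],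
    [7, 6, 5, 4, 3, 2, 1, 8, 3, 4, 5, 9, 8, 3, 2, 1, 4, 3],
    [7, 6, 5, 4, 3, 2, 8, 3, 4, 5, 6, 7, 9, 8, 3, 2, 1, 4],
    [7, 6, 5, 4, 3, 2, 8, 3, 4, 5, 6, 7, 9, 8, 3, 2, 4, 3],
    [7, 6, 5, 4, 3, 2, 8, 3, 4, 5, 6, 7, 9, 8, 3, 2, 4, 5],
    [7, 6, 5, 4, 3, 2, 8, 3, 4, 5, 6, 7, 9, 8, 3, 4, 5, 6],
    [7, 6, 5, 4, 3, 2, 8, 3, 4, 5, 6, 9, 8, 3, 2, 1, 4, 5],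
    [7, 6, 5, 4, 3, 2, 8, 3, 4, 5, 6, 9, 8, 3, 2, 4, 3, 5],
    [7, 6, 5, 4, 3, 2, 8, 3, 4, 5, 6, 9, 8, 3, 2, 4, 3, 8],
    [7, 6, 5, 4, 3, 2, 1, 0, 8, 3, 2, 1, 4, 3, 2, 5, 4, 3, 9],
    [7, 6, 5, 4, 3, 2, 1, 0, 8, 3, 2, 1, 4, 3, 2, 5, 4, 6, 5],
    [7, 6, 5, 4, 3, 2, 1, 0, 8, 3, 2, 1, 4, 3, 2, 5, 4, 6, 7],
    [7, 6, 5, 4, 3, 2, 1, 0, 8, 3, 2, 1, 4, 3, 2, 5, 4, 6, 9],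
    [7, 6, 5, 4, 3, 2, 1, 0, 8, 3, 2, 1, 4, 3, 2, 5, 4, 8, 9],
    [7, 6, 5, 4, 3, 2, 1, 0, 8, 3, 2, 1, 4, 3, 2, 5, 4, 9, 8],
    [7, 6, 5, 4, 3, 2, 1, 0, 8, 3, 2, 1, 4, 3, 2, 5, 6, 7, 8],
    [7, 6, 5, 4, 3, 2, 1, 0, 8, 3, 2, 1, 4, 3, 2, 5, 6, 7, 9],
    [7, 6, 5, 4, 3, 2, 1, 0, 8, 3, 2, 1, 4, 3, 2, 5, 6, 8, 3],
    [7, 6, 5, 4, 3, 2, 1, 0, 8, 3, 2, 1, 4, 3, 2, 5, 6, 8, 9],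
    [7, 6, 5, 4, 3, 2, 1, 0, 8, 3, 2, 1, 4, 3, 2, 5, 8, 3, 9],
    [7, 6, 5, 4, 3, 2, 1, 0, 8, 3, 2, 1, 4, 3, 2, 8, 3, 4, 9],
    [7, 6, 5, 4, 3, 2, 1, 0, 8, 3, 2, 1, 4, 3, 2, 9, 8, 3, 2],
    [7, 6, 5, 4, 3, 2, 1, 0, 8, 3, 2, 1, 4, 3, 2, 9, 8, 3, 4],
    [7, 6, 5, 4, 3, 2, 1, 0, 8, 3, 2, 1, 4, 3, 5, 4, 6, 7, 8],
    [7, 6, 5, 4, 3, 2, 1, 0, 8, 3, 2, 1, 4, 3, 5, 4, 6, 7, 9],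
    [7, 6, 5, 4, 3, 2, 1, 0, 8, 3, 2, 1, 4, 3, 5, 4, 6, 8, 9],
    [7, 6, 5, 4, 3, 2, 1, 0, 8, 3, 2, 1, 4, 3, 5, 4, 6, 9, 8],
    [7, 6, 5, 4, 3, 2, 1, 0, 8, 3, 2, 1, 4, 3, 5, 4, 8, 3, 9],
    [7, 6, 5, 4, 3, 2, 1, 0, 8, 3, 2, 1, 4, 3, 5, 4, 8, 9, 8],
    [7, 6, 5, 4, 3, 2, 1, 0, 8, 3, 2, 1, 4, 3, 5, 6, 7, 8, 9],
    [7, 6, 5, 4, 3, 2, 1, 0, 8, 3, 2, 1, 4, 3, 5, 6, 7, 9, 8]]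

/-- A part of the representatives. -/
def repsV_3 : List (List ℕ) :=
  [[7, 6, 5, 4, 3, 2, 1, 0, 8, 3, 2, 1, 4, 3, 5, 6, 8, 9, 8],
    [7, 6, 5, 4, 3, 2, 1, 0, 8, 3, 2, 1, 4, 3, 5, 6, 9, 8, 3],
    [7, 6, 5, 4, 3, 2, 1, 0, 8, 3, 2, 1, 4, 3, 5, 9, 8, 3, 2],
    [7, 6, 5, 4, 3, 2, 1, 0, 8, 3, 2, 1, 4, 3, 9, 8, 3, 2, 1],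
    [7, 6, 5, 4, 3, 2, 1, 0, 8, 3, 2, 1, 4, 3, 9, 8, 3, 2, 4],
    [7, 6, 5, 4, 3, 2, 1, 0, 8, 3, 2, 1, 4, 3, 9, 8, 3, 4, 5],
    [7, 6, 5, 4, 3, 2, 1, 0, 8, 3, 2, 1, 4, 5, 6, 7, 9, 8, 3],
    [7, 6, 5, 4, 3, 2, 1, 0, 8, 3, 2, 1, 4, 5, 6, 9, 8, 3, 4],
    [7, 6, 5, 4, 3, 2, 1, 0, 8, 3, 2, 1, 4, 5, 9, 8, 3, 2, 1],
    [7, 6, 5, 4, 3, 2, 1, 0, 8, 3, 2, 1, 4, 5, 9, 8, 3, 2, 4],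
    [7, 6, 5, 4, 3, 2, 1, 0, 8, 3, 2, 1, 4, 5, 9, 8, 3, 4, 5],
    [7, 6, 5, 4, 3, 2, 1, 0, 8, 3, 2, 1, 4, 9, 8, 3, 2, 1, 4],
    [7, 6, 5, 4, 3, 2, 1, 0, 8, 3, 2, 1, 4, 9, 8, 3, 2, 4, 3],
    [7, 6, 5, 4, 3, 2, 1, 0, 8, 3, 2, 1, 4, 9, 8, 3, 2, 4, 5],
    [7, 6, 5, 4, 3, 2, 1, 0, 8, 3, 2, 1, 4, 9, 8, 3, 4, 5, 6],
    [7, 6, 5, 4, 3, 2, 1, 0, 8, 3, 2, 1, 9, 8, 3, 2, 4, 3, 5],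
    [7, 6, 5, 4, 3, 2, 1, 0, 8, 3, 2, 1, 9, 8, 3, 2, 4, 3, 8],
    [7, 6, 5, 4, 3, 2, 1, 0, 8, 3, 2, 1, 9, 8, 3, 4, 5, 6, 7],
    [7, 6, 5, 4, 3, 2, 1, 0, 8, 3, 2, 4, 3, 5, 4, 6, 5, 7, 6],
    [7, 6, 5, 4, 3, 2, 1, 0, 8, 3, 2, 4, 3, 5, 4, 6, 5, 7, 8],
    [7, 6, 5, 4, 3, 2, 1, 0, 8, 3, 2, 4, 3, 5, 4, 6, 5, 7, 9],
    [7, 6, 5, 4, 3, 2, 1, 0, 8, 3, 2, 4, 3, 5, 4, 6, 5, 8, 3],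
    [7, 6, 5, 4, 3, 2, 1, 0, 8, 3, 2, 4, 3, 5, 4, 6, 5, 8, 9],
    [7, 6, 5, 4, 3, 2, 1, 0, 8, 3, 2, 4, 3, 5, 4, 6, 5, 9, 8],
    [7, 6, 5, 4, 3, 2, 1, 0, 8, 3, 2, 4, 3, 5, 4, 6, 7, 8, 3],
    [7, 6, 5, 4, 3, 2, 1, 0, 8, 3, 2, 4, 3, 5, 4, 6, 7, 9, 8],
    [7, 6, 5, 4, 3, 2, 1, 0, 8, 3, 2, 4, 3, 5, 4, 6, 8, 9, 8],
    [7, 6, 5, 4, 3, 2, 1, 0, 8, 3, 2, 4, 3, 5, 4, 8, 3, 2, 9],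
    [7, 6, 5, 4, 3, 2, 1, 0, 8, 3, 2, 4, 3, 5, 4, 8, 3, 9, 8],
    [7, 6, 5, 4, 3, 2, 1, 0, 8, 3, 2, 4, 3, 5, 4, 9, 8, 3, 2],
    [7, 6, 5, 4, 3, 2, 1, 0, 8, 3, 2, 4, 3, 5, 6, 7, 8, 9, 8],
    [7, 6, 5, 4, 3, 2, 1, 0, 8, 3, 2, 4, 3, 5, 8, 9, 8, 3, 2],
    [7, 6, 5, 4, 3, 2, 1, 0, 8, 3, 2, 4, 3, 5, 9, 8, 3, 2, 1],
    [7, 6, 5, 4, 3, 2, 1, 0, 8, 3, 2, 4, 3, 5, 9, 8, 3, 2, 4],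
    [7, 6, 5, 4, 3, 2, 1, 0, 8, 3, 2, 4, 3, 5, 9, 8, 3, 4, 5],
    [7, 6, 5, 4, 3, 2, 1, 0, 8, 3, 2, 4, 3, 8, 9, 8, 3, 2, 1],
    [7, 6, 5, 4, 3, 2, 1, 0, 8, 3, 2, 4, 3, 8, 9, 8, 3, 2, 4],
    [7, 6, 5, 4, 3, 2, 1, 0, 8, 3, 2, 4, 3, 8, 9, 8, 3, 4, 5],
    [7, 6, 5, 4, 3, 2, 1, 0, 8, 3, 2, 4, 3, 9, 8, 3, 2, 1, 0],
    [7, 6, 5, 4, 3, 2, 1, 0, 8, 3, 2, 4, 3, 9, 8, 3, 2, 1, 4],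
    [7, 6, 5, 4, 3, 2, 1, 0, 8, 3, 2, 4, 3, 9, 8, 3, 2, 4, 3],
    [7, 6, 5, 4, 3, 2, 1, 0, 8, 3, 2, 4, 3, 9, 8, 3, 2, 4, 5],
    [7, 6, 5, 4, 3, 2, 1, 0, 8, 3, 2, 4, 3, 9, 8, 3, 4, 5, 6],
    [7, 6, 5, 4, 3, 2, 1, 0, 8, 3, 2, 4, 5, 6, 7, 9, 8, 3, 2],
    [7, 6, 5, 4, 3, 2, 1, 0, 8, 3, 2, 4, 5, 6, 7, 9, 8, 3, 4],
    [7, 6, 5, 4, 3, 2, 1, 0, 8, 3, 2, 4, 5, 6, 9, 8, 3, 2, 1],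
    [7, 6, 5, 4, 3, 2, 1, 0, 8, 3, 2, 4, 5, 6, 9, 8, 3, 2, 4],
    [7, 6, 5, 4, 3, 2, 1, 0, 8, 3, 2, 4, 5, 9, 8, 3, 2, 1, 4],
    [7, 6, 5, 4, 3, 2, 1, 0, 8, 3, 2, 4, 5, 9, 8, 3, 2, 4, 3],
    [7, 6, 5, 4, 3, 2, 1, 0, 8, 3, 2, 4, 5, 9, 8, 3, 2, 4, 5],
    [7, 6, 5, 4, 3, 2, 1, 0, 8, 3, 2, 4, 5, 9, 8, 3, 4, 5, 6],
    [7, 6, 5, 4, 3, 2, 1, 0, 8, 3, 2, 4, 9, 8, 3, 2, 1, 0, 4],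
    [7, 6, 5, 4, 3, 2, 1, 0, 8, 3, 2, 4, 9, 8, 3, 4, 5, 6, 7],
    [7, 6, 5, 4, 3, 2, 1, 0, 8, 3, 4, 5, 6, 7, 9, 8, 3, 2, 4],
    [7, 6, 5, 4, 3, 2, 1, 0, 8, 3, 4, 5, 6, 7, 9, 8, 3, 4, 5],
    [7, 6, 5, 4, 3, 2, 1, 0, 8, 3, 4, 5, 6, 9, 8, 3, 2, 1, 0],
    [7, 6, 5, 4, 3, 2, 1, 0, 8, 3, 4, 5, 6, 9, 8, 3, 2, 4, 3],
    [7, 6, 5, 4, 3, 2, 1, 0, 8, 3, 4, 5, 9, 8, 3, 2, 1, 0, 4],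
    [7, 6, 5, 4, 3, 2, 1, 0, 8, 3, 4, 5, 9, 8, 3, 2, 4, 3, 8],
    [7, 6, 5, 4, 3, 2, 1, 8, 3, 2, 4, 3, 5, 4, 6, 5, 7, 6, 9],
    [7, 6, 5, 4, 3, 2, 1, 8, 3, 2, 4, 3, 5, 4, 6, 5, 7, 8, 3],
    [7, 6, 5, 4, 3, 2, 1, 8, 3, 2, 4, 3, 5, 4, 6, 5, 7, 8, 9],
    [7, 6, 5, 4, 3, 2, 1, 8, 3, 2, 4, 3, 5, 4, 6, 5, 7, 9, 8],
    [7, 6, 5, 4, 3, 2, 1, 8, 3, 2, 4, 3, 5, 4, 6, 5, 8, 3, 4],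
    [7, 6, 5, 4, 3, 2, 1, 8, 3, 2, 4, 3, 5, 4, 6, 5, 8, 9, 8],
    [7, 6, 5, 4, 3, 2, 1, 8, 3, 2, 4, 3, 5, 4, 6, 7, 8, 3, 2],
    [7, 6, 5, 4, 3, 2, 1, 8, 3, 2, 4, 3, 5, 4, 8, 9, 8, 3, 2],
    [7, 6, 5, 4, 3, 2, 1, 8, 3, 2, 4, 3, 5, 4, 9, 8, 3, 2, 1],
    [7, 6, 5, 4, 3, 2, 1, 8, 3, 2, 4, 3, 5, 4, 9, 8, 3, 2, 4],
    [7, 6, 5, 4, 3, 2, 1, 8, 3, 2, 4, 3, 5, 6, 7, 8, 9, 8, 3],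
    [7, 6, 5, 4, 3, 2, 1, 8, 3, 2, 4, 3, 5, 6, 7, 9, 8, 3, 2],
    [7, 6, 5, 4, 3, 2, 1, 8, 3, 2, 4, 3, 5, 6, 8, 9, 8, 3, 2],
    [7, 6, 5, 4, 3, 2, 1, 8, 3, 2, 4, 3, 5, 6, 8, 9, 8, 3, 4],
    [7, 6, 5, 4, 3, 2, 1, 8, 3, 2, 4, 3, 5, 8, 9, 8, 3, 2, 1],
    [7, 6, 5, 4, 3, 2, 1, 8, 3, 2, 4, 3, 5, 8, 9, 8, 3, 2, 4],
    [7, 6, 5, 4, 3, 2, 1, 8, 3, 2, 4, 3, 5, 8, 9, 8, 3, 4, 5],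
    [7, 6, 5, 4, 3, 2, 1, 8, 3, 2, 4, 3, 5, 9, 8, 3, 2, 1, 4],
    [7, 6, 5, 4, 3, 2, 1, 8, 3, 2, 4, 3, 5, 9, 8, 3, 2, 4, 5],
    [7, 6, 5, 4, 3, 2, 1, 8, 3, 2, 4, 3, 8, 9, 8, 3, 2, 1, 0],
    [7, 6, 5, 4, 3, 2, 1, 8, 3, 2, 4, 3, 8, 9, 8, 3, 2, 1, 4],
    [7, 6, 5, 4, 3, 2, 1, 8, 3, 2, 4, 3, 8, 9, 8, 3, 2, 4, 3],
    [7, 6, 5, 4, 3, 2, 1, 8, 3, 2, 4, 3, 8, 9, 8, 3, 2, 4, 5],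
    [7, 6, 5, 4, 3, 2, 1, 8, 3, 2, 4, 3, 8, 9, 8, 3, 4, 5, 6],
    [7, 6, 5, 4, 3, 2, 1, 8, 3, 2, 4, 3, 9, 8, 3, 2, 1, 0, 4],
    [7, 6, 5, 4, 3, 2, 1, 8, 3, 2, 4, 3, 9, 8, 3, 2, 1, 4, 5],
    [7, 6, 5, 4, 3, 2, 1, 8, 3, 2, 4, 3, 9, 8, 3, 4, 5, 6, 7],
    [7, 6, 5, 4, 3, 2, 1, 8, 3, 2, 4, 5, 6, 7, 9, 8, 3, 2, 1],
    [7, 6, 5, 4, 3, 2, 1, 8, 3, 2, 4, 5, 6, 7, 9, 8, 3, 2, 4],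
    [7, 6, 5, 4, 3, 2, 1, 8, 3, 2, 4, 5, 6, 7, 9, 8, 3, 4, 5],
    [7, 6, 5, 4, 3, 2, 1, 8, 3, 2, 4, 5, 6, 9, 8, 3, 2, 1, 0],
    [7, 6, 5, 4, 3, 2, 1, 8, 3, 2, 4, 5, 6, 9, 8, 3, 2, 1, 4],
    [7, 6, 5, 4, 3, 2, 1, 8, 3, 2, 4, 5, 6, 9, 8, 3, 2, 4, 3],
    [7, 6, 5, 4, 3, 2, 1, 8, 3, 2, 4, 5, 6, 9, 8, 3, 2, 4, 5],
    [7, 6, 5, 4, 3, 2, 1, 8, 3, 2, 4, 5, 6, 9, 8, 3, 4, 5, 6],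
    [7, 6, 5, 4, 3, 2, 1, 8, 3, 2, 4, 5, 9, 8, 3, 2, 1, 0, 4],
    [7, 6, 5, 4, 3, 2, 1, 8, 3, 2, 4, 5, 9, 8, 3, 2, 1, 4, 3],
    [7, 6, 5, 4, 3, 2, 1, 8, 3, 2, 4, 5, 9, 8, 3, 2, 1, 4, 5],
    [7, 6, 5, 4, 3, 2, 1, 8, 3, 2, 4, 5, 9, 8, 3, 4, 5, 6, 7],
    [7, 6, 5, 4, 3, 2, 1, 8, 3, 2, 4, 9, 8, 3, 2, 1, 0, 4, 5],
    [7, 6, 5, 4, 3, 2, 1, 8, 3, 2, 4, 9, 8, 3, 2, 4, 5, 6, 7],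
    [7, 6, 5, 4, 3, 2, 1, 8, 3, 4, 5, 6, 7, 9, 8, 3, 2, 1, 4],
    [7, 6, 5, 4, 3, 2, 1, 8, 3, 4, 5, 6, 7, 9, 8, 3, 2, 4, 3],
    [7, 6, 5, 4, 3, 2, 1, 8, 3, 4, 5, 6, 7, 9, 8, 3, 4, 5, 6],
    [7, 6, 5, 4, 3, 2, 1, 8, 3, 4, 5, 6, 9, 8, 3, 2, 1, 0, 4],
    [7, 6, 5, 4, 3, 2, 1, 8, 3, 4, 5, 6, 9, 8, 3, 2, 4, 3, 5],
    [7, 6, 5, 4, 3, 2, 1, 8, 3, 4, 5, 6, 9, 8, 3, 2, 4, 3, 8],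
    [7, 6, 5, 4, 3, 2, 1, 8, 3, 4, 5, 9, 8, 3, 2, 1, 0, 4, 3],
    [7, 6, 5, 4, 3, 2, 8, 3, 4, 5, 6, 7, 9, 8, 3, 2, 1, 4, 5],
    [7, 6, 5, 4, 3, 2, 8, 3, 4, 5, 6, 7, 9, 8, 3, 2, 4, 3, 5],
    [7, 6, 5, 4, 3, 2, 8, 3, 4, 5, 6, 9, 8, 3, 2, 4, 3, 5, 8],
    [7, 6, 5, 4, 3, 2, 1, 0, 8, 3, 2, 1, 4, 3, 2, 5, 4, 3, 6, 5],
    [7, 6, 5, 4, 3, 2, 1, 0, 8, 3, 2, 1, 4, 3, 2, 5, 4, 3, 6, 9],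
    [7, 6, 5, 4, 3, 2, 1, 0, 8, 3, 2, 1, 4, 3, 2, 5, 4, 3, 9, 8],
    [7, 6, 5, 4, 3, 2, 1, 0, 8, 3, 2, 1, 4, 3, 2, 5, 4, 6, 5, 7],
    [7, 6, 5, 4, 3, 2, 1, 0, 8, 3, 2, 1, 4, 3, 2, 5, 4, 6, 5, 9],
    [7, 6, 5, 4, 3, 2, 1, 0, 8, 3, 2, 1, 4, 3, 2, 5, 4, 6, 7, 8],
    [7, 6, 5, 4, 3, 2, 1, 0, 8, 3, 2, 1, 4, 3, 2, 5, 4, 6, 7, 9],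
    [7, 6, 5, 4, 3, 2, 1, 0, 8, 3, 2, 1, 4, 3, 2, 5, 4, 6, 8, 9],
    [7, 6, 5, 4, 3, 2, 1, 0, 8, 3, 2, 1, 4, 3, 2, 5, 6, 7, 8, 3],
    [7, 6, 5, 4, 3, 2, 1, 0, 8, 3, 2, 1, 4, 3, 2, 5, 6, 7, 8, 9],
    [7, 6, 5, 4, 3, 2, 1, 0, 8, 3, 2, 1, 4, 3, 2, 5, 6, 7, 9, 8],
    [7, 6, 5, 4, 3, 2, 1, 0, 8, 3, 2, 1, 4, 3, 2, 5, 6, 8, 3, 9],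
    [7, 6, 5, 4, 3, 2, 1, 0, 8, 3, 2, 1, 4, 3, 2, 5, 8, 3, 9, 8],
    [7, 6, 5, 4, 3, 2, 1, 0, 8, 3, 2, 1, 4, 3, 2, 8, 9, 8, 3, 2],
    [7, 6, 5, 4, 3, 2, 1, 0, 8, 3, 2, 1, 4, 3, 2, 8, 9, 8, 3, 4],
    [7, 6, 5, 4, 3, 2, 1, 0, 8, 3, 2, 1, 4, 3, 2, 9, 8, 3, 2, 1],
    [7, 6, 5, 4, 3, 2, 1, 0, 8, 3, 2, 1, 4, 3, 2, 9, 8, 3, 2, 4],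
    [7, 6, 5, 4, 3, 2, 1, 0, 8, 3, 2, 1, 4, 3, 2, 9, 8, 3, 4, 5]]

/-- A part of the representatives. -/
def repsV_4 : List (List ℕ) :=
  [[7, 6, 5, 4, 3, 2, 1, 0, 8, 3, 2, 1, 4, 3, 5, 4, 6, 5, 7, 6],
    [7, 6, 5, 4, 3, 2, 1, 0, 8, 3, 2, 1, 4, 3, 5, 4, 6, 7, 8, 9],
    [7, 6, 5, 4, 3, 2, 1, 0, 8, 3, 2, 1, 4, 3, 5, 4, 6, 7, 9, 8],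
    [7, 6, 5, 4, 3, 2, 1, 0, 8, 3, 2, 1, 4, 3, 5, 6, 7, 9, 8, 3],
    [7, 6, 5, 4, 3, 2, 1, 0, 8, 3, 2, 1, 4, 3, 5, 9, 8, 3, 2, 1],
    [7, 6, 5, 4, 3, 2, 1, 0, 8, 3, 2, 1, 4, 3, 5, 9, 8, 3, 2, 4],
    [7, 6, 5, 4, 3, 2, 1, 0, 8, 3, 2, 1, 4, 3, 5, 9, 8, 3, 4, 5],
    [7, 6, 5, 4, 3, 2, 1, 0, 8, 3, 2, 1, 4, 3, 8, 9, 8, 3, 2, 1],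
    [7, 6, 5, 4, 3, 2, 1, 0, 8, 3, 2, 1, 4, 3, 8, 9, 8, 3, 4, 5],
    [7, 6, 5, 4, 3, 2, 1, 0, 8, 3, 2, 1, 4, 3, 9, 8, 3, 2, 4, 3],
    [7, 6, 5, 4, 3, 2, 1, 0, 8, 3, 2, 1, 4, 3, 9, 8, 3, 2, 4, 5],
    [7, 6, 5, 4, 3, 2, 1, 0, 8, 3, 2, 1, 4, 3, 9, 8, 3, 4, 5, 6],
    [7, 6, 5, 4, 3, 2, 1, 0, 8, 3, 2, 1, 4, 5, 6, 7, 9, 8, 3, 2],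
    [7, 6, 5, 4, 3, 2, 1, 0, 8, 3, 2, 1, 4, 5, 6, 7, 9, 8, 3, 4],
    [7, 6, 5, 4, 3, 2, 1, 0, 8, 3, 2, 1, 4, 5, 6, 9, 8, 3, 2, 1],
    [7, 6, 5, 4, 3, 2, 1, 0, 8, 3, 2, 1, 4, 5, 9, 8, 3, 2, 1, 0],
    [7, 6, 5, 4, 3, 2, 1, 0, 8, 3, 2, 1, 4, 5, 9, 8, 3, 2, 1, 4],
    [7, 6, 5, 4, 3, 2, 1, 0, 8, 3, 2, 1, 4, 5, 9, 8, 3, 2, 4, 3],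
    [7, 6, 5, 4, 3, 2, 1, 0, 8, 3, 2, 1, 4, 5, 9, 8, 3, 2, 4, 5],
    [7, 6, 5, 4, 3, 2, 1, 0, 8, 3, 2, 1, 4, 5, 9, 8, 3, 4, 5, 6],
    [7, 6, 5, 4, 3, 2, 1, 0, 8, 3, 2, 1, 4, 9, 8, 3, 2, 1, 4, 5],
    [7, 6, 5, 4, 3, 2, 1, 0, 8, 3, 2, 1, 4, 9, 8, 3, 2, 4, 3, 5],
    [7, 6, 5, 4, 3, 2, 1, 0, 8, 3, 2, 1, 9, 8, 3, 2, 4, 3, 5, 4],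
    [7, 6, 5, 4, 3, 2, 1, 0, 8, 3, 2, 1, 9, 8, 3, 2, 4, 3, 5, 6],
    [7, 6, 5, 4, 3, 2, 1, 0, 8, 3, 2, 1, 9, 8, 3, 2, 4, 3, 8, 9],
    [7, 6, 5, 4, 3, 2, 1, 0, 8, 3, 2, 4, 3, 5, 4, 6, 5, 7, 6, 8],
    [7, 6, 5, 4, 3, 2, 1, 0, 8, 3, 2, 4, 3, 5, 4, 6, 5, 7, 6, 9],
    [7, 6, 5, 4, 3, 2, 1, 0, 8, 3, 2, 4, 3, 5, 4, 6, 5, 7, 8, 3],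
    [7, 6, 5, 4, 3, 2, 1, 0, 8, 3, 2, 4, 3, 5, 4, 6, 5, 7, 8, 9],
    [7, 6, 5, 4, 3, 2, 1, 0, 8, 3, 2, 4, 3, 5, 4, 6, 5, 7, 9, 8],
    [7, 6, 5, 4, 3, 2, 1, 0, 8, 3, 2, 4, 3, 5, 4, 6, 5, 8, 3, 4],
    [7, 6, 5, 4, 3, 2, 1, 0, 8, 3, 2, 4, 3, 5, 4, 6, 5, 8, 3, 9],
    [7, 6, 5, 4, 3, 2, 1, 0, 8, 3, 2, 4, 3, 5, 4, 6, 5, 8, 9, 8],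
    [7, 6, 5, 4, 3, 2, 1, 0, 8, 3, 2, 4, 3, 5, 4, 6, 7, 8, 9, 8],
    [7, 6, 5, 4, 3, 2, 1, 0, 8, 3, 2, 4, 3, 5, 4, 6, 8, 3, 2, 9],
    [7, 6, 5, 4, 3, 2, 1, 0, 8, 3, 2, 4, 3, 5, 4, 6, 9, 8, 3, 2],
    [7, 6, 5, 4, 3, 2, 1, 0, 8, 3, 2, 4, 3, 5, 4, 8, 9, 8, 3, 2],
    [7, 6, 5, 4, 3, 2, 1, 0, 8, 3, 2, 4, 3, 5, 4, 9, 8, 3, 2, 4],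
    [7, 6, 5, 4, 3, 2, 1, 0, 8, 3, 2, 4, 3, 5, 6, 7, 9, 8, 3, 2],
    [7, 6, 5, 4, 3, 2, 1, 0, 8, 3, 2, 4, 3, 5, 6, 7, 9, 8, 3, 4],
    [7, 6, 5, 4, 3, 2, 1, 0, 8, 3, 2, 4, 3, 5, 6, 8, 9, 8, 3, 2],
    [7, 6, 5, 4, 3, 2, 1, 0, 8, 3, 2, 4, 3, 5, 8, 9, 8, 3, 2, 1],
    [7, 6, 5, 4, 3, 2, 1, 0, 8, 3, 2, 4, 3, 5, 8, 9, 8, 3, 2, 4],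
    [7, 6, 5, 4, 3, 2, 1, 0, 8, 3, 2, 4, 3, 5, 8, 9, 8, 3, 4, 5],
    [7, 6, 5, 4, 3, 2, 1, 0, 8, 3, 2, 4, 3, 5, 9, 8, 3, 2, 1, 4],
    [7, 6, 5, 4, 3, 2, 1, 0, 8, 3, 2, 4, 3, 5, 9, 8, 3, 2, 4, 3],
    [7, 6, 5, 4, 3, 2, 1, 0, 8, 3, 2, 4, 3, 5, 9, 8, 3, 4, 5, 6],
    [7, 6, 5, 4, 3, 2, 1, 0, 8, 3, 2, 4, 3, 8, 9, 8, 3, 2, 1, 0],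
    [7, 6, 5, 4, 3, 2, 1, 0, 8, 3, 2, 4, 3, 8, 9, 8, 3, 2, 1, 4],
    [7, 6, 5, 4, 3, 2, 1, 0, 8, 3, 2, 4, 3, 8, 9, 8, 3, 2, 4, 3],
    [7, 6, 5, 4, 3, 2, 1, 0, 8, 3, 2, 4, 3, 8, 9, 8, 3, 2, 4, 5],
    [7, 6, 5, 4, 3, 2, 1, 0, 8, 3, 2, 4, 3, 8, 9, 8, 3, 4, 5, 6],
    [7, 6, 5, 4, 3, 2, 1, 0, 8, 3, 2, 4, 3, 9, 8, 3, 2, 1, 0, 4],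
    [7, 6, 5, 4, 3, 2, 1, 0, 8, 3, 2, 4, 3, 9, 8, 3, 2, 4, 3, 5],
    [7, 6, 5, 4, 3, 2, 1, 0, 8, 3, 2, 4, 3, 9, 8, 3, 4, 5, 6, 7],
    [7, 6, 5, 4, 3, 2, 1, 0, 8, 3, 2, 4, 5, 6, 7, 9, 8, 3, 4, 5],
    [7, 6, 5, 4, 3, 2, 1, 0, 8, 3, 2, 4, 5, 6, 9, 8, 3, 2, 1, 4],
    [7, 6, 5, 4, 3, 2, 1, 0, 8, 3, 2, 4, 5, 6, 9, 8, 3, 2, 4, 3],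
    [7, 6, 5, 4, 3, 2, 1, 0, 8, 3, 2, 4, 5, 6, 9, 8, 3, 2, 4, 5],
    [7, 6, 5, 4, 3, 2, 1, 0, 8, 3, 2, 4, 5, 6, 9, 8, 3, 4, 5, 6],
    [7, 6, 5, 4, 3, 2, 1, 0, 8, 3, 2, 4, 5, 9, 8, 3, 2, 4, 3, 8],
    [7, 6, 5, 4, 3, 2, 1, 0, 8, 3, 2, 4, 5, 9, 8, 3, 4, 5, 6, 7],
    [7, 6, 5, 4, 3, 2, 1, 0, 8, 3, 2, 4, 9, 8, 3, 2, 1, 4, 5, 6],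
    [7, 6, 5, 4, 3, 2, 1, 0, 8, 3, 2, 4, 9, 8, 3, 2, 4, 5, 6, 7],
    [7, 6, 5, 4, 3, 2, 1, 0, 8, 3, 4, 5, 6, 7, 9, 8, 3, 2, 4, 3],
    [7, 6, 5, 4, 3, 2, 1, 0, 8, 3, 4, 5, 6, 7, 9, 8, 3, 2, 4, 5],
    [7, 6, 5, 4, 3, 2, 1, 0, 8, 3, 4, 5, 6, 7, 9, 8, 3, 4, 5, 6],
    [7, 6, 5, 4, 3, 2, 1, 0, 8, 3, 4, 5, 6, 9, 8, 3, 2, 1, 4, 3],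
    [7, 6, 5, 4, 3, 2, 1, 0, 8, 3, 4, 5, 6, 9, 8, 3, 2, 1, 4, 5],
    [7, 6, 5, 4, 3, 2, 1, 0, 8, 3, 4, 5, 6, 9, 8, 3, 2, 4, 3, 5],
    [7, 6, 5, 4, 3, 2, 1, 0, 8, 3, 4, 5, 9, 8, 3, 2, 1, 0, 4, 3],
    [7, 6, 5, 4, 3, 2, 1, 0, 8, 3, 4, 5, 9, 8, 3, 2, 1, 4, 3, 2],
    [7, 6, 5, 4, 3, 2, 1, 0, 8, 3, 4, 5, 9, 8, 3, 2, 4, 3, 8, 9],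
    [7, 6, 5, 4, 3, 2, 1, 8, 3, 2, 4, 3, 5, 4, 6, 5, 7, 6, 8, 3],
    [7, 6, 5, 4, 3, 2, 1, 8, 3, 2, 4, 3, 5, 4, 6, 5, 7, 6, 8, 9],
    [7, 6, 5, 4, 3, 2, 1, 8, 3, 2, 4, 3, 5, 4, 6, 5, 7, 8, 3, 2],
    [7, 6, 5, 4, 3, 2, 1, 8, 3, 2, 4, 3, 5, 4, 6, 5, 7, 8, 3, 4],
    [7, 6, 5, 4, 3, 2, 1, 8, 3, 2, 4, 3, 5, 4, 6, 5, 7, 8, 3, 9],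
    [7, 6, 5, 4, 3, 2, 1, 8, 3, 2, 4, 3, 5, 4, 6, 5, 9, 8, 3, 4],
    [7, 6, 5, 4, 3, 2, 1, 8, 3, 2, 4, 3, 5, 4, 6, 7, 8, 3, 2, 1],
    [7, 6, 5, 4, 3, 2, 1, 8, 3, 2, 4, 3, 5, 4, 6, 7, 8, 3, 9, 8],
    [7, 6, 5, 4, 3, 2, 1, 8, 3, 2, 4, 3, 5, 4, 6, 8, 9, 8, 3, 2],
    [7, 6, 5, 4, 3, 2, 1, 8, 3, 2, 4, 3, 5, 4, 6, 9, 8, 3, 2, 1],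
    [7, 6, 5, 4, 3, 2, 1, 8, 3, 2, 4, 3, 5, 4, 6, 9, 8, 3, 4, 5],
    [7, 6, 5, 4, 3, 2, 1, 8, 3, 2, 4, 3, 5, 4, 8, 9, 8, 3, 2, 4],
    [7, 6, 5, 4, 3, 2, 1, 8, 3, 2, 4, 3, 5, 4, 9, 8, 3, 2, 1, 4],
    [7, 6, 5, 4, 3, 2, 1, 8, 3, 2, 4, 3, 5, 4, 9, 8, 3, 2, 4, 5],
    [7, 6, 5, 4, 3, 2, 1, 8, 3, 2, 4, 3, 5, 4, 9, 8, 3, 4, 5, 6],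
    [7, 6, 5, 4, 3, 2, 1, 8, 3, 2, 4, 3, 5, 6, 7, 8, 9, 8, 3, 4],
    [7, 6, 5, 4, 3, 2, 1, 8, 3, 2, 4, 3, 5, 6, 7, 9, 8, 3, 2, 4],
    [7, 6, 5, 4, 3, 2, 1, 8, 3, 2, 4, 3, 5, 6, 8, 9, 8, 3, 2, 1],
    [7, 6, 5, 4, 3, 2, 1, 8, 3, 2, 4, 3, 5, 6, 8, 9, 8, 3, 2, 4],
    [7, 6, 5, 4, 3, 2, 1, 8, 3, 2, 4, 3, 5, 6, 9, 8, 3, 2, 1, 0],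
    [7, 6, 5, 4, 3, 2, 1, 8, 3, 2, 4, 3, 5, 6, 9, 8, 3, 2, 4, 5],
    [7, 6, 5, 4, 3, 2, 1, 8, 3, 2, 4, 3, 5, 8, 9, 8, 3, 2, 1, 0],
    [7, 6, 5, 4, 3, 2, 1, 8, 3, 2, 4, 3, 5, 8, 9, 8, 3, 2, 1, 4],
    [7, 6, 5, 4, 3, 2, 1, 8, 3, 2, 4, 3, 5, 8, 9, 8, 3, 2, 4, 3],
    [7, 6, 5, 4, 3, 2, 1, 8, 3, 2, 4, 3, 5, 8, 9, 8, 3, 2, 4, 5],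
    [7, 6, 5, 4, 3, 2, 1, 8, 3, 2, 4, 3, 5, 8, 9, 8, 3, 4, 5, 6],
    [7, 6, 5, 4, 3, 2, 1, 8, 3, 2, 4, 3, 5, 9, 8, 3, 2, 1, 0, 4],
    [7, 6, 5, 4, 3, 2, 1, 8, 3, 2, 4, 3, 5, 9, 8, 3, 2, 1, 4, 5],
    [7, 6, 5, 4, 3, 2, 1, 8, 3, 2, 4, 3, 5, 9, 8, 3, 2, 4, 3, 5],
    [7, 6, 5, 4, 3, 2, 1, 8, 3, 2, 4, 3, 5, 9, 8, 3, 4, 5, 6, 7],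
    [7, 6, 5, 4, 3, 2, 1, 8, 3, 2, 4, 3, 8, 9, 8, 3, 2, 1, 0, 4],
    [7, 6, 5, 4, 3, 2, 1, 8, 3, 2, 4, 3, 8, 9, 8, 3, 2, 1, 4, 5],
    [7, 6, 5, 4, 3, 2, 1, 8, 3, 2, 4, 3, 8, 9, 8, 3, 4, 5, 6, 7],
    [7, 6, 5, 4, 3, 2, 1, 8, 3, 2, 4, 3, 9, 8, 3, 2, 1, 0, 4, 3],
    [7, 6, 5, 4, 3, 2, 1, 8, 3, 2, 4, 3, 9, 8, 3, 2, 1, 4, 3, 2],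
    [7, 6, 5, 4, 3, 2, 1, 8, 3, 2, 4, 3, 9, 8, 3, 2, 1, 4, 3, 5],
    [7, 6, 5, 4, 3, 2, 1, 8, 3, 2, 4, 3, 9, 8, 3, 2, 4, 5, 6, 7],
    [7, 6, 5, 4, 3, 2, 1, 8, 3, 2, 4, 5, 6, 7, 9, 8, 3, 2, 1, 0],
    [7, 6, 5, 4, 3, 2, 1, 8, 3, 2, 4, 5, 6, 7, 9, 8, 3, 2, 4, 3],
    [7, 6, 5, 4, 3, 2, 1, 8, 3, 2, 4, 5, 6, 7, 9, 8, 3, 2, 4, 5],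
    [7, 6, 5, 4, 3, 2, 1, 8, 3, 2, 4, 5, 6, 7, 9, 8, 3, 4, 5, 6],
    [7, 6, 5, 4, 3, 2, 1, 8, 3, 2, 4, 5, 6, 9, 8, 3, 2, 1, 0, 4],
    [7, 6, 5, 4, 3, 2, 1, 8, 3, 2, 4, 5, 6, 9, 8, 3, 2, 4, 3, 5],
    [7, 6, 5, 4, 3, 2, 1, 8, 3, 2, 4, 5, 6, 9, 8, 3, 2, 4, 3, 8],
    [7, 6, 5, 4, 3, 2, 1, 8, 3, 2, 4, 5, 6, 9, 8, 3, 4, 5, 6, 7],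
    [7, 6, 5, 4, 3, 2, 1, 8, 3, 2, 4, 5, 9, 8, 3, 2, 1, 0, 4, 3],
    [7, 6, 5, 4, 3, 2, 1, 8, 3, 2, 4, 5, 9, 8, 3, 2, 1, 0, 4, 5],
    [7, 6, 5, 4, 3, 2, 1, 8, 3, 2, 4, 5, 9, 8, 3, 2, 1, 4, 3, 5],
    [7, 6, 5, 4, 3, 2, 1, 8, 3, 2, 4, 5, 9, 8, 3, 2, 4, 3, 5, 6],
    [7, 6, 5, 4, 3, 2, 1, 8, 3, 2, 4, 9, 8, 3, 2, 1, 0, 4, 5, 6],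
    [7, 6, 5, 4, 3, 2, 1, 8, 3, 2, 4, 9, 8, 3, 2, 1, 4, 5, 6, 7],
    [7, 6, 5, 4, 3, 2, 1, 8, 3, 4, 5, 6, 7, 9, 8, 3, 2, 1, 4, 3],
    [7, 6, 5, 4, 3, 2, 1, 8, 3, 4, 5, 6, 7, 9, 8, 3, 2, 1, 4, 5],
    [7, 6, 5, 4, 3, 2, 1, 8, 3, 4, 5, 6, 9, 8, 3, 2, 1, 0, 4, 3],
    [7, 6, 5, 4, 3, 2, 1, 8, 3, 4, 5, 6, 9, 8, 3, 2, 1, 4, 3, 5]]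

/-- A part of the representatives. -/
def repsV_5 : List (List ℕ) :=
  [[7, 6, 5, 4, 3, 2, 1, 8, 3, 4, 5, 6, 9, 8, 3, 2, 4, 3, 5, 8],
    [7, 6, 5, 4, 3, 2, 8, 3, 4, 5, 6, 7, 9, 8, 3, 2, 1, 4, 3, 5],
    [7, 6, 5, 4, 3, 2, 8, 3, 4, 5, 6, 7, 9, 8, 3, 2, 4, 3, 5, 6],
    [7, 6, 5, 4, 3, 2, 1, 0, 8, 3, 2, 1, 4, 3, 2, 5, 4, 3, 6, 5, 4],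
    [7, 6, 5, 4, 3, 2, 1, 0, 8, 3, 2, 1, 4, 3, 2, 5, 4, 3, 6, 5, 7],
    [7, 6, 5, 4, 3, 2, 1, 0, 8, 3, 2, 1, 4, 3, 2, 5, 4, 3, 6, 5, 9],
    [7, 6, 5, 4, 3, 2, 1, 0, 8, 3, 2, 1, 4, 3, 2, 5, 4, 3, 6, 7, 9],
    [7, 6, 5, 4, 3, 2, 1, 0, 8, 3, 2, 1, 4, 3, 2, 5, 4, 6, 5, 7, 8],
    [7, 6, 5, 4, 3, 2, 1, 0, 8, 3, 2, 1, 4, 3, 2, 5, 4, 6, 5, 7, 9],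
    [7, 6, 5, 4, 3, 2, 1, 0, 8, 3, 2, 1, 4, 3, 2, 5, 4, 6, 5, 8, 9],
    [7, 6, 5, 4, 3, 2, 1, 0, 8, 3, 2, 1, 4, 3, 2, 5, 4, 6, 7, 8, 9],
    [7, 6, 5, 4, 3, 2, 1, 0, 8, 3, 2, 1, 4, 3, 2, 5, 4, 6, 7, 9, 8],
    [7, 6, 5, 4, 3, 2, 1, 0, 8, 3, 2, 1, 4, 3, 2, 5, 6, 8, 3, 9, 8],
    [7, 6, 5, 4, 3, 2, 1, 0, 8, 3, 2, 1, 4, 3, 2, 5, 6, 9, 8, 3, 2],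
    [7, 6, 5, 4, 3, 2, 1, 0, 8, 3, 2, 1, 4, 3, 2, 5, 8, 9, 8, 3, 2],
    [7, 6, 5, 4, 3, 2, 1, 0, 8, 3, 2, 1, 4, 3, 2, 5, 9, 8, 3, 2, 4],
    [7, 6, 5, 4, 3, 2, 1, 0, 8, 3, 2, 1, 4, 3, 2, 5, 9, 8, 3, 4, 5],
    [7, 6, 5, 4, 3, 2, 1, 0, 8, 3, 2, 1, 4, 3, 2, 8, 9, 8, 3, 2, 1],
    [7, 6, 5, 4, 3, 2, 1, 0, 8, 3, 2, 1, 4, 3, 2, 8, 9, 8, 3, 2, 4],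
    [7, 6, 5, 4, 3, 2, 1, 0, 8, 3, 2, 1, 4, 3, 2, 9, 8, 3, 2, 1, 0],
    [7, 6, 5, 4, 3, 2, 1, 0, 8, 3, 2, 1, 4, 3, 2, 9, 8, 3, 2, 1, 4],
    [7, 6, 5, 4, 3, 2, 1, 0, 8, 3, 2, 1, 4, 3, 2, 9, 8, 3, 2, 4, 3],
    [7, 6, 5, 4, 3, 2, 1, 0, 8, 3, 2, 1, 4, 3, 2, 9, 8, 3, 2, 4, 5],
    [7, 6, 5, 4, 3, 2, 1, 0, 8, 3, 2, 1, 4, 3, 2, 9, 8, 3, 4, 5, 6],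
    [7, 6, 5, 4, 3, 2, 1, 0, 8, 3, 2, 1, 4, 3, 5, 4, 6, 5, 7, 8, 9],
    [7, 6, 5, 4, 3, 2, 1, 0, 8, 3, 2, 1, 4, 3, 5, 4, 9, 8, 3, 2, 1],
    [7, 6, 5, 4, 3, 2, 1, 0, 8, 3, 2, 1, 4, 3, 5, 6, 7, 8, 9, 8, 3],
    [7, 6, 5, 4, 3, 2, 1, 0, 8, 3, 2, 1, 4, 3, 5, 8, 9, 8, 3, 2, 1],
    [7, 6, 5, 4, 3, 2, 1, 0, 8, 3, 2, 1, 4, 3, 5, 9, 8, 3, 2, 4, 3],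
    [7, 6, 5, 4, 3, 2, 1, 0, 8, 3, 2, 1, 4, 3, 8, 9, 8, 3, 2, 1, 4],
    [7, 6, 5, 4, 3, 2, 1, 0, 8, 3, 2, 1, 4, 3, 8, 9, 8, 3, 2, 4, 3],
    [7, 6, 5, 4, 3, 2, 1, 0, 8, 3, 2, 1, 4, 3, 8, 9, 8, 3, 2, 4, 5],
    [7, 6, 5, 4, 3, 2, 1, 0, 8, 3, 2, 1, 4, 3, 8, 9, 8, 3, 4, 5, 6],
    [7, 6, 5, 4, 3, 2, 1, 0, 8, 3, 2, 1, 4, 3, 9, 8, 3, 2, 1, 4, 5],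
    [7, 6, 5, 4, 3, 2, 1, 0, 8, 3, 2, 1, 4, 3, 9, 8, 3, 2, 4, 3, 5],
    [7, 6, 5, 4, 3, 2, 1, 0, 8, 3, 2, 1, 4, 3, 9, 8, 3, 2, 4, 3, 8],
    [7, 6, 5, 4, 3, 2, 1, 0, 8, 3, 2, 1, 4, 3, 9, 8, 3, 4, 5, 6, 7],
    [7, 6, 5, 4, 3, 2, 1, 0, 8, 3, 2, 1, 4, 5, 6, 7, 9, 8, 3, 2, 1],
    [7, 6, 5, 4, 3, 2, 1, 0, 8, 3, 2, 1, 4, 5, 6, 9, 8, 3, 2, 1, 0],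
    [7, 6, 5, 4, 3, 2, 1, 0, 8, 3, 2, 1, 4, 5, 6, 9, 8, 3, 2, 4, 3],
    [7, 6, 5, 4, 3, 2, 1, 0, 8, 3, 2, 1, 4, 5, 9, 8, 3, 2, 1, 0, 4],
    [7, 6, 5, 4, 3, 2, 1, 0, 8, 3, 2, 1, 4, 5, 9, 8, 3, 2, 1, 4, 5],
    [7, 6, 5, 4, 3, 2, 1, 0, 8, 3, 2, 1, 4, 5, 9, 8, 3, 2, 4, 3, 8],
    [7, 6, 5, 4, 3, 2, 1, 0, 8, 3, 2, 1, 4, 9, 8, 3, 2, 1, 0, 4, 3],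
    [7, 6, 5, 4, 3, 2, 1, 0, 8, 3, 2, 1, 4, 9, 8, 3, 2, 1, 0, 4, 5],
    [7, 6, 5, 4, 3, 2, 1, 0, 8, 3, 2, 1, 4, 9, 8, 3, 2, 1, 4, 3, 5],
    [7, 6, 5, 4, 3, 2, 1, 0, 8, 3, 2, 1, 4, 9, 8, 3, 2, 4, 3, 5, 4],
    [7, 6, 5, 4, 3, 2, 1, 0, 8, 3, 2, 1, 4, 9, 8, 3, 2, 4, 3, 5, 6],
    [7, 6, 5, 4, 3, 2, 1, 0, 8, 3, 2, 1, 4, 9, 8, 3, 2, 4, 3, 5, 8],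
    [7, 6, 5, 4, 3, 2, 1, 0, 8, 3, 2, 1, 4, 9, 8, 3, 2, 4, 3, 8, 9],
    [7, 6, 5, 4, 3, 2, 1, 0, 8, 3, 2, 1, 4, 9, 8, 3, 2, 4, 5, 6, 7],
    [7, 6, 5, 4, 3, 2, 1, 0, 8, 3, 2, 1, 9, 8, 3, 2, 4, 3, 5, 4, 6],
    [7, 6, 5, 4, 3, 2, 1, 0, 8, 3, 2, 1, 9, 8, 3, 2, 4, 3, 5, 4, 8],
    [7, 6, 5, 4, 3, 2, 1, 0, 8, 3, 2, 1, 9, 8, 3, 2, 4, 3, 5, 6, 7],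
    [7, 6, 5, 4, 3, 2, 1, 0, 8, 3, 2, 1, 9, 8, 3, 2, 4, 3, 5, 8, 9],
    [7, 6, 5, 4, 3, 2, 1, 0, 8, 3, 2, 4, 3, 5, 4, 6, 5, 7, 6, 8, 3],
    [7, 6, 5, 4, 3, 2, 1, 0, 8, 3, 2, 4, 3, 5, 4, 6, 5, 7, 6, 9, 8],
    [7, 6, 5, 4, 3, 2, 1, 0, 8, 3, 2, 4, 3, 5, 4, 6, 5, 7, 8, 3, 4],
    [7, 6, 5, 4, 3, 2, 1, 0, 8, 3, 2, 4, 3, 5, 4, 6, 5, 7, 8, 9, 8],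
    [7, 6, 5, 4, 3, 2, 1, 0, 8, 3, 2, 4, 3, 5, 4, 6, 5, 9, 8, 3, 2],
    [7, 6, 5, 4, 3, 2, 1, 0, 8, 3, 2, 4, 3, 5, 4, 6, 7, 8, 3, 9, 8],
    [7, 6, 5, 4, 3, 2, 1, 0, 8, 3, 2, 4, 3, 5, 4, 6, 7, 9, 8, 3, 2],
    [7, 6, 5, 4, 3, 2, 1, 0, 8, 3, 2, 4, 3, 5, 4, 6, 8, 9, 8, 3, 2],
    [7, 6, 5, 4, 3, 2, 1, 0, 8, 3, 2, 4, 3, 5, 4, 6, 9, 8, 3, 2, 1],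
    [7, 6, 5, 4, 3, 2, 1, 0, 8, 3, 2, 4, 3, 5, 4, 6, 9, 8, 3, 2, 4],
    [7, 6, 5, 4, 3, 2, 1, 0, 8, 3, 2, 4, 3, 5, 4, 6, 9, 8, 3, 4, 5],
    [7, 6, 5, 4, 3, 2, 1, 0, 8, 3, 2, 4, 3, 5, 4, 8, 9, 8, 3, 2, 4],
    [7, 6, 5, 4, 3, 2, 1, 0, 8, 3, 2, 4, 3, 5, 4, 8, 9, 8, 3, 4, 5],
    [7, 6, 5, 4, 3, 2, 1, 0, 8, 3, 2, 4, 3, 5, 4, 9, 8, 3, 2, 1, 4],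
    [7, 6, 5, 4, 3, 2, 1, 0, 8, 3, 2, 4, 3, 5, 4, 9, 8, 3, 2, 4, 3],
    [7, 6, 5, 4, 3, 2, 1, 0, 8, 3, 2, 4, 3, 5, 4, 9, 8, 3, 2, 4, 5],
    [7, 6, 5, 4, 3, 2, 1, 0, 8, 3, 2, 4, 3, 5, 4, 9, 8, 3, 4, 5, 6],
    [7, 6, 5, 4, 3, 2, 1, 0, 8, 3, 2, 4, 3, 5, 6, 7, 8, 9, 8, 3, 2],
    [7, 6, 5, 4, 3, 2, 1, 0, 8, 3, 2, 4, 3, 5, 6, 7, 9, 8, 3, 2, 1],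
    [7, 6, 5, 4, 3, 2, 1, 0, 8, 3, 2, 4, 3, 5, 6, 7, 9, 8, 3, 2, 4],
    [7, 6, 5, 4, 3, 2, 1, 0, 8, 3, 2, 4, 3, 5, 6, 8, 9, 8, 3, 2, 1],
    [7, 6, 5, 4, 3, 2, 1, 0, 8, 3, 2, 4, 3, 5, 6, 8, 9, 8, 3, 2, 4],
    [7, 6, 5, 4, 3, 2, 1, 0, 8, 3, 2, 4, 3, 5, 6, 9, 8, 3, 2, 1, 4],
    [7, 6, 5, 4, 3, 2, 1, 0, 8, 3, 2, 4, 3, 5, 6, 9, 8, 3, 2, 4, 3],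
    [7, 6, 5, 4, 3, 2, 1, 0, 8, 3, 2, 4, 3, 5, 6, 9, 8, 3, 2, 4, 5],
    [7, 6, 5, 4, 3, 2, 1, 0, 8, 3, 2, 4, 3, 5, 6, 9, 8, 3, 4, 5, 6],
    [7, 6, 5, 4, 3, 2, 1, 0, 8, 3, 2, 4, 3, 5, 8, 9, 8, 3, 2, 1, 0],
    [7, 6, 5, 4, 3, 2, 1, 0, 8, 3, 2, 4, 3, 5, 8, 9, 8, 3, 2, 1, 4],
    [7, 6, 5, 4, 3, 2, 1, 0, 8, 3, 2, 4, 3, 5, 8, 9, 8, 3, 2, 4, 3],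
    [7, 6, 5, 4, 3, 2, 1, 0, 8, 3, 2, 4, 3, 5, 8, 9, 8, 3, 2, 4, 5],
    [7, 6, 5, 4, 3, 2, 1, 0, 8, 3, 2, 4, 3, 5, 8, 9, 8, 3, 4, 5, 6],
    [7, 6, 5, 4, 3, 2, 1, 0, 8, 3, 2, 4, 3, 5, 9, 8, 3, 2, 4, 3, 5],
    [7, 6, 5, 4, 3, 2, 1, 0, 8, 3, 2, 4, 3, 8, 9, 8, 3, 2, 4, 3, 5],
    [7, 6, 5, 4, 3, 2, 1, 0, 8, 3, 2, 4, 3, 8, 9, 8, 3, 2, 4, 3, 8],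
    [7, 6, 5, 4, 3, 2, 1, 0, 8, 3, 2, 4, 3, 8, 9, 8, 3, 4, 5, 6, 7],
    [7, 6, 5, 4, 3, 2, 1, 0, 8, 3, 2, 4, 3, 9, 8, 3, 2, 1, 4, 3, 5],
    [7, 6, 5, 4, 3, 2, 1, 0, 8, 3, 2, 4, 3, 9, 8, 3, 2, 4, 3, 5, 4],
    [7, 6, 5, 4, 3, 2, 1, 0, 8, 3, 2, 4, 3, 9, 8, 3, 2, 4, 5, 6, 7],
    [7, 6, 5, 4, 3, 2, 1, 0, 8, 3, 2, 4, 5, 6, 7, 9, 8, 3, 2, 1, 4],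
    [7, 6, 5, 4, 3, 2, 1, 0, 8, 3, 2, 4, 5, 6, 7, 9, 8, 3, 2, 4, 3],
    [7, 6, 5, 4, 3, 2, 1, 0, 8, 3, 2, 4, 5, 6, 7, 9, 8, 3, 2, 4, 5],
    [7, 6, 5, 4, 3, 2, 1, 0, 8, 3, 2, 4, 5, 6, 7, 9, 8, 3, 4, 5, 6],
    [7, 6, 5, 4, 3, 2, 1, 0, 8, 3, 2, 4, 5, 6, 9, 8, 3, 2, 1, 4, 5],
    [7, 6, 5, 4, 3, 2, 1, 0, 8, 3, 2, 4, 5, 6, 9, 8, 3, 2, 4, 3, 5],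
    [7, 6, 5, 4, 3, 2, 1, 0, 8, 3, 2, 4, 5, 6, 9, 8, 3, 2, 4, 3, 8],
    [7, 6, 5, 4, 3, 2, 1, 0, 8, 3, 2, 4, 5, 6, 9, 8, 3, 4, 5, 6, 7],
    [7, 6, 5, 4, 3, 2, 1, 0, 8, 3, 2, 4, 5, 9, 8, 3, 2, 1, 0, 4, 3],
    [7, 6, 5, 4, 3, 2, 1, 0, 8, 3, 2, 4, 5, 9, 8, 3, 2, 1, 4, 3, 2],
    [7, 6, 5, 4, 3, 2, 1, 0, 8, 3, 2, 4, 5, 9, 8, 3, 2, 1, 4, 3, 5],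
    [7, 6, 5, 4, 3, 2, 1, 0, 8, 3, 2, 4, 5, 9, 8, 3, 2, 4, 3, 5, 6],
    [7, 6, 5, 4, 3, 2, 1, 0, 8, 3, 2, 4, 5, 9, 8, 3, 2, 4, 3, 8, 9],
    [7, 6, 5, 4, 3, 2, 1, 0, 8, 3, 2, 4, 5, 9, 8, 3, 2, 4, 5, 6, 7],
    [7, 6, 5, 4, 3, 2, 1, 0, 8, 3, 2, 4, 9, 8, 3, 2, 1, 0, 4, 5, 6],
    [7, 6, 5, 4, 3, 2, 1, 0, 8, 3, 2, 4, 9, 8, 3, 2, 1, 4, 5, 6, 7],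
    [7, 6, 5, 4, 3, 2, 1, 0, 8, 3, 4, 5, 6, 7, 9, 8, 3, 2, 4, 3, 8],
    [7, 6, 5, 4, 3, 2, 1, 0, 8, 3, 4, 5, 6, 9, 8, 3, 2, 1, 0, 4, 5],
    [7, 6, 5, 4, 3, 2, 1, 0, 8, 3, 4, 5, 6, 9, 8, 3, 2, 1, 4, 3, 5],
    [7, 6, 5, 4, 3, 2, 1, 0, 8, 3, 4, 5, 6, 9, 8, 3, 2, 1, 4, 3, 8],
    [7, 6, 5, 4, 3, 2, 1, 0, 8, 3, 4, 5, 6, 9, 8, 3, 2, 4, 3, 5, 4],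
    [7, 6, 5, 4, 3, 2, 1, 0, 8, 3, 4, 5, 6, 9, 8, 3, 2, 4, 3, 5, 8],
    [7, 6, 5, 4, 3, 2, 1, 0, 8, 3, 4, 5, 6, 9, 8, 3, 2, 4, 3, 8, 9],
    [7, 6, 5, 4, 3, 2, 1, 0, 8, 3, 4, 5, 9, 8, 3, 2, 1, 0, 4, 3, 2],
    [7, 6, 5, 4, 3, 2, 1, 0, 8, 3, 4, 5, 9, 8, 3, 2, 1, 4, 3, 2, 8],
    [7, 6, 5, 4, 3, 2, 1, 8, 3, 2, 4, 3, 5, 4, 6, 5, 7, 6, 8, 9, 8],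
    [7, 6, 5, 4, 3, 2, 1, 8, 3, 2, 4, 3, 5, 4, 6, 5, 7, 8, 3, 2, 9],
    [7, 6, 5, 4, 3, 2, 1, 8, 3, 2, 4, 3, 5, 4, 6, 5, 7, 8, 3, 9, 8],
    [7, 6, 5, 4, 3, 2, 1, 8, 3, 2, 4, 3, 5, 4, 6, 5, 7, 9, 8, 3, 4],
    [7, 6, 5, 4, 3, 2, 1, 8, 3, 2, 4, 3, 5, 4, 6, 5, 8, 9, 8, 3, 2],
    [7, 6, 5, 4, 3, 2, 1, 8, 3, 2, 4, 3, 5, 4, 6, 5, 9, 8, 3, 4, 5],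
    [7, 6, 5, 4, 3, 2, 1, 8, 3, 2, 4, 3, 5, 4, 6, 7, 9, 8, 3, 2, 1],
    [7, 6, 5, 4, 3, 2, 1, 8, 3, 2, 4, 3, 5, 4, 6, 7, 9, 8, 3, 2, 4],
    [7, 6, 5, 4, 3, 2, 1, 8, 3, 2, 4, 3, 5, 4, 6, 8, 9, 8, 3, 2, 4],
    [7, 6, 5, 4, 3, 2, 1, 8, 3, 2, 4, 3, 5, 4, 6, 8, 9, 8, 3, 4, 5]]

/-- A part of the representatives. -/
def repsV_6 : List (List ℕ) :=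
  [[7, 6, 5, 4, 3, 2, 1, 8, 3, 2, 4, 3, 5, 4, 6, 9, 8, 3, 2, 1, 4],
    [7, 6, 5, 4, 3, 2, 1, 8, 3, 2, 4, 3, 5, 4, 6, 9, 8, 3, 2, 4, 5],
    [7, 6, 5, 4, 3, 2, 1, 8, 3, 2, 4, 3, 5, 4, 6, 9, 8, 3, 4, 5, 6],
    [7, 6, 5, 4, 3, 2, 1, 8, 3, 2, 4, 3, 5, 4, 8, 9, 8, 3, 2, 4, 5],
    [7, 6, 5, 4, 3, 2, 1, 8, 3, 2, 4, 3, 5, 4, 9, 8, 3, 2, 1, 4, 3],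
    [7, 6, 5, 4, 3, 2, 1, 8, 3, 2, 4, 3, 5, 4, 9, 8, 3, 2, 4, 3, 5],
    [7, 6, 5, 4, 3, 2, 1, 8, 3, 2, 4, 3, 5, 4, 9, 8, 3, 4, 5, 6, 7],
    [7, 6, 5, 4, 3, 2, 1, 8, 3, 2, 4, 3, 5, 6, 7, 8, 9, 8, 3, 2, 1],
    [7, 6, 5, 4, 3, 2, 1, 8, 3, 2, 4, 3, 5, 6, 7, 9, 8, 3, 2, 1, 0],
    [7, 6, 5, 4, 3, 2, 1, 8, 3, 2, 4, 3, 5, 6, 7, 9, 8, 3, 2, 1, 4],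
    [7, 6, 5, 4, 3, 2, 1, 8, 3, 2, 4, 3, 5, 6, 7, 9, 8, 3, 2, 4, 3],
    [7, 6, 5, 4, 3, 2, 1, 8, 3, 2, 4, 3, 5, 6, 7, 9, 8, 3, 2, 4, 5],
    [7, 6, 5, 4, 3, 2, 1, 8, 3, 2, 4, 3, 5, 6, 7, 9, 8, 3, 4, 5, 6],
    [7, 6, 5, 4, 3, 2, 1, 8, 3, 2, 4, 3, 5, 6, 8, 9, 8, 3, 2, 1, 0],
    [7, 6, 5, 4, 3, 2, 1, 8, 3, 2, 4, 3, 5, 6, 8, 9, 8, 3, 2, 1, 4],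
    [7, 6, 5, 4, 3, 2, 1, 8, 3, 2, 4, 3, 5, 6, 8, 9, 8, 3, 2, 4, 5],
    [7, 6, 5, 4, 3, 2, 1, 8, 3, 2, 4, 3, 5, 6, 8, 9, 8, 3, 4, 5, 6],
    [7, 6, 5, 4, 3, 2, 1, 8, 3, 2, 4, 3, 5, 6, 9, 8, 3, 2, 1, 0, 4],
    [7, 6, 5, 4, 3, 2, 1, 8, 3, 2, 4, 3, 5, 6, 9, 8, 3, 4, 5, 6, 7],
    [7, 6, 5, 4, 3, 2, 1, 8, 3, 2, 4, 3, 5, 8, 9, 8, 3, 2, 1, 0, 4],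
    [7, 6, 5, 4, 3, 2, 1, 8, 3, 2, 4, 3, 5, 8, 9, 8, 3, 4, 5, 6, 7],
    [7, 6, 5, 4, 3, 2, 1, 8, 3, 2, 4, 3, 5, 9, 8, 3, 2, 1, 0, 4, 5],
    [7, 6, 5, 4, 3, 2, 1, 8, 3, 2, 4, 3, 5, 9, 8, 3, 2, 4, 3, 5, 4],
    [7, 6, 5, 4, 3, 2, 1, 8, 3, 2, 4, 3, 5, 9, 8, 3, 2, 4, 3, 5, 6],
    [7, 6, 5, 4, 3, 2, 1, 8, 3, 2, 4, 3, 5, 9, 8, 3, 2, 4, 3, 5, 8],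
    [7, 6, 5, 4, 3, 2, 1, 8, 3, 2, 4, 3, 5, 9, 8, 3, 2, 4, 5, 6, 7],
    [7, 6, 5, 4, 3, 2, 1, 8, 3, 2, 4, 3, 8, 9, 8, 3, 2, 1, 4, 3, 2],
    [7, 6, 5, 4, 3, 2, 1, 8, 3, 2, 4, 3, 8, 9, 8, 3, 2, 4, 3, 5, 6],
    [7, 6, 5, 4, 3, 2, 1, 8, 3, 2, 4, 3, 8, 9, 8, 3, 2, 4, 5, 6, 7],
    [7, 6, 5, 4, 3, 2, 1, 8, 3, 2, 4, 3, 9, 8, 3, 2, 1, 0, 4, 3, 2],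
    [7, 6, 5, 4, 3, 2, 1, 8, 3, 2, 4, 3, 9, 8, 3, 2, 1, 0, 4, 3, 5],
    [7, 6, 5, 4, 3, 2, 1, 8, 3, 2, 4, 3, 9, 8, 3, 2, 1, 4, 3, 2, 5],
    [7, 6, 5, 4, 3, 2, 1, 8, 3, 2, 4, 3, 9, 8, 3, 2, 1, 4, 3, 5, 4],
    [7, 6, 5, 4, 3, 2, 1, 8, 3, 2, 4, 3, 9, 8, 3, 2, 1, 4, 5, 6, 7],
    [7, 6, 5, 4, 3, 2, 1, 8, 3, 2, 4, 3, 9, 8, 3, 2, 4, 3, 5, 6, 7],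
    [7, 6, 5, 4, 3, 2, 1, 8, 3, 2, 4, 5, 6, 7, 9, 8, 3, 2, 1, 0, 4],
    [7, 6, 5, 4, 3, 2, 1, 8, 3, 2, 4, 5, 6, 7, 9, 8, 3, 2, 1, 4, 3],
    [7, 6, 5, 4, 3, 2, 1, 8, 3, 2, 4, 5, 6, 7, 9, 8, 3, 4, 5, 6, 7],
    [7, 6, 5, 4, 3, 2, 1, 8, 3, 2, 4, 5, 6, 9, 8, 3, 2, 1, 0, 4, 3],
    [7, 6, 5, 4, 3, 2, 1, 8, 3, 2, 4, 5, 6, 9, 8, 3, 2, 4, 3, 5, 4],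
    [7, 6, 5, 4, 3, 2, 1, 8, 3, 2, 4, 5, 6, 9, 8, 3, 2, 4, 3, 5, 6],
    [7, 6, 5, 4, 3, 2, 1, 8, 3, 2, 4, 5, 6, 9, 8, 3, 2, 4, 5, 6, 7],
    [7, 6, 5, 4, 3, 2, 1, 8, 3, 2, 4, 5, 9, 8, 3, 2, 1, 0, 4, 3, 5],
    [7, 6, 5, 4, 3, 2, 1, 8, 3, 2, 4, 5, 9, 8, 3, 2, 1, 0, 4, 5, 6],
    [7, 6, 5, 4, 3, 2, 1, 8, 3, 2, 4, 5, 9, 8, 3, 2, 4, 3, 5, 6, 7],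
    [7, 6, 5, 4, 3, 2, 1, 8, 3, 2, 4, 9, 8, 3, 2, 1, 0, 4, 5, 6, 7],
    [7, 6, 5, 4, 3, 2, 1, 8, 3, 4, 5, 6, 7, 9, 8, 3, 2, 1, 0, 4, 3],
    [7, 6, 5, 4, 3, 2, 1, 8, 3, 4, 5, 6, 7, 9, 8, 3, 2, 1, 0, 4, 5],
    [7, 6, 5, 4, 3, 2, 1, 8, 3, 4, 5, 6, 7, 9, 8, 3, 2, 1, 4, 3, 5],
    [7, 6, 5, 4, 3, 2, 1, 8, 3, 4, 5, 6, 9, 8, 3, 2, 1, 0, 4, 3, 5],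
    [7, 6, 5, 4, 3, 2, 1, 8, 3, 4, 5, 6, 9, 8, 3, 2, 1, 4, 3, 5, 4],
    [7, 6, 5, 4, 3, 2, 1, 0, 8, 3, 2, 1, 4, 3, 2, 5, 4, 3, 6, 5, 4, 7],
    [7, 6, 5, 4, 3, 2, 1, 0, 8, 3, 2, 1, 4, 3, 2, 5, 4, 3, 6, 5, 4, 9],
    [7, 6, 5, 4, 3, 2, 1, 0, 8, 3, 2, 1, 4, 3, 2, 5, 4, 3, 6, 7, 9, 8],
    [7, 6, 5, 4, 3, 2, 1, 0, 8, 3, 2, 1, 4, 3, 2, 5, 4, 3, 9, 8, 3, 2],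
    [7, 6, 5, 4, 3, 2, 1, 0, 8, 3, 2, 1, 4, 3, 2, 5, 4, 6, 5, 7, 8, 9],
    [7, 6, 5, 4, 3, 2, 1, 0, 8, 3, 2, 1, 4, 3, 2, 5, 4, 6, 5, 7, 9, 8],
    [7, 6, 5, 4, 3, 2, 1, 0, 8, 3, 2, 1, 4, 3, 2, 5, 4, 6, 9, 8, 3, 2],
    [7, 6, 5, 4, 3, 2, 1, 0, 8, 3, 2, 1, 4, 3, 2, 5, 4, 8, 9, 8, 3, 2],
    [7, 6, 5, 4, 3, 2, 1, 0, 8, 3, 2, 1, 4, 3, 2, 5, 4, 9, 8, 3, 2, 1],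
    [7, 6, 5, 4, 3, 2, 1, 0, 8, 3, 2, 1, 4, 3, 2, 5, 4, 9, 8, 3, 2, 4],
    [7, 6, 5, 4, 3, 2, 1, 0, 8, 3, 2, 1, 4, 3, 2, 5, 4, 9, 8, 3, 4, 5],
    [7, 6, 5, 4, 3, 2, 1, 0, 8, 3, 2, 1, 4, 3, 2, 5, 6, 7, 8, 3, 9, 8],
    [7, 6, 5, 4, 3, 2, 1, 0, 8, 3, 2, 1, 4, 3, 2, 5, 6, 9, 8, 3, 2, 1],
    [7, 6, 5, 4, 3, 2, 1, 0, 8, 3, 2, 1, 4, 3, 2, 5, 6, 9, 8, 3, 2, 4],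
    [7, 6, 5, 4, 3, 2, 1, 0, 8, 3, 2, 1, 4, 3, 2, 5, 6, 9, 8, 3, 4, 5],
    [7, 6, 5, 4, 3, 2, 1, 0, 8, 3, 2, 1, 4, 3, 2, 5, 8, 9, 8, 3, 2, 4],
    [7, 6, 5, 4, 3, 2, 1, 0, 8, 3, 2, 1, 4, 3, 2, 5, 9, 8, 3, 2, 1, 0],
    [7, 6, 5, 4, 3, 2, 1, 0, 8, 3, 2, 1, 4, 3, 2, 5, 9, 8, 3, 2, 1, 4],
    [7, 6, 5, 4, 3, 2, 1, 0, 8, 3, 2, 1, 4, 3, 2, 5, 9, 8, 3, 2, 4, 3],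
    [7, 6, 5, 4, 3, 2, 1, 0, 8, 3, 2, 1, 4, 3, 2, 5, 9, 8, 3, 2, 4, 5],
    [7, 6, 5, 4, 3, 2, 1, 0, 8, 3, 2, 1, 4, 3, 2, 8, 3, 9, 8, 3, 2, 1],
    [7, 6, 5, 4, 3, 2, 1, 0, 8, 3, 2, 1, 4, 3, 2, 8, 3, 9, 8, 3, 2, 4],
    [7, 6, 5, 4, 3, 2, 1, 0, 8, 3, 2, 1, 4, 3, 2, 8, 9, 8, 3, 2, 1, 0],
    [7, 6, 5, 4, 3, 2, 1, 0, 8, 3, 2, 1, 4, 3, 2, 8, 9, 8, 3, 2, 1, 4],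
    [7, 6, 5, 4, 3, 2, 1, 0, 8, 3, 2, 1, 4, 3, 2, 8, 9, 8, 3, 2, 4, 3],
    [7, 6, 5, 4, 3, 2, 1, 0, 8, 3, 2, 1, 4, 3, 2, 8, 9, 8, 3, 2, 4, 5],
    [7, 6, 5, 4, 3, 2, 1, 0, 8, 3, 2, 1, 4, 3, 2, 8, 9, 8, 3, 4, 5, 6],
    [7, 6, 5, 4, 3, 2, 1, 0, 8, 3, 2, 1, 4, 3, 2, 9, 8, 3, 2, 1, 0, 4],
    [7, 6, 5, 4, 3, 2, 1, 0, 8, 3, 2, 1, 4, 3, 2, 9, 8, 3, 2, 4, 3, 8],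
    [7, 6, 5, 4, 3, 2, 1, 0, 8, 3, 2, 1, 4, 3, 5, 4, 6, 5, 7, 8, 3, 9],
    [7, 6, 5, 4, 3, 2, 1, 0, 8, 3, 2, 1, 4, 3, 5, 4, 6, 5, 7, 8, 9, 8],
    [7, 6, 5, 4, 3, 2, 1, 0, 8, 3, 2, 1, 4, 3, 5, 4, 6, 5, 8, 3, 4, 9],
    [7, 6, 5, 4, 3, 2, 1, 0, 8, 3, 2, 1, 4, 3, 5, 4, 9, 8, 3, 2, 1, 0],
    [7, 6, 5, 4, 3, 2, 1, 0, 8, 3, 2, 1, 4, 3, 5, 4, 9, 8, 3, 2, 4, 3],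
    [7, 6, 5, 4, 3, 2, 1, 0, 8, 3, 2, 1, 4, 3, 5, 6, 7, 8, 9, 8, 3, 4],
    [7, 6, 5, 4, 3, 2, 1, 0, 8, 3, 2, 1, 4, 3, 5, 6, 8, 9, 8, 3, 2, 1],
    [7, 6, 5, 4, 3, 2, 1, 0, 8, 3, 2, 1, 4, 3, 5, 6, 9, 8, 3, 2, 4, 3],
    [7, 6, 5, 4, 3, 2, 1, 0, 8, 3, 2, 1, 4, 3, 5, 8, 9, 8, 3, 2, 1, 0],
    [7, 6, 5, 4, 3, 2, 1, 0, 8, 3, 2, 1, 4, 3, 5, 8, 9, 8, 3, 2, 1, 4],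
    [7, 6, 5, 4, 3, 2, 1, 0, 8, 3, 2, 1, 4, 3, 5, 8, 9, 8, 3, 2, 4, 3],
    [7, 6, 5, 4, 3, 2, 1, 0, 8, 3, 2, 1, 4, 3, 5, 8, 9, 8, 3, 2, 4, 5],
    [7, 6, 5, 4, 3, 2, 1, 0, 8, 3, 2, 1, 4, 3, 5, 9, 8, 3, 2, 4, 3, 5],
    [7, 6, 5, 4, 3, 2, 1, 0, 8, 3, 2, 1, 4, 3, 8, 9, 8, 3, 2, 4, 3, 8],
    [7, 6, 5, 4, 3, 2, 1, 0, 8, 3, 2, 1, 4, 3, 9, 8, 3, 2, 1, 0, 4, 3],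
    [7, 6, 5, 4, 3, 2, 1, 0, 8, 3, 2, 1, 4, 3, 9, 8, 3, 2, 1, 4, 3, 2],
    [7, 6, 5, 4, 3, 2, 1, 0, 8, 3, 2, 1, 4, 3, 9, 8, 3, 2, 1, 4, 3, 5],
    [7, 6, 5, 4, 3, 2, 1, 0, 8, 3, 2, 1, 4, 3, 9, 8, 3, 2, 4, 3, 5, 4],
    [7, 6, 5, 4, 3, 2, 1, 0, 8, 3, 2, 1, 4, 3, 9, 8, 3, 2, 4, 3, 5, 6],
    [7, 6, 5, 4, 3, 2, 1, 0, 8, 3, 2, 1, 4, 3, 9, 8, 3, 2, 4, 3, 5, 8],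
    [7, 6, 5, 4, 3, 2, 1, 0, 8, 3, 2, 1, 4, 3, 9, 8, 3, 2, 4, 3, 8, 9],
    [7, 6, 5, 4, 3, 2, 1, 0, 8, 3, 2, 1, 4, 5, 6, 7, 9, 8, 3, 2, 1, 0],
    [7, 6, 5, 4, 3, 2, 1, 0, 8, 3, 2, 1, 4, 5, 6, 7, 9, 8, 3, 2, 4, 3],
    [7, 6, 5, 4, 3, 2, 1, 0, 8, 3, 2, 1, 4, 5, 6, 7, 9, 8, 3, 4, 5, 6],
    [7, 6, 5, 4, 3, 2, 1, 0, 8, 3, 2, 1, 4, 5, 6, 9, 8, 3, 2, 1, 0, 4],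
    [7, 6, 5, 4, 3, 2, 1, 0, 8, 3, 2, 1, 4, 5, 6, 9, 8, 3, 2, 1, 4, 5],
    [7, 6, 5, 4, 3, 2, 1, 0, 8, 3, 2, 1, 4, 5, 9, 8, 3, 2, 1, 0, 4, 3],
    [7, 6, 5, 4, 3, 2, 1, 0, 8, 3, 2, 1, 4, 5, 9, 8, 3, 2, 1, 0, 4, 5],
    [7, 6, 5, 4, 3, 2, 1, 0, 8, 3, 2, 1, 4, 5, 9, 8, 3, 2, 1, 4, 3, 2],
    [7, 6, 5, 4, 3, 2, 1, 0, 8, 3, 2, 1, 4, 5, 9, 8, 3, 2, 1, 4, 3, 5],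
    [7, 6, 5, 4, 3, 2, 1, 0, 8, 3, 2, 1, 4, 5, 9, 8, 3, 2, 1, 4, 3, 8],
    [7, 6, 5, 4, 3, 2, 1, 0, 8, 3, 2, 1, 4, 5, 9, 8, 3, 2, 4, 3, 8, 9],
    [7, 6, 5, 4, 3, 2, 1, 0, 8, 3, 2, 1, 4, 9, 8, 3, 2, 1, 0, 4, 3, 5],
    [7, 6, 5, 4, 3, 2, 1, 0, 8, 3, 2, 1, 4, 9, 8, 3, 2, 1, 4, 3, 5, 4],
    [7, 6, 5, 4, 3, 2, 1, 0, 8, 3, 2, 1, 4, 9, 8, 3, 2, 1, 4, 3, 5, 6],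
    [7, 6, 5, 4, 3, 2, 1, 0, 8, 3, 2, 1, 4, 9, 8, 3, 2, 1, 4, 3, 5, 8],
    [7, 6, 5, 4, 3, 2, 1, 0, 8, 3, 2, 1, 4, 9, 8, 3, 2, 1, 4, 5, 6, 7],
    [7, 6, 5, 4, 3, 2, 1, 0, 8, 3, 2, 1, 4, 9, 8, 3, 2, 4, 3, 5, 4, 6],
    [7, 6, 5, 4, 3, 2, 1, 0, 8, 3, 2, 1, 4, 9, 8, 3, 2, 4, 3, 5, 6, 7],
    [7, 6, 5, 4, 3, 2, 1, 0, 8, 3, 2, 1, 9, 8, 3, 2, 4, 3, 5, 4, 6, 5],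
    [7, 6, 5, 4, 3, 2, 1, 0, 8, 3, 2, 1, 9, 8, 3, 2, 4, 3, 5, 4, 6, 7],
    [7, 6, 5, 4, 3, 2, 1, 0, 8, 3, 2, 1, 9, 8, 3, 2, 4, 3, 5, 4, 6, 8],
    [7, 6, 5, 4, 3, 2, 1, 0, 8, 3, 2, 1, 9, 8, 3, 2, 4, 3, 5, 4, 8, 9],
    [7, 6, 5, 4, 3, 2, 1, 0, 8, 3, 2, 1, 9, 8, 3, 2, 4, 3, 5, 6, 7, 8],
    [7, 6, 5, 4, 3, 2, 1, 0, 8, 3, 2, 1, 9, 8, 3, 2, 4, 3, 5, 6, 8, 9],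
    [7, 6, 5, 4, 3, 2, 1, 0, 8, 3, 2, 4, 3, 5, 4, 6, 5, 8, 3, 4, 9, 8],
    [7, 6, 5, 4, 3, 2, 1, 0, 8, 3, 2, 4, 3, 5, 4, 6, 5, 9, 8, 3, 2, 4],
    [7, 6, 5, 4, 3, 2, 1, 0, 8, 3, 2, 4, 3, 5, 4, 6, 5, 9, 8, 3, 4, 5]]

/-- A part of the representatives. -/
def repsV_7 : List (List ℕ) :=
  [[7, 6, 5, 4, 3, 2, 1, 0, 8, 3, 2, 4, 3, 5, 4, 6, 7, 8, 9, 8, 3, 2],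
    [7, 6, 5, 4, 3, 2, 1, 0, 8, 3, 2, 4, 3, 5, 4, 6, 7, 9, 8, 3, 2, 4],
    [7, 6, 5, 4, 3, 2, 1, 0, 8, 3, 2, 4, 3, 5, 4, 6, 7, 9, 8, 3, 4, 5],
    [7, 6, 5, 4, 3, 2, 1, 0, 8, 3, 2, 4, 3, 5, 4, 6, 8, 3, 9, 8, 3, 4],
    [7, 6, 5, 4, 3, 2, 1, 0, 8, 3, 2, 4, 3, 5, 4, 6, 8, 9, 8, 3, 2, 1],
    [7, 6, 5, 4, 3, 2, 1, 0, 8, 3, 2, 4, 3, 5, 4, 6, 8, 9, 8, 3, 4, 5],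
    [7, 6, 5, 4, 3, 2, 1, 0, 8, 3, 2, 4, 3, 5, 4, 6, 9, 8, 3, 2, 1, 0],
    [7, 6, 5, 4, 3, 2, 1, 0, 8, 3, 2, 4, 3, 5, 4, 6, 9, 8, 3, 2, 4, 3],
    [7, 6, 5, 4, 3, 2, 1, 0, 8, 3, 2, 4, 3, 5, 4, 6, 9, 8, 3, 2, 4, 5],
    [7, 6, 5, 4, 3, 2, 1, 0, 8, 3, 2, 4, 3, 5, 4, 6, 9, 8, 3, 4, 5, 6],
    [7, 6, 5, 4, 3, 2, 1, 0, 8, 3, 2, 4, 3, 5, 4, 8, 9, 8, 3, 2, 1, 4],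
    [7, 6, 5, 4, 3, 2, 1, 0, 8, 3, 2, 4, 3, 5, 4, 8, 9, 8, 3, 2, 4, 5],
    [7, 6, 5, 4, 3, 2, 1, 0, 8, 3, 2, 4, 3, 5, 4, 9, 8, 3, 2, 4, 3, 5],
    [7, 6, 5, 4, 3, 2, 1, 0, 8, 3, 2, 4, 3, 5, 4, 9, 8, 3, 2, 4, 3, 8],
    [7, 6, 5, 4, 3, 2, 1, 0, 8, 3, 2, 4, 3, 5, 4, 9, 8, 3, 4, 5, 6, 7],
    [7, 6, 5, 4, 3, 2, 1, 0, 8, 3, 2, 4, 3, 5, 6, 7, 8, 9, 8, 3, 2, 4],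
    [7, 6, 5, 4, 3, 2, 1, 0, 8, 3, 2, 4, 3, 5, 6, 7, 9, 8, 3, 2, 4, 3],
    [7, 6, 5, 4, 3, 2, 1, 0, 8, 3, 2, 4, 3, 5, 6, 7, 9, 8, 3, 2, 4, 5],
    [7, 6, 5, 4, 3, 2, 1, 0, 8, 3, 2, 4, 3, 5, 6, 8, 9, 8, 3, 2, 1, 4],
    [7, 6, 5, 4, 3, 2, 1, 0, 8, 3, 2, 4, 3, 5, 6, 8, 9, 8, 3, 2, 4, 5],
    [7, 6, 5, 4, 3, 2, 1, 0, 8, 3, 2, 4, 3, 5, 6, 9, 8, 3, 2, 4, 3, 5],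
    [7, 6, 5, 4, 3, 2, 1, 0, 8, 3, 2, 4, 3, 5, 6, 9, 8, 3, 2, 4, 3, 8],
    [7, 6, 5, 4, 3, 2, 1, 0, 8, 3, 2, 4, 3, 5, 6, 9, 8, 3, 4, 5, 6, 7],
    [7, 6, 5, 4, 3, 2, 1, 0, 8, 3, 2, 4, 3, 5, 8, 9, 8, 3, 4, 5, 6, 7],
    [7, 6, 5, 4, 3, 2, 1, 0, 8, 3, 2, 4, 3, 5, 9, 8, 3, 2, 4, 3, 5, 4],
    [7, 6, 5, 4, 3, 2, 1, 0, 8, 3, 2, 4, 3, 5, 9, 8, 3, 2, 4, 3, 5, 6],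
    [7, 6, 5, 4, 3, 2, 1, 0, 8, 3, 2, 4, 3, 5, 9, 8, 3, 2, 4, 3, 5, 8],
    [7, 6, 5, 4, 3, 2, 1, 0, 8, 3, 2, 4, 3, 5, 9, 8, 3, 2, 4, 3, 8, 9],
    [7, 6, 5, 4, 3, 2, 1, 0, 8, 3, 2, 4, 3, 5, 9, 8, 3, 2, 4, 5, 6, 7],
    [7, 6, 5, 4, 3, 2, 1, 0, 8, 3, 2, 4, 3, 8, 9, 8, 3, 2, 1, 4, 3, 5],
    [7, 6, 5, 4, 3, 2, 1, 0, 8, 3, 2, 4, 3, 8, 9, 8, 3, 2, 4, 3, 5, 4],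
    [7, 6, 5, 4, 3, 2, 1, 0, 8, 3, 2, 4, 3, 8, 9, 8, 3, 2, 4, 3, 5, 6],
    [7, 6, 5, 4, 3, 2, 1, 0, 8, 3, 2, 4, 3, 8, 9, 8, 3, 2, 4, 3, 5, 8],
    [7, 6, 5, 4, 3, 2, 1, 0, 8, 3, 2, 4, 3, 8, 9, 8, 3, 2, 4, 5, 6, 7],
    [7, 6, 5, 4, 3, 2, 1, 0, 8, 3, 2, 4, 3, 9, 8, 3, 2, 1, 0, 4, 5, 6],
    [7, 6, 5, 4, 3, 2, 1, 0, 8, 3, 2, 4, 3, 9, 8, 3, 2, 1, 4, 3, 5, 6],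
    [7, 6, 5, 4, 3, 2, 1, 0, 8, 3, 2, 4, 3, 9, 8, 3, 2, 1, 4, 5, 6, 7],
    [7, 6, 5, 4, 3, 2, 1, 0, 8, 3, 2, 4, 3, 9, 8, 3, 2, 4, 3, 5, 4, 6],
    [7, 6, 5, 4, 3, 2, 1, 0, 8, 3, 2, 4, 3, 9, 8, 3, 2, 4, 3, 5, 6, 7],
    [7, 6, 5, 4, 3, 2, 1, 0, 8, 3, 2, 4, 5, 6, 7, 9, 8, 3, 2, 4, 3, 5],
    [7, 6, 5, 4, 3, 2, 1, 0, 8, 3, 2, 4, 5, 6, 7, 9, 8, 3, 4, 5, 6, 7],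
    [7, 6, 5, 4, 3, 2, 1, 0, 8, 3, 2, 4, 5, 6, 9, 8, 3, 2, 1, 0, 4, 3],
    [7, 6, 5, 4, 3, 2, 1, 0, 8, 3, 2, 4, 5, 6, 9, 8, 3, 2, 1, 0, 4, 5],
    [7, 6, 5, 4, 3, 2, 1, 0, 8, 3, 2, 4, 5, 6, 9, 8, 3, 2, 1, 4, 5, 6],
    [7, 6, 5, 4, 3, 2, 1, 0, 8, 3, 2, 4, 5, 6, 9, 8, 3, 2, 4, 3, 5, 4],
    [7, 6, 5, 4, 3, 2, 1, 0, 8, 3, 2, 4, 5, 6, 9, 8, 3, 2, 4, 3, 5, 6],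
    [7, 6, 5, 4, 3, 2, 1, 0, 8, 3, 2, 4, 5, 6, 9, 8, 3, 2, 4, 3, 5, 8],
    [7, 6, 5, 4, 3, 2, 1, 0, 8, 3, 2, 4, 5, 6, 9, 8, 3, 2, 4, 3, 8, 9],
    [7, 6, 5, 4, 3, 2, 1, 0, 8, 3, 2, 4, 5, 9, 8, 3, 2, 1, 0, 4, 3, 2],
    [7, 6, 5, 4, 3, 2, 1, 0, 8, 3, 2, 4, 5, 9, 8, 3, 2, 1, 0, 4, 3, 5],
    [7, 6, 5, 4, 3, 2, 1, 0, 8, 3, 2, 4, 5, 9, 8, 3, 2, 1, 4, 3, 5, 6],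
    [7, 6, 5, 4, 3, 2, 1, 0, 8, 3, 2, 4, 5, 9, 8, 3, 2, 1, 4, 3, 5, 8],
    [7, 6, 5, 4, 3, 2, 1, 0, 8, 3, 2, 4, 5, 9, 8, 3, 2, 1, 4, 5, 6, 7],
    [7, 6, 5, 4, 3, 2, 1, 0, 8, 3, 2, 4, 5, 9, 8, 3, 2, 4, 3, 5, 6, 7],
    [7, 6, 5, 4, 3, 2, 1, 0, 8, 3, 4, 5, 6, 7, 9, 8, 3, 2, 1, 4, 3, 2],
    [7, 6, 5, 4, 3, 2, 1, 0, 8, 3, 4, 5, 6, 7, 9, 8, 3, 2, 1, 4, 3, 5],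
    [7, 6, 5, 4, 3, 2, 1, 0, 8, 3, 4, 5, 6, 7, 9, 8, 3, 2, 4, 3, 5, 4],
    [7, 6, 5, 4, 3, 2, 1, 0, 8, 3, 4, 5, 6, 7, 9, 8, 3, 2, 4, 3, 5, 6],
    [7, 6, 5, 4, 3, 2, 1, 0, 8, 3, 4, 5, 6, 9, 8, 3, 2, 1, 0, 4, 3, 2],
    [7, 6, 5, 4, 3, 2, 1, 0, 8, 3, 4, 5, 6, 9, 8, 3, 2, 1, 4, 3, 5, 8],
    [7, 6, 5, 4, 3, 2, 1, 0, 8, 3, 4, 5, 6, 9, 8, 3, 2, 4, 3, 5, 4, 8],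
    [7, 6, 5, 4, 3, 2, 1, 0, 8, 3, 4, 5, 6, 9, 8, 3, 2, 4, 3, 5, 8, 9],
    [7, 6, 5, 4, 3, 2, 1, 0, 8, 3, 4, 5, 9, 8, 3, 2, 1, 4, 3, 2, 8, 3],
    [7, 6, 5, 4, 3, 2, 1, 8, 3, 2, 4, 3, 5, 4, 6, 5, 7, 8, 3, 4, 9, 8],
    [7, 6, 5, 4, 3, 2, 1, 8, 3, 2, 4, 3, 5, 4, 6, 5, 7, 8, 9, 8, 3, 4],
    [7, 6, 5, 4, 3, 2, 1, 8, 3, 2, 4, 3, 5, 4, 6, 5, 7, 9, 8, 3, 2, 4],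
    [7, 6, 5, 4, 3, 2, 1, 8, 3, 2, 4, 3, 5, 4, 6, 5, 8, 9, 8, 3, 2, 4],
    [7, 6, 5, 4, 3, 2, 1, 8, 3, 2, 4, 3, 5, 4, 6, 5, 8, 9, 8, 3, 4, 5],
    [7, 6, 5, 4, 3, 2, 1, 8, 3, 2, 4, 3, 5, 4, 6, 5, 9, 8, 3, 2, 1, 4],
    [7, 6, 5, 4, 3, 2, 1, 8, 3, 2, 4, 3, 5, 4, 6, 5, 9, 8, 3, 2, 4, 5],
    [7, 6, 5, 4, 3, 2, 1, 8, 3, 2, 4, 3, 5, 4, 6, 5, 9, 8, 3, 4, 5, 6],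
    [7, 6, 5, 4, 3, 2, 1, 8, 3, 2, 4, 3, 5, 4, 6, 7, 9, 8, 3, 2, 1, 4],
    [7, 6, 5, 4, 3, 2, 1, 8, 3, 2, 4, 3, 5, 4, 6, 7, 9, 8, 3, 2, 4, 3],
    [7, 6, 5, 4, 3, 2, 1, 8, 3, 2, 4, 3, 5, 4, 6, 7, 9, 8, 3, 2, 4, 5],
    [7, 6, 5, 4, 3, 2, 1, 8, 3, 2, 4, 3, 5, 4, 6, 7, 9, 8, 3, 4, 5, 6],
    [7, 6, 5, 4, 3, 2, 1, 8, 3, 2, 4, 3, 5, 4, 6, 8, 3, 9, 8, 3, 4, 5],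
    [7, 6, 5, 4, 3, 2, 1, 8, 3, 2, 4, 3, 5, 4, 8, 9, 8, 3, 4, 5, 6, 7],
    [7, 6, 5, 4, 3, 2, 1, 8, 3, 2, 4, 3, 5, 4, 9, 8, 3, 2, 1, 4, 3, 8],
    [7, 6, 5, 4, 3, 2, 1, 8, 3, 2, 4, 3, 5, 4, 9, 8, 3, 2, 4, 5, 6, 7],
    [7, 6, 5, 4, 3, 2, 1, 8, 3, 2, 4, 3, 5, 6, 7, 8, 9, 8, 3, 2, 1, 0],
    [7, 6, 5, 4, 3, 2, 1, 8, 3, 2, 4, 3, 5, 6, 7, 8, 9, 8, 3, 2, 1, 4],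
    [7, 6, 5, 4, 3, 2, 1, 8, 3, 2, 4, 3, 5, 6, 7, 8, 9, 8, 3, 2, 4, 3],
    [7, 6, 5, 4, 3, 2, 1, 8, 3, 2, 4, 3, 5, 6, 7, 8, 9, 8, 3, 4, 5, 6],
    [7, 6, 5, 4, 3, 2, 1, 8, 3, 2, 4, 3, 5, 6, 7, 9, 8, 3, 2, 4, 3, 8],
    [7, 6, 5, 4, 3, 2, 1, 8, 3, 2, 4, 3, 5, 6, 7, 9, 8, 3, 4, 5, 6, 7],
    [7, 6, 5, 4, 3, 2, 1, 8, 3, 2, 4, 3, 5, 6, 8, 9, 8, 3, 2, 1, 0, 4],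
    [7, 6, 5, 4, 3, 2, 1, 8, 3, 2, 4, 3, 5, 6, 8, 9, 8, 3, 2, 1, 4, 5],
    [7, 6, 5, 4, 3, 2, 1, 8, 3, 2, 4, 3, 5, 6, 9, 8, 3, 2, 1, 4, 3, 5],
    [7, 6, 5, 4, 3, 2, 1, 8, 3, 2, 4, 3, 5, 8, 9, 8, 3, 2, 1, 0, 4, 5],
    [7, 6, 5, 4, 3, 2, 1, 8, 3, 2, 4, 3, 5, 9, 8, 3, 2, 1, 4, 5, 6, 7],
    [7, 6, 5, 4, 3, 2, 1, 8, 3, 2, 4, 3, 5, 9, 8, 3, 2, 4, 3, 5, 4, 6],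
    [7, 6, 5, 4, 3, 2, 1, 8, 3, 2, 4, 3, 5, 9, 8, 3, 2, 4, 3, 5, 4, 8],
    [7, 6, 5, 4, 3, 2, 1, 8, 3, 2, 4, 3, 5, 9, 8, 3, 2, 4, 3, 5, 6, 7],
    [7, 6, 5, 4, 3, 2, 1, 8, 3, 2, 4, 3, 8, 9, 8, 3, 2, 1, 0, 4, 3, 2],
    [7, 6, 5, 4, 3, 2, 1, 8, 3, 2, 4, 3, 8, 9, 8, 3, 2, 1, 0, 4, 3, 5],
    [7, 6, 5, 4, 3, 2, 1, 8, 3, 2, 4, 3, 8, 9, 8, 3, 2, 1, 0, 4, 5, 6],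
    [7, 6, 5, 4, 3, 2, 1, 8, 3, 2, 4, 3, 8, 9, 8, 3, 2, 1, 4, 3, 2, 5],
    [7, 6, 5, 4, 3, 2, 1, 8, 3, 2, 4, 3, 8, 9, 8, 3, 2, 1, 4, 3, 5, 6],
    [7, 6, 5, 4, 3, 2, 1, 8, 3, 2, 4, 3, 8, 9, 8, 3, 2, 1, 4, 3, 5, 8],
    [7, 6, 5, 4, 3, 2, 1, 8, 3, 2, 4, 3, 8, 9, 8, 3, 2, 1, 4, 5, 6, 7],
    [7, 6, 5, 4, 3, 2, 1, 8, 3, 2, 4, 3, 8, 9, 8, 3, 2, 4, 3, 5, 4, 6],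
    [7, 6, 5, 4, 3, 2, 1, 8, 3, 2, 4, 3, 8, 9, 8, 3, 2, 4, 3, 5, 6, 7],
    [7, 6, 5, 4, 3, 2, 1, 8, 3, 2, 4, 3, 9, 8, 3, 2, 1, 0, 4, 3, 2, 1],
    [7, 6, 5, 4, 3, 2, 1, 8, 3, 2, 4, 3, 9, 8, 3, 2, 1, 0, 4, 3, 2, 5],
    [7, 6, 5, 4, 3, 2, 1, 8, 3, 2, 4, 3, 9, 8, 3, 2, 1, 0, 4, 3, 5, 4],
    [7, 6, 5, 4, 3, 2, 1, 8, 3, 2, 4, 3, 9, 8, 3, 2, 1, 0, 4, 3, 5, 6],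
    [7, 6, 5, 4, 3, 2, 1, 8, 3, 2, 4, 3, 9, 8, 3, 2, 1, 0, 4, 5, 6, 7],
    [7, 6, 5, 4, 3, 2, 1, 8, 3, 2, 4, 3, 9, 8, 3, 2, 1, 4, 3, 2, 5, 4],
    [7, 6, 5, 4, 3, 2, 1, 8, 3, 2, 4, 3, 9, 8, 3, 2, 1, 4, 3, 5, 4, 6],
    [7, 6, 5, 4, 3, 2, 1, 8, 3, 2, 4, 3, 9, 8, 3, 2, 1, 4, 3, 5, 6, 7],
    [7, 6, 5, 4, 3, 2, 1, 8, 3, 2, 4, 3, 9, 8, 3, 2, 4, 3, 5, 4, 6, 5],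
    [7, 6, 5, 4, 3, 2, 1, 8, 3, 2, 4, 3, 9, 8, 3, 2, 4, 3, 5, 4, 6, 7],
    [7, 6, 5, 4, 3, 2, 1, 8, 3, 2, 4, 5, 6, 7, 9, 8, 3, 2, 4, 3, 5, 6],
    [7, 6, 5, 4, 3, 2, 1, 8, 3, 2, 4, 5, 6, 9, 8, 3, 2, 1, 0, 4, 3, 5],
    [7, 6, 5, 4, 3, 2, 1, 8, 3, 2, 4, 5, 6, 9, 8, 3, 2, 1, 0, 4, 5, 6],
    [7, 6, 5, 4, 3, 2, 1, 8, 3, 2, 4, 5, 6, 9, 8, 3, 2, 4, 3, 5, 4, 6],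
    [7, 6, 5, 4, 3, 2, 1, 8, 3, 2, 4, 5, 6, 9, 8, 3, 2, 4, 3, 5, 4, 8],
    [7, 6, 5, 4, 3, 2, 1, 8, 3, 2, 4, 5, 9, 8, 3, 2, 1, 4, 3, 5, 6, 7],
    [7, 6, 5, 4, 3, 2, 1, 8, 3, 4, 5, 6, 7, 9, 8, 3, 2, 1, 4, 3, 5, 4],
    [7, 6, 5, 4, 3, 2, 1, 8, 3, 4, 5, 6, 7, 9, 8, 3, 2, 4, 3, 5, 4, 6],
    [7, 6, 5, 4, 3, 2, 1, 8, 3, 4, 5, 6, 7, 9, 8, 3, 2, 4, 3, 5, 6, 8],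
    [7, 6, 5, 4, 3, 2, 1, 8, 3, 4, 5, 6, 9, 8, 3, 2, 1, 0, 4, 3, 5, 4],
    [7, 6, 5, 4, 3, 2, 8, 3, 4, 5, 6, 7, 9, 8, 3, 2, 4, 3, 5, 4, 8, 3],
    [7, 6, 5, 4, 3, 2, 1, 0, 8, 3, 2, 1, 4, 3, 2, 5, 4, 3, 6, 5, 7, 9, 8],
    [7, 6, 5, 4, 3, 2, 1, 0, 8, 3, 2, 1, 4, 3, 2, 5, 4, 3, 9, 8, 3, 2, 4],
    [7, 6, 5, 4, 3, 2, 1, 0, 8, 3, 2, 1, 4, 3, 2, 5, 4, 3, 9, 8, 3, 4, 5],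
    [7, 6, 5, 4, 3, 2, 1, 0, 8, 3, 2, 1, 4, 3, 2, 5, 4, 6, 5, 9, 8, 3, 2],
    [7, 6, 5, 4, 3, 2, 1, 0, 8, 3, 2, 1, 4, 3, 2, 5, 4, 6, 8, 9, 8, 3, 2]]

/-- A part of the representatives. -/
def repsV_8 : List (List ℕ) :=
  [[7, 6, 5, 4, 3, 2, 1, 0, 8, 3, 2, 1, 4, 3, 2, 5, 4, 6, 9, 8, 3, 2, 4],
    [7, 6, 5, 4, 3, 2, 1, 0, 8, 3, 2, 1, 4, 3, 2, 5, 4, 8, 9, 8, 3, 2, 1],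
    [7, 6, 5, 4, 3, 2, 1, 0, 8, 3, 2, 1, 4, 3, 2, 5, 4, 8, 9, 8, 3, 2, 4],
    [7, 6, 5, 4, 3, 2, 1, 0, 8, 3, 2, 1, 4, 3, 2, 5, 4, 8, 9, 8, 3, 4, 5],
    [7, 6, 5, 4, 3, 2, 1, 0, 8, 3, 2, 1, 4, 3, 2, 5, 4, 9, 8, 3, 2, 4, 3],
    [7, 6, 5, 4, 3, 2, 1, 0, 8, 3, 2, 1, 4, 3, 2, 5, 4, 9, 8, 3, 2, 4, 5],
    [7, 6, 5, 4, 3, 2, 1, 0, 8, 3, 2, 1, 4, 3, 2, 5, 4, 9, 8, 3, 4, 5, 6],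
    [7, 6, 5, 4, 3, 2, 1, 0, 8, 3, 2, 1, 4, 3, 2, 5, 6, 7, 8, 9, 8, 3, 2],
    [7, 6, 5, 4, 3, 2, 1, 0, 8, 3, 2, 1, 4, 3, 2, 5, 6, 8, 3, 9, 8, 3, 2],
    [7, 6, 5, 4, 3, 2, 1, 0, 8, 3, 2, 1, 4, 3, 2, 5, 6, 8, 9, 8, 3, 2, 1],
    [7, 6, 5, 4, 3, 2, 1, 0, 8, 3, 2, 1, 4, 3, 2, 5, 6, 8, 9, 8, 3, 4, 5],
    [7, 6, 5, 4, 3, 2, 1, 0, 8, 3, 2, 1, 4, 3, 2, 5, 6, 9, 8, 3, 2, 1, 0],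
    [7, 6, 5, 4, 3, 2, 1, 0, 8, 3, 2, 1, 4, 3, 2, 5, 6, 9, 8, 3, 2, 1, 4],
    [7, 6, 5, 4, 3, 2, 1, 0, 8, 3, 2, 1, 4, 3, 2, 5, 6, 9, 8, 3, 2, 4, 3],
    [7, 6, 5, 4, 3, 2, 1, 0, 8, 3, 2, 1, 4, 3, 2, 5, 6, 9, 8, 3, 2, 4, 5],
    [7, 6, 5, 4, 3, 2, 1, 0, 8, 3, 2, 1, 4, 3, 2, 5, 6, 9, 8, 3, 4, 5, 6],
    [7, 6, 5, 4, 3, 2, 1, 0, 8, 3, 2, 1, 4, 3, 2, 5, 8, 3, 9, 8, 3, 2, 4],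
    [7, 6, 5, 4, 3, 2, 1, 0, 8, 3, 2, 1, 4, 3, 2, 5, 8, 9, 8, 3, 2, 1, 0],
    [7, 6, 5, 4, 3, 2, 1, 0, 8, 3, 2, 1, 4, 3, 2, 5, 8, 9, 8, 3, 2, 1, 4],
    [7, 6, 5, 4, 3, 2, 1, 0, 8, 3, 2, 1, 4, 3, 2, 5, 8, 9, 8, 3, 2, 4, 3],
    [7, 6, 5, 4, 3, 2, 1, 0, 8, 3, 2, 1, 4, 3, 2, 5, 8, 9, 8, 3, 4, 5, 6],
    [7, 6, 5, 4, 3, 2, 1, 0, 8, 3, 2, 1, 4, 3, 2, 5, 9, 8, 3, 2, 1, 0, 4],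
    [7, 6, 5, 4, 3, 2, 1, 0, 8, 3, 2, 1, 4, 3, 2, 5, 9, 8, 3, 4, 5, 6, 7],
    [7, 6, 5, 4, 3, 2, 1, 0, 8, 3, 2, 1, 4, 3, 2, 8, 3, 4, 9, 8, 3, 2, 1],
    [7, 6, 5, 4, 3, 2, 1, 0, 8, 3, 2, 1, 4, 3, 2, 8, 3, 9, 8, 3, 2, 1, 0],
    [7, 6, 5, 4, 3, 2, 1, 0, 8, 3, 2, 1, 4, 3, 2, 8, 3, 9, 8, 3, 2, 1, 4],
    [7, 6, 5, 4, 3, 2, 1, 0, 8, 3, 2, 1, 4, 3, 2, 8, 3, 9, 8, 3, 4, 5, 6],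
    [7, 6, 5, 4, 3, 2, 1, 0, 8, 3, 2, 1, 4, 3, 2, 8, 9, 8, 3, 2, 1, 0, 4],
    [7, 6, 5, 4, 3, 2, 1, 0, 8, 3, 2, 1, 4, 3, 2, 8, 9, 8, 3, 2, 4, 3, 5],
    [7, 6, 5, 4, 3, 2, 1, 0, 8, 3, 2, 1, 4, 3, 2, 8, 9, 8, 3, 2, 4, 3, 8],
    [7, 6, 5, 4, 3, 2, 1, 0, 8, 3, 2, 1, 4, 3, 2, 8, 9, 8, 3, 4, 5, 6, 7],
    [7, 6, 5, 4, 3, 2, 1, 0, 8, 3, 2, 1, 4, 3, 2, 9, 8, 3, 2, 1, 0, 4, 3],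
    [7, 6, 5, 4, 3, 2, 1, 0, 8, 3, 2, 1, 4, 3, 2, 9, 8, 3, 2, 1, 4, 3, 2],
    [7, 6, 5, 4, 3, 2, 1, 0, 8, 3, 2, 1, 4, 3, 2, 9, 8, 3, 2, 1, 4, 3, 5],
    [7, 6, 5, 4, 3, 2, 1, 0, 8, 3, 2, 1, 4, 3, 2, 9, 8, 3, 2, 4, 3, 5, 4],
    [7, 6, 5, 4, 3, 2, 1, 0, 8, 3, 2, 1, 4, 3, 2, 9, 8, 3, 2, 4, 3, 5, 6],
    [7, 6, 5, 4, 3, 2, 1, 0, 8, 3, 2, 1, 4, 3, 2, 9, 8, 3, 2, 4, 3, 5, 8],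
    [7, 6, 5, 4, 3, 2, 1, 0, 8, 3, 2, 1, 4, 3, 2, 9, 8, 3, 2, 4, 3, 8, 9],
    [7, 6, 5, 4, 3, 2, 1, 0, 8, 3, 2, 1, 4, 3, 5, 4, 6, 5, 9, 8, 3, 2, 1],
    [7, 6, 5, 4, 3, 2, 1, 0, 8, 3, 2, 1, 4, 3, 5, 4, 6, 5, 9, 8, 3, 4, 5],
    [7, 6, 5, 4, 3, 2, 1, 0, 8, 3, 2, 1, 4, 3, 5, 4, 6, 7, 9, 8, 3, 2, 1],
    [7, 6, 5, 4, 3, 2, 1, 0, 8, 3, 2, 1, 4, 3, 5, 4, 6, 9, 8, 3, 2, 4, 3],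
    [7, 6, 5, 4, 3, 2, 1, 0, 8, 3, 2, 1, 4, 3, 5, 4, 6, 9, 8, 3, 4, 5, 6],
    [7, 6, 5, 4, 3, 2, 1, 0, 8, 3, 2, 1, 4, 3, 5, 4, 8, 9, 8, 3, 2, 4, 3],
    [7, 6, 5, 4, 3, 2, 1, 0, 8, 3, 2, 1, 4, 3, 5, 4, 9, 8, 3, 2, 1, 0, 4],
    [7, 6, 5, 4, 3, 2, 1, 0, 8, 3, 2, 1, 4, 3, 5, 4, 9, 8, 3, 2, 4, 3, 5],
    [7, 6, 5, 4, 3, 2, 1, 0, 8, 3, 2, 1, 4, 3, 5, 4, 9, 8, 3, 2, 4, 3, 8],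
    [7, 6, 5, 4, 3, 2, 1, 0, 8, 3, 2, 1, 4, 3, 5, 6, 7, 9, 8, 3, 2, 1, 4],
    [7, 6, 5, 4, 3, 2, 1, 0, 8, 3, 2, 1, 4, 3, 5, 6, 8, 9, 8, 3, 2, 4, 3],
    [7, 6, 5, 4, 3, 2, 1, 0, 8, 3, 2, 1, 4, 3, 5, 6, 9, 8, 3, 2, 4, 3, 5],
    [7, 6, 5, 4, 3, 2, 1, 0, 8, 3, 2, 1, 4, 3, 5, 8, 9, 8, 3, 2, 1, 0, 4],
    [7, 6, 5, 4, 3, 2, 1, 0, 8, 3, 2, 1, 4, 3, 5, 8, 9, 8, 3, 2, 1, 4, 5],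
    [7, 6, 5, 4, 3, 2, 1, 0, 8, 3, 2, 1, 4, 3, 5, 8, 9, 8, 3, 2, 4, 3, 8],
    [7, 6, 5, 4, 3, 2, 1, 0, 8, 3, 2, 1, 4, 3, 5, 9, 8, 3, 2, 1, 4, 3, 2],
    [7, 6, 5, 4, 3, 2, 1, 0, 8, 3, 2, 1, 4, 3, 5, 9, 8, 3, 2, 4, 3, 5, 4],
    [7, 6, 5, 4, 3, 2, 1, 0, 8, 3, 2, 1, 4, 3, 5, 9, 8, 3, 2, 4, 3, 5, 6],
    [7, 6, 5, 4, 3, 2, 1, 0, 8, 3, 2, 1, 4, 3, 5, 9, 8, 3, 2, 4, 3, 5, 8],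
    [7, 6, 5, 4, 3, 2, 1, 0, 8, 3, 2, 1, 4, 3, 5, 9, 8, 3, 2, 4, 3, 8, 9],
    [7, 6, 5, 4, 3, 2, 1, 0, 8, 3, 2, 1, 4, 3, 5, 9, 8, 3, 2, 4, 5, 6, 7],
    [7, 6, 5, 4, 3, 2, 1, 0, 8, 3, 2, 1, 4, 3, 8, 9, 8, 3, 2, 1, 0, 4, 3],
    [7, 6, 5, 4, 3, 2, 1, 0, 8, 3, 2, 1, 4, 3, 8, 9, 8, 3, 2, 1, 4, 3, 2],
    [7, 6, 5, 4, 3, 2, 1, 0, 8, 3, 2, 1, 4, 3, 8, 9, 8, 3, 2, 1, 4, 3, 5],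
    [7, 6, 5, 4, 3, 2, 1, 0, 8, 3, 2, 1, 4, 3, 8, 9, 8, 3, 2, 1, 4, 3, 8],
    [7, 6, 5, 4, 3, 2, 1, 0, 8, 3, 2, 1, 4, 3, 8, 9, 8, 3, 2, 4, 3, 5, 4],
    [7, 6, 5, 4, 3, 2, 1, 0, 8, 3, 2, 1, 4, 3, 8, 9, 8, 3, 2, 4, 3, 5, 6],
    [7, 6, 5, 4, 3, 2, 1, 0, 8, 3, 2, 1, 4, 3, 8, 9, 8, 3, 2, 4, 3, 5, 8],
    [7, 6, 5, 4, 3, 2, 1, 0, 8, 3, 2, 1, 4, 3, 8, 9, 8, 3, 2, 4, 3, 8, 9],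
    [7, 6, 5, 4, 3, 2, 1, 0, 8, 3, 2, 1, 4, 3, 9, 8, 3, 2, 1, 0, 4, 3, 2],
    [7, 6, 5, 4, 3, 2, 1, 0, 8, 3, 2, 1, 4, 3, 9, 8, 3, 2, 1, 0, 4, 3, 5],
    [7, 6, 5, 4, 3, 2, 1, 0, 8, 3, 2, 1, 4, 3, 9, 8, 3, 2, 1, 0, 4, 3, 8],
    [7, 6, 5, 4, 3, 2, 1, 0, 8, 3, 2, 1, 4, 3, 9, 8, 3, 2, 1, 4, 3, 2, 5],
    [7, 6, 5, 4, 3, 2, 1, 0, 8, 3, 2, 1, 4, 3, 9, 8, 3, 2, 1, 4, 3, 5, 4],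
    [7, 6, 5, 4, 3, 2, 1, 0, 8, 3, 2, 1, 4, 3, 9, 8, 3, 2, 1, 4, 3, 5, 8],
    [7, 6, 5, 4, 3, 2, 1, 0, 8, 3, 2, 1, 4, 3, 9, 8, 3, 2, 4, 3, 5, 4, 6],
    [7, 6, 5, 4, 3, 2, 1, 0, 8, 3, 2, 1, 4, 3, 9, 8, 3, 2, 4, 3, 5, 4, 8],
    [7, 6, 5, 4, 3, 2, 1, 0, 8, 3, 2, 1, 4, 3, 9, 8, 3, 2, 4, 3, 5, 6, 8],
    [7, 6, 5, 4, 3, 2, 1, 0, 8, 3, 2, 1, 4, 3, 9, 8, 3, 2, 4, 3, 5, 8, 9],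
    [7, 6, 5, 4, 3, 2, 1, 0, 8, 3, 2, 1, 4, 5, 6, 7, 9, 8, 3, 2, 4, 3, 8],
    [7, 6, 5, 4, 3, 2, 1, 0, 8, 3, 2, 1, 4, 5, 6, 7, 9, 8, 3, 4, 5, 6, 7],
    [7, 6, 5, 4, 3, 2, 1, 0, 8, 3, 2, 1, 4, 5, 6, 9, 8, 3, 2, 1, 0, 4, 3],
    [7, 6, 5, 4, 3, 2, 1, 0, 8, 3, 2, 1, 4, 5, 6, 9, 8, 3, 2, 1, 0, 4, 5],
    [7, 6, 5, 4, 3, 2, 1, 0, 8, 3, 2, 1, 4, 5, 6, 9, 8, 3, 2, 1, 4, 3, 5],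
    [7, 6, 5, 4, 3, 2, 1, 0, 8, 3, 2, 1, 4, 5, 6, 9, 8, 3, 2, 4, 3, 5, 4],
    [7, 6, 5, 4, 3, 2, 1, 0, 8, 3, 2, 1, 4, 5, 6, 9, 8, 3, 2, 4, 3, 5, 6],
    [7, 6, 5, 4, 3, 2, 1, 0, 8, 3, 2, 1, 4, 5, 9, 8, 3, 2, 1, 0, 4, 3, 8],
    [7, 6, 5, 4, 3, 2, 1, 0, 8, 3, 2, 1, 4, 5, 9, 8, 3, 2, 1, 4, 3, 2, 5],
    [7, 6, 5, 4, 3, 2, 1, 0, 8, 3, 2, 1, 4, 5, 9, 8, 3, 2, 1, 4, 3, 2, 8],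
    [7, 6, 5, 4, 3, 2, 1, 0, 8, 3, 2, 1, 4, 5, 9, 8, 3, 2, 1, 4, 3, 5, 6],
    [7, 6, 5, 4, 3, 2, 1, 0, 8, 3, 2, 1, 4, 5, 9, 8, 3, 2, 4, 3, 5, 6, 7],
    [7, 6, 5, 4, 3, 2, 1, 0, 8, 3, 2, 1, 4, 9, 8, 3, 2, 1, 0, 4, 3, 5, 4],
    [7, 6, 5, 4, 3, 2, 1, 0, 8, 3, 2, 1, 4, 9, 8, 3, 2, 1, 0, 4, 3, 5, 6],
    [7, 6, 5, 4, 3, 2, 1, 0, 8, 3, 2, 1, 4, 9, 8, 3, 2, 1, 0, 4, 3, 5, 8],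
    [7, 6, 5, 4, 3, 2, 1, 0, 8, 3, 2, 1, 4, 9, 8, 3, 2, 1, 0, 4, 3, 8, 9],
    [7, 6, 5, 4, 3, 2, 1, 0, 8, 3, 2, 1, 4, 9, 8, 3, 2, 1, 0, 4, 5, 6, 7],
    [7, 6, 5, 4, 3, 2, 1, 0, 8, 3, 2, 1, 4, 9, 8, 3, 2, 1, 4, 3, 5, 4, 6],
    [7, 6, 5, 4, 3, 2, 1, 0, 8, 3, 2, 1, 4, 9, 8, 3, 2, 1, 4, 3, 5, 4, 8],
    [7, 6, 5, 4, 3, 2, 1, 0, 8, 3, 2, 1, 4, 9, 8, 3, 2, 1, 4, 3, 5, 6, 7],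
    [7, 6, 5, 4, 3, 2, 1, 0, 8, 3, 2, 1, 4, 9, 8, 3, 2, 4, 3, 5, 4, 6, 7],
    [7, 6, 5, 4, 3, 2, 1, 0, 8, 3, 2, 1, 4, 9, 8, 3, 2, 4, 3, 5, 4, 8, 9],
    [7, 6, 5, 4, 3, 2, 1, 0, 8, 3, 2, 1, 4, 9, 8, 3, 2, 4, 3, 5, 6, 7, 8],
    [7, 6, 5, 4, 3, 2, 1, 0, 8, 3, 2, 1, 9, 8, 3, 2, 4, 3, 5, 4, 6, 8, 9],
    [7, 6, 5, 4, 3, 2, 1, 0, 8, 3, 2, 4, 3, 5, 4, 6, 5, 7, 8, 9, 8, 3, 2],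
    [7, 6, 5, 4, 3, 2, 1, 0, 8, 3, 2, 4, 3, 5, 4, 6, 5, 7, 9, 8, 3, 2, 4],
    [7, 6, 5, 4, 3, 2, 1, 0, 8, 3, 2, 4, 3, 5, 4, 6, 5, 7, 9, 8, 3, 4, 5],
    [7, 6, 5, 4, 3, 2, 1, 0, 8, 3, 2, 4, 3, 5, 4, 6, 5, 9, 8, 3, 2, 4, 3],
    [7, 6, 5, 4, 3, 2, 1, 0, 8, 3, 2, 4, 3, 5, 4, 6, 5, 9, 8, 3, 2, 4, 5],
    [7, 6, 5, 4, 3, 2, 1, 0, 8, 3, 2, 4, 3, 5, 4, 6, 7, 8, 3, 9, 8, 3, 4],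
    [7, 6, 5, 4, 3, 2, 1, 0, 8, 3, 2, 4, 3, 5, 4, 6, 7, 9, 8, 3, 4, 5, 6],
    [7, 6, 5, 4, 3, 2, 1, 0, 8, 3, 2, 4, 3, 5, 4, 6, 8, 3, 9, 8, 3, 4, 5],
    [7, 6, 5, 4, 3, 2, 1, 0, 8, 3, 2, 4, 3, 5, 4, 6, 8, 9, 8, 3, 2, 1, 4],
    [7, 6, 5, 4, 3, 2, 1, 0, 8, 3, 2, 4, 3, 5, 4, 6, 8, 9, 8, 3, 2, 4, 3],
    [7, 6, 5, 4, 3, 2, 1, 0, 8, 3, 2, 4, 3, 5, 4, 6, 9, 8, 3, 2, 1, 0, 4],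
    [7, 6, 5, 4, 3, 2, 1, 0, 8, 3, 2, 4, 3, 5, 4, 8, 3, 9, 8, 3, 4, 5, 6],
    [7, 6, 5, 4, 3, 2, 1, 0, 8, 3, 2, 4, 3, 5, 4, 8, 9, 8, 3, 4, 5, 6, 7],
    [7, 6, 5, 4, 3, 2, 1, 0, 8, 3, 2, 4, 3, 5, 4, 9, 8, 3, 2, 1, 4, 3, 2],
    [7, 6, 5, 4, 3, 2, 1, 0, 8, 3, 2, 4, 3, 5, 4, 9, 8, 3, 2, 4, 3, 5, 8],
    [7, 6, 5, 4, 3, 2, 1, 0, 8, 3, 2, 4, 3, 5, 6, 7, 9, 8, 3, 2, 1, 4, 5],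
    [7, 6, 5, 4, 3, 2, 1, 0, 8, 3, 2, 4, 3, 5, 6, 8, 9, 8, 3, 2, 4, 3, 5],
    [7, 6, 5, 4, 3, 2, 1, 0, 8, 3, 2, 4, 3, 5, 6, 8, 9, 8, 3, 2, 4, 3, 8],
    [7, 6, 5, 4, 3, 2, 1, 0, 8, 3, 2, 4, 3, 5, 6, 9, 8, 3, 2, 1, 0, 4, 5],
    [7, 6, 5, 4, 3, 2, 1, 0, 8, 3, 2, 4, 3, 5, 6, 9, 8, 3, 2, 1, 4, 3, 5],
    [7, 6, 5, 4, 3, 2, 1, 0, 8, 3, 2, 4, 3, 5, 6, 9, 8, 3, 2, 1, 4, 5, 6],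
    [7, 6, 5, 4, 3, 2, 1, 0, 8, 3, 2, 4, 3, 5, 6, 9, 8, 3, 2, 4, 3, 5, 4],
    [7, 6, 5, 4, 3, 2, 1, 0, 8, 3, 2, 4, 3, 5, 6, 9, 8, 3, 2, 4, 3, 5, 6],
    [7, 6, 5, 4, 3, 2, 1, 0, 8, 3, 2, 4, 3, 5, 6, 9, 8, 3, 2, 4, 3, 5, 8],
    [7, 6, 5, 4, 3, 2, 1, 0, 8, 3, 2, 4, 3, 5, 6, 9, 8, 3, 2, 4, 5, 6, 7],
    [7, 6, 5, 4, 3, 2, 1, 0, 8, 3, 2, 4, 3, 5, 8, 9, 8, 3, 2, 4, 3, 5, 8],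
    [7, 6, 5, 4, 3, 2, 1, 0, 8, 3, 2, 4, 3, 5, 8, 9, 8, 3, 2, 4, 3, 8, 9]]

/-- A part of the representatives. -/
def repsV_9 : List (List ℕ) :=
  [[7, 6, 5, 4, 3, 2, 1, 0, 8, 3, 2, 4, 3, 5, 9, 8, 3, 2, 1, 4, 5, 6, 7],
    [7, 6, 5, 4, 3, 2, 1, 0, 8, 3, 2, 4, 3, 5, 9, 8, 3, 2, 4, 3, 5, 4, 6],
    [7, 6, 5, 4, 3, 2, 1, 0, 8, 3, 2, 4, 3, 5, 9, 8, 3, 2, 4, 3, 5, 6, 7],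
    [7, 6, 5, 4, 3, 2, 1, 0, 8, 3, 2, 4, 3, 5, 9, 8, 3, 2, 4, 3, 5, 6, 8],
    [7, 6, 5, 4, 3, 2, 1, 0, 8, 3, 2, 4, 3, 8, 9, 8, 3, 2, 1, 4, 3, 2, 5],
    [7, 6, 5, 4, 3, 2, 1, 0, 8, 3, 2, 4, 3, 8, 9, 8, 3, 2, 1, 4, 3, 5, 4],
    [7, 6, 5, 4, 3, 2, 1, 0, 8, 3, 2, 4, 3, 8, 9, 8, 3, 2, 1, 4, 3, 5, 8],
    [7, 6, 5, 4, 3, 2, 1, 0, 8, 3, 2, 4, 3, 8, 9, 8, 3, 2, 1, 4, 5, 6, 7],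
    [7, 6, 5, 4, 3, 2, 1, 0, 8, 3, 2, 4, 3, 8, 9, 8, 3, 2, 4, 3, 5, 4, 6],
    [7, 6, 5, 4, 3, 2, 1, 0, 8, 3, 2, 4, 3, 8, 9, 8, 3, 2, 4, 3, 5, 4, 8],
    [7, 6, 5, 4, 3, 2, 1, 0, 8, 3, 2, 4, 3, 8, 9, 8, 3, 2, 4, 3, 5, 6, 7],
    [7, 6, 5, 4, 3, 2, 1, 0, 8, 3, 2, 4, 3, 8, 9, 8, 3, 2, 4, 3, 5, 6, 8],
    [7, 6, 5, 4, 3, 2, 1, 0, 8, 3, 2, 4, 3, 9, 8, 3, 2, 4, 3, 5, 4, 6, 5],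
    [7, 6, 5, 4, 3, 2, 1, 0, 8, 3, 2, 4, 5, 6, 7, 9, 8, 3, 2, 1, 0, 4, 3],
    [7, 6, 5, 4, 3, 2, 1, 0, 8, 3, 2, 4, 5, 6, 7, 9, 8, 3, 2, 1, 0, 4, 5],
    [7, 6, 5, 4, 3, 2, 1, 0, 8, 3, 2, 4, 5, 6, 7, 9, 8, 3, 2, 1, 4, 3, 8],
    [7, 6, 5, 4, 3, 2, 1, 0, 8, 3, 2, 4, 5, 6, 7, 9, 8, 3, 2, 4, 3, 5, 4],
    [7, 6, 5, 4, 3, 2, 1, 0, 8, 3, 2, 4, 5, 6, 7, 9, 8, 3, 2, 4, 3, 8, 9],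
    [7, 6, 5, 4, 3, 2, 1, 0, 8, 3, 2, 4, 5, 6, 9, 8, 3, 2, 4, 3, 5, 4, 6],
    [7, 6, 5, 4, 3, 2, 1, 0, 8, 3, 2, 4, 5, 6, 9, 8, 3, 2, 4, 3, 5, 6, 7],
    [7, 6, 5, 4, 3, 2, 1, 0, 8, 3, 2, 4, 5, 9, 8, 3, 2, 1, 0, 4, 3, 2, 5],
    [7, 6, 5, 4, 3, 2, 1, 0, 8, 3, 2, 4, 5, 9, 8, 3, 2, 1, 4, 3, 2, 8, 3],
    [7, 6, 5, 4, 3, 2, 1, 0, 8, 3, 2, 4, 5, 9, 8, 3, 2, 4, 3, 5, 6, 7, 8],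
    [7, 6, 5, 4, 3, 2, 1, 0, 8, 3, 2, 4, 5, 9, 8, 3, 2, 4, 3, 5, 6, 8, 9],
    [7, 6, 5, 4, 3, 2, 1, 0, 8, 3, 4, 5, 6, 7, 9, 8, 3, 2, 1, 0, 4, 3, 2],
    [7, 6, 5, 4, 3, 2, 1, 0, 8, 3, 4, 5, 6, 7, 9, 8, 3, 2, 1, 4, 3, 5, 4],
    [7, 6, 5, 4, 3, 2, 1, 0, 8, 3, 4, 5, 6, 7, 9, 8, 3, 2, 1, 4, 3, 5, 6],
    [7, 6, 5, 4, 3, 2, 1, 0, 8, 3, 4, 5, 6, 7, 9, 8, 3, 2, 4, 3, 5, 4, 6],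
    [7, 6, 5, 4, 3, 2, 1, 0, 8, 3, 4, 5, 6, 7, 9, 8, 3, 2, 4, 3, 5, 8, 9],
    [7, 6, 5, 4, 3, 2, 1, 0, 8, 3, 4, 5, 6, 9, 8, 3, 2, 1, 0, 4, 3, 2, 5],
    [7, 6, 5, 4, 3, 2, 1, 0, 8, 3, 4, 5, 6, 9, 8, 3, 2, 1, 4, 3, 2, 8, 3],
    [7, 6, 5, 4, 3, 2, 1, 0, 8, 3, 4, 5, 6, 9, 8, 3, 2, 4, 3, 5, 4, 8, 3],
    [7, 6, 5, 4, 3, 2, 1, 0, 8, 3, 4, 5, 6, 9, 8, 3, 2, 4, 3, 5, 4, 8, 9],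
    [7, 6, 5, 4, 3, 2, 1, 0, 8, 3, 4, 5, 9, 8, 3, 2, 1, 4, 3, 2, 8, 3, 4],
    [7, 6, 5, 4, 3, 2, 1, 8, 3, 2, 4, 3, 5, 4, 6, 5, 7, 6, 8, 3, 2, 1, 4],
    [7, 6, 5, 4, 3, 2, 1, 8, 3, 2, 4, 3, 5, 4, 6, 5, 7, 9, 8, 3, 2, 4, 5],
    [7, 6, 5, 4, 3, 2, 1, 8, 3, 2, 4, 3, 5, 4, 6, 5, 8, 3, 9, 8, 3, 4, 5],
    [7, 6, 5, 4, 3, 2, 1, 8, 3, 2, 4, 3, 5, 4, 6, 8, 9, 8, 3, 2, 4, 3, 5],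
    [7, 6, 5, 4, 3, 2, 1, 8, 3, 2, 4, 3, 5, 4, 6, 9, 8, 3, 2, 1, 4, 3, 8],
    [7, 6, 5, 4, 3, 2, 1, 8, 3, 2, 4, 3, 5, 4, 8, 9, 8, 3, 2, 4, 5, 6, 7],
    [7, 6, 5, 4, 3, 2, 1, 8, 3, 2, 4, 3, 5, 4, 9, 8, 3, 2, 1, 4, 3, 5, 8],
    [7, 6, 5, 4, 3, 2, 1, 8, 3, 2, 4, 3, 5, 4, 9, 8, 3, 2, 4, 3, 5, 6, 7],
    [7, 6, 5, 4, 3, 2, 1, 8, 3, 2, 4, 3, 5, 6, 7, 8, 9, 8, 3, 2, 4, 3, 8],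
    [7, 6, 5, 4, 3, 2, 1, 8, 3, 2, 4, 3, 5, 6, 7, 9, 8, 3, 2, 1, 0, 4, 3],
    [7, 6, 5, 4, 3, 2, 1, 8, 3, 2, 4, 3, 5, 6, 7, 9, 8, 3, 2, 1, 4, 3, 5],
    [7, 6, 5, 4, 3, 2, 1, 8, 3, 2, 4, 3, 5, 6, 8, 9, 8, 3, 2, 1, 0, 4, 3],
    [7, 6, 5, 4, 3, 2, 1, 8, 3, 2, 4, 3, 5, 8, 9, 8, 3, 2, 1, 0, 4, 3, 5],
    [7, 6, 5, 4, 3, 2, 1, 8, 3, 2, 4, 3, 5, 8, 9, 8, 3, 2, 1, 0, 4, 5, 6],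
    [7, 6, 5, 4, 3, 2, 1, 8, 3, 2, 4, 3, 5, 8, 9, 8, 3, 2, 4, 3, 5, 6, 7],
    [7, 6, 5, 4, 3, 2, 1, 8, 3, 2, 4, 3, 5, 9, 8, 3, 2, 1, 0, 4, 5, 6, 7],
    [7, 6, 5, 4, 3, 2, 1, 8, 3, 2, 4, 3, 5, 9, 8, 3, 2, 4, 3, 5, 4, 6, 7],
    [7, 6, 5, 4, 3, 2, 1, 8, 3, 2, 4, 3, 5, 9, 8, 3, 2, 4, 3, 5, 6, 7, 8],
    [7, 6, 5, 4, 3, 2, 1, 8, 3, 2, 4, 3, 8, 9, 8, 3, 2, 1, 0, 4, 3, 2, 1],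
    [7, 6, 5, 4, 3, 2, 1, 8, 3, 2, 4, 3, 8, 9, 8, 3, 2, 1, 0, 4, 3, 2, 5],
    [7, 6, 5, 4, 3, 2, 1, 8, 3, 2, 4, 3, 8, 9, 8, 3, 2, 1, 0, 4, 3, 5, 4],
    [7, 6, 5, 4, 3, 2, 1, 8, 3, 2, 4, 3, 8, 9, 8, 3, 2, 1, 0, 4, 3, 5, 8],
    [7, 6, 5, 4, 3, 2, 1, 8, 3, 2, 4, 3, 8, 9, 8, 3, 2, 1, 0, 4, 5, 6, 7],
    [7, 6, 5, 4, 3, 2, 1, 8, 3, 2, 4, 3, 8, 9, 8, 3, 2, 1, 4, 3, 5, 4, 8],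
    [7, 6, 5, 4, 3, 2, 1, 8, 3, 2, 4, 3, 8, 9, 8, 3, 2, 4, 3, 5, 6, 7, 8],
    [7, 6, 5, 4, 3, 2, 1, 8, 3, 2, 4, 3, 9, 8, 3, 2, 1, 4, 3, 5, 4, 6, 5],
    [7, 6, 5, 4, 3, 2, 1, 8, 3, 2, 4, 5, 6, 7, 9, 8, 3, 2, 1, 0, 4, 3, 5],
    [7, 6, 5, 4, 3, 2, 1, 8, 3, 2, 4, 5, 6, 9, 8, 3, 2, 1, 0, 4, 3, 5, 4],
    [7, 6, 5, 4, 3, 2, 1, 8, 3, 2, 4, 5, 6, 9, 8, 3, 2, 1, 0, 4, 5, 6, 7],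
    [7, 6, 5, 4, 3, 2, 1, 8, 3, 2, 4, 5, 6, 9, 8, 3, 2, 1, 4, 3, 5, 6, 7],
    [7, 6, 5, 4, 3, 2, 1, 8, 3, 2, 4, 5, 6, 9, 8, 3, 2, 4, 3, 5, 4, 8, 3],
    [7, 6, 5, 4, 3, 2, 1, 8, 3, 2, 4, 5, 9, 8, 3, 2, 1, 0, 4, 3, 5, 6, 7],
    [7, 6, 5, 4, 3, 2, 1, 8, 3, 4, 5, 6, 7, 9, 8, 3, 2, 1, 0, 4, 3, 5, 4],
    [7, 6, 5, 4, 3, 2, 1, 8, 3, 4, 5, 6, 7, 9, 8, 3, 2, 4, 3, 5, 4, 6, 8],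
    [7, 6, 5, 4, 3, 2, 1, 0, 8, 3, 2, 1, 4, 3, 2, 5, 4, 3, 6, 5, 4, 7, 9, 8],
    [7, 6, 5, 4, 3, 2, 1, 0, 8, 3, 2, 1, 4, 3, 2, 5, 4, 3, 9, 8, 3, 2, 1, 0],
    [7, 6, 5, 4, 3, 2, 1, 0, 8, 3, 2, 1, 4, 3, 2, 5, 4, 3, 9, 8, 3, 2, 1, 4],
    [7, 6, 5, 4, 3, 2, 1, 0, 8, 3, 2, 1, 4, 3, 2, 5, 4, 3, 9, 8, 3, 2, 4, 5],
    [7, 6, 5, 4, 3, 2, 1, 0, 8, 3, 2, 1, 4, 3, 2, 5, 4, 6, 5, 7, 9, 8, 3, 2],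
    [7, 6, 5, 4, 3, 2, 1, 0, 8, 3, 2, 1, 4, 3, 2, 5, 4, 6, 5, 8, 9, 8, 3, 2],
    [7, 6, 5, 4, 3, 2, 1, 0, 8, 3, 2, 1, 4, 3, 2, 5, 4, 6, 5, 9, 8, 3, 2, 1],
    [7, 6, 5, 4, 3, 2, 1, 0, 8, 3, 2, 1, 4, 3, 2, 5, 4, 6, 5, 9, 8, 3, 2, 4],
    [7, 6, 5, 4, 3, 2, 1, 0, 8, 3, 2, 1, 4, 3, 2, 5, 4, 6, 8, 9, 8, 3, 2, 4],
    [7, 6, 5, 4, 3, 2, 1, 0, 8, 3, 2, 1, 4, 3, 2, 5, 4, 6, 9, 8, 3, 2, 1, 4],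
    [7, 6, 5, 4, 3, 2, 1, 0, 8, 3, 2, 1, 4, 3, 2, 5, 4, 6, 9, 8, 3, 2, 4, 3],
    [7, 6, 5, 4, 3, 2, 1, 0, 8, 3, 2, 1, 4, 3, 2, 5, 4, 6, 9, 8, 3, 4, 5, 6],
    [7, 6, 5, 4, 3, 2, 1, 0, 8, 3, 2, 1, 4, 3, 2, 5, 4, 8, 9, 8, 3, 2, 1, 4],
    [7, 6, 5, 4, 3, 2, 1, 0, 8, 3, 2, 1, 4, 3, 2, 5, 4, 8, 9, 8, 3, 2, 4, 3],
    [7, 6, 5, 4, 3, 2, 1, 0, 8, 3, 2, 1, 4, 3, 2, 5, 4, 8, 9, 8, 3, 2, 4, 5],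
    [7, 6, 5, 4, 3, 2, 1, 0, 8, 3, 2, 1, 4, 3, 2, 5, 4, 9, 8, 3, 2, 4, 3, 8],
    [7, 6, 5, 4, 3, 2, 1, 0, 8, 3, 2, 1, 4, 3, 2, 5, 6, 7, 8, 9, 8, 3, 4, 5],
    [7, 6, 5, 4, 3, 2, 1, 0, 8, 3, 2, 1, 4, 3, 2, 5, 6, 8, 3, 9, 8, 3, 2, 4],
    [7, 6, 5, 4, 3, 2, 1, 0, 8, 3, 2, 1, 4, 3, 2, 5, 6, 8, 3, 9, 8, 3, 4, 5],
    [7, 6, 5, 4, 3, 2, 1, 0, 8, 3, 2, 1, 4, 3, 2, 5, 6, 8, 9, 8, 3, 2, 1, 4],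
    [7, 6, 5, 4, 3, 2, 1, 0, 8, 3, 2, 1, 4, 3, 2, 5, 6, 8, 9, 8, 3, 2, 4, 3],
    [7, 6, 5, 4, 3, 2, 1, 0, 8, 3, 2, 1, 4, 3, 2, 5, 6, 8, 9, 8, 3, 2, 4, 5],
    [7, 6, 5, 4, 3, 2, 1, 0, 8, 3, 2, 1, 4, 3, 2, 5, 6, 8, 9, 8, 3, 4, 5, 6],
    [7, 6, 5, 4, 3, 2, 1, 0, 8, 3, 2, 1, 4, 3, 2, 5, 6, 9, 8, 3, 2, 1, 0, 4],
    [7, 6, 5, 4, 3, 2, 1, 0, 8, 3, 2, 1, 4, 3, 2, 5, 6, 9, 8, 3, 2, 4, 3, 8],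
    [7, 6, 5, 4, 3, 2, 1, 0, 8, 3, 2, 1, 4, 3, 2, 5, 8, 3, 9, 8, 3, 2, 1, 4],
    [7, 6, 5, 4, 3, 2, 1, 0, 8, 3, 2, 1, 4, 3, 2, 5, 8, 3, 9, 8, 3, 2, 4, 5],
    [7, 6, 5, 4, 3, 2, 1, 0, 8, 3, 2, 1, 4, 3, 2, 5, 8, 3, 9, 8, 3, 4, 5, 6],
    [7, 6, 5, 4, 3, 2, 1, 0, 8, 3, 2, 1, 4, 3, 2, 5, 8, 9, 8, 3, 2, 1, 0, 4],
    [7, 6, 5, 4, 3, 2, 1, 0, 8, 3, 2, 1, 4, 3, 2, 5, 8, 9, 8, 3, 2, 1, 4, 5],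
    [7, 6, 5, 4, 3, 2, 1, 0, 8, 3, 2, 1, 4, 3, 2, 5, 9, 8, 3, 2, 1, 0, 4, 5],
    [7, 6, 5, 4, 3, 2, 1, 0, 8, 3, 2, 1, 4, 3, 2, 5, 9, 8, 3, 2, 1, 4, 3, 2],
    [7, 6, 5, 4, 3, 2, 1, 0, 8, 3, 2, 1, 4, 3, 2, 5, 9, 8, 3, 2, 1, 4, 3, 5],
    [7, 6, 5, 4, 3, 2, 1, 0, 8, 3, 2, 1, 4, 3, 2, 5, 9, 8, 3, 2, 4, 3, 5, 6],
    [7, 6, 5, 4, 3, 2, 1, 0, 8, 3, 2, 1, 4, 3, 2, 5, 9, 8, 3, 2, 4, 3, 8, 9],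
    [7, 6, 5, 4, 3, 2, 1, 0, 8, 3, 2, 1, 4, 3, 2, 5, 9, 8, 3, 2, 4, 5, 6, 7],
    [7, 6, 5, 4, 3, 2, 1, 0, 8, 3, 2, 1, 4, 3, 2, 8, 3, 4, 9, 8, 3, 2, 1, 4],
    [7, 6, 5, 4, 3, 2, 1, 0, 8, 3, 2, 1, 4, 3, 2, 8, 3, 9, 8, 3, 2, 1, 0, 4],
    [7, 6, 5, 4, 3, 2, 1, 0, 8, 3, 2, 1, 4, 3, 2, 8, 3, 9, 8, 3, 4, 5, 6, 7],
    [7, 6, 5, 4, 3, 2, 1, 0, 8, 3, 2, 1, 4, 3, 2, 8, 9, 8, 3, 2, 1, 4, 3, 2],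
    [7, 6, 5, 4, 3, 2, 1, 0, 8, 3, 2, 1, 4, 3, 2, 8, 9, 8, 3, 2, 1, 4, 3, 5],
    [7, 6, 5, 4, 3, 2, 1, 0, 8, 3, 2, 1, 4, 3, 2, 8, 9, 8, 3, 2, 4, 3, 5, 4],
    [7, 6, 5, 4, 3, 2, 1, 0, 8, 3, 2, 1, 4, 3, 2, 8, 9, 8, 3, 2, 4, 3, 5, 8],
    [7, 6, 5, 4, 3, 2, 1, 0, 8, 3, 2, 1, 4, 3, 2, 8, 9, 8, 3, 2, 4, 3, 8, 9],
    [7, 6, 5, 4, 3, 2, 1, 0, 8, 3, 2, 1, 4, 3, 2, 8, 9, 8, 3, 2, 4, 5, 6, 7],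
    [7, 6, 5, 4, 3, 2, 1, 0, 8, 3, 2, 1, 4, 3, 2, 9, 8, 3, 2, 1, 0, 4, 3, 2],
    [7, 6, 5, 4, 3, 2, 1, 0, 8, 3, 2, 1, 4, 3, 2, 9, 8, 3, 2, 1, 0, 4, 3, 5],
    [7, 6, 5, 4, 3, 2, 1, 0, 8, 3, 2, 1, 4, 3, 2, 9, 8, 3, 2, 1, 0, 4, 3, 8],
    [7, 6, 5, 4, 3, 2, 1, 0, 8, 3, 2, 1, 4, 3, 2, 9, 8, 3, 2, 1, 4, 3, 2, 5],
    [7, 6, 5, 4, 3, 2, 1, 0, 8, 3, 2, 1, 4, 3, 2, 9, 8, 3, 2, 1, 4, 3, 2, 8],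
    [7, 6, 5, 4, 3, 2, 1, 0, 8, 3, 2, 1, 4, 3, 2, 9, 8, 3, 2, 1, 4, 3, 5, 4],
    [7, 6, 5, 4, 3, 2, 1, 0, 8, 3, 2, 1, 4, 3, 2, 9, 8, 3, 2, 1, 4, 3, 5, 6],
    [7, 6, 5, 4, 3, 2, 1, 0, 8, 3, 2, 1, 4, 3, 2, 9, 8, 3, 2, 1, 4, 3, 5, 8],
    [7, 6, 5, 4, 3, 2, 1, 0, 8, 3, 2, 1, 4, 3, 2, 9, 8, 3, 2, 1, 4, 3, 8, 9],
    [7, 6, 5, 4, 3, 2, 1, 0, 8, 3, 2, 1, 4, 3, 2, 9, 8, 3, 2, 1, 4, 5, 6, 7],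
    [7, 6, 5, 4, 3, 2, 1, 0, 8, 3, 2, 1, 4, 3, 2, 9, 8, 3, 2, 4, 3, 5, 4, 8],
    [7, 6, 5, 4, 3, 2, 1, 0, 8, 3, 2, 1, 4, 3, 2, 9, 8, 3, 2, 4, 3, 5, 6, 7],
    [7, 6, 5, 4, 3, 2, 1, 0, 8, 3, 2, 1, 4, 3, 2, 9, 8, 3, 2, 4, 3, 5, 8, 9],
    [7, 6, 5, 4, 3, 2, 1, 0, 8, 3, 2, 1, 4, 3, 5, 4, 6, 5, 9, 8, 3, 2, 4, 3],
    [7, 6, 5, 4, 3, 2, 1, 0, 8, 3, 2, 1, 4, 3, 5, 4, 6, 7, 9, 8, 3, 2, 1, 0]]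

/-- A part of the representatives. -/
def repsV_10 : List (List ℕ) :=
  [[7, 6, 5, 4, 3, 2, 1, 0, 8, 3, 2, 1, 4, 3, 5, 4, 6, 7, 9, 8, 3, 2, 4, 3],
    [7, 6, 5, 4, 3, 2, 1, 0, 8, 3, 2, 1, 4, 3, 5, 4, 6, 7, 9, 8, 3, 2, 4, 5],
    [7, 6, 5, 4, 3, 2, 1, 0, 8, 3, 2, 1, 4, 3, 5, 4, 6, 8, 3, 9, 8, 3, 4, 5],
    [7, 6, 5, 4, 3, 2, 1, 0, 8, 3, 2, 1, 4, 3, 5, 4, 6, 8, 9, 8, 3, 2, 4, 3],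
    [7, 6, 5, 4, 3, 2, 1, 0, 8, 3, 2, 1, 4, 3, 5, 4, 6, 9, 8, 3, 2, 4, 3, 5],
    [7, 6, 5, 4, 3, 2, 1, 0, 8, 3, 2, 1, 4, 3, 5, 4, 8, 3, 9, 8, 3, 2, 4, 3],
    [7, 6, 5, 4, 3, 2, 1, 0, 8, 3, 2, 1, 4, 3, 5, 4, 8, 9, 8, 3, 2, 4, 3, 5],
    [7, 6, 5, 4, 3, 2, 1, 0, 8, 3, 2, 1, 4, 3, 5, 4, 9, 8, 3, 2, 1, 0, 4, 3],
    [7, 6, 5, 4, 3, 2, 1, 0, 8, 3, 2, 1, 4, 3, 5, 4, 9, 8, 3, 2, 1, 4, 3, 2],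
    [7, 6, 5, 4, 3, 2, 1, 0, 8, 3, 2, 1, 4, 3, 5, 4, 9, 8, 3, 2, 1, 4, 3, 5],
    [7, 6, 5, 4, 3, 2, 1, 0, 8, 3, 2, 1, 4, 3, 5, 4, 9, 8, 3, 2, 4, 3, 5, 6],
    [7, 6, 5, 4, 3, 2, 1, 0, 8, 3, 2, 1, 4, 3, 5, 4, 9, 8, 3, 2, 4, 3, 8, 9],
    [7, 6, 5, 4, 3, 2, 1, 0, 8, 3, 2, 1, 4, 3, 5, 6, 7, 8, 9, 8, 3, 2, 4, 3],
    [7, 6, 5, 4, 3, 2, 1, 0, 8, 3, 2, 1, 4, 3, 5, 6, 8, 9, 8, 3, 2, 4, 3, 5],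
    [7, 6, 5, 4, 3, 2, 1, 0, 8, 3, 2, 1, 4, 3, 5, 6, 8, 9, 8, 3, 2, 4, 3, 8],
    [7, 6, 5, 4, 3, 2, 1, 0, 8, 3, 2, 1, 4, 3, 5, 6, 9, 8, 3, 2, 1, 0, 4, 3],
    [7, 6, 5, 4, 3, 2, 1, 0, 8, 3, 2, 1, 4, 3, 5, 6, 9, 8, 3, 2, 1, 4, 3, 2],
    [7, 6, 5, 4, 3, 2, 1, 0, 8, 3, 2, 1, 4, 3, 5, 6, 9, 8, 3, 2, 1, 4, 3, 5],
    [7, 6, 5, 4, 3, 2, 1, 0, 8, 3, 2, 1, 4, 3, 5, 6, 9, 8, 3, 2, 4, 3, 5, 4],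
    [7, 6, 5, 4, 3, 2, 1, 0, 8, 3, 2, 1, 4, 3, 5, 6, 9, 8, 3, 2, 4, 3, 5, 6],
    [7, 6, 5, 4, 3, 2, 1, 0, 8, 3, 2, 1, 4, 3, 5, 6, 9, 8, 3, 2, 4, 3, 5, 8],
    [7, 6, 5, 4, 3, 2, 1, 0, 8, 3, 2, 1, 4, 3, 5, 6, 9, 8, 3, 2, 4, 3, 8, 9],
    [7, 6, 5, 4, 3, 2, 1, 0, 8, 3, 2, 1, 4, 3, 5, 8, 9, 8, 3, 2, 1, 0, 4, 5],
    [7, 6, 5, 4, 3, 2, 1, 0, 8, 3, 2, 1, 4, 3, 5, 8, 9, 8, 3, 2, 1, 4, 3, 2],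
    [7, 6, 5, 4, 3, 2, 1, 0, 8, 3, 2, 1, 4, 3, 5, 8, 9, 8, 3, 2, 1, 4, 3, 5],
    [7, 6, 5, 4, 3, 2, 1, 0, 8, 3, 2, 1, 4, 3, 5, 8, 9, 8, 3, 2, 4, 3, 5, 6],
    [7, 6, 5, 4, 3, 2, 1, 0, 8, 3, 2, 1, 4, 3, 5, 8, 9, 8, 3, 2, 4, 3, 8, 9],
    [7, 6, 5, 4, 3, 2, 1, 0, 8, 3, 2, 1, 4, 3, 5, 9, 8, 3, 2, 1, 0, 4, 3, 2],
    [7, 6, 5, 4, 3, 2, 1, 0, 8, 3, 2, 1, 4, 3, 5, 9, 8, 3, 2, 1, 4, 3, 2, 8],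
    [7, 6, 5, 4, 3, 2, 1, 0, 8, 3, 2, 1, 4, 3, 5, 9, 8, 3, 2, 1, 4, 3, 8, 9],
    [7, 6, 5, 4, 3, 2, 1, 0, 8, 3, 2, 1, 4, 3, 5, 9, 8, 3, 2, 4, 3, 5, 4, 6],
    [7, 6, 5, 4, 3, 2, 1, 0, 8, 3, 2, 1, 4, 3, 5, 9, 8, 3, 2, 4, 3, 5, 6, 7],
    [7, 6, 5, 4, 3, 2, 1, 0, 8, 3, 2, 1, 4, 3, 5, 9, 8, 3, 2, 4, 3, 5, 6, 8],
    [7, 6, 5, 4, 3, 2, 1, 0, 8, 3, 2, 1, 4, 3, 8, 9, 8, 3, 2, 1, 0, 4, 3, 5],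
    [7, 6, 5, 4, 3, 2, 1, 0, 8, 3, 2, 1, 4, 3, 8, 9, 8, 3, 2, 1, 4, 3, 2, 5],
    [7, 6, 5, 4, 3, 2, 1, 0, 8, 3, 2, 1, 4, 3, 8, 9, 8, 3, 2, 1, 4, 3, 5, 4],
    [7, 6, 5, 4, 3, 2, 1, 0, 8, 3, 2, 1, 4, 3, 8, 9, 8, 3, 2, 1, 4, 3, 5, 8],
    [7, 6, 5, 4, 3, 2, 1, 0, 8, 3, 2, 1, 4, 3, 8, 9, 8, 3, 2, 1, 4, 5, 6, 7],
    [7, 6, 5, 4, 3, 2, 1, 0, 8, 3, 2, 1, 4, 3, 8, 9, 8, 3, 2, 4, 3, 5, 4, 8],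
    [7, 6, 5, 4, 3, 2, 1, 0, 8, 3, 2, 1, 4, 3, 8, 9, 8, 3, 2, 4, 3, 5, 6, 7],
    [7, 6, 5, 4, 3, 2, 1, 0, 8, 3, 2, 1, 4, 3, 8, 9, 8, 3, 2, 4, 3, 5, 6, 8],
    [7, 6, 5, 4, 3, 2, 1, 0, 8, 3, 2, 1, 4, 3, 8, 9, 8, 3, 2, 4, 3, 5, 8, 9],
    [7, 6, 5, 4, 3, 2, 1, 0, 8, 3, 2, 1, 4, 3, 9, 8, 3, 2, 1, 0, 4, 3, 5, 4],
    [7, 6, 5, 4, 3, 2, 1, 0, 8, 3, 2, 1, 4, 3, 9, 8, 3, 2, 1, 0, 4, 3, 5, 8],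
    [7, 6, 5, 4, 3, 2, 1, 0, 8, 3, 2, 1, 4, 3, 9, 8, 3, 2, 1, 4, 3, 2, 5, 4],
    [7, 6, 5, 4, 3, 2, 1, 0, 8, 3, 2, 1, 4, 3, 9, 8, 3, 2, 1, 4, 3, 5, 4, 8],
    [7, 6, 5, 4, 3, 2, 1, 0, 8, 3, 2, 1, 4, 3, 9, 8, 3, 2, 1, 4, 3, 5, 6, 7],
    [7, 6, 5, 4, 3, 2, 1, 0, 8, 3, 2, 1, 4, 3, 9, 8, 3, 2, 1, 4, 3, 5, 6, 8],
    [7, 6, 5, 4, 3, 2, 1, 0, 8, 3, 2, 1, 4, 3, 9, 8, 3, 2, 1, 4, 3, 5, 8, 9],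
    [7, 6, 5, 4, 3, 2, 1, 0, 8, 3, 2, 1, 4, 3, 9, 8, 3, 2, 4, 3, 5, 4, 6, 5],
    [7, 6, 5, 4, 3, 2, 1, 0, 8, 3, 2, 1, 4, 3, 9, 8, 3, 2, 4, 3, 5, 4, 6, 8],
    [7, 6, 5, 4, 3, 2, 1, 0, 8, 3, 2, 1, 4, 3, 9, 8, 3, 2, 4, 3, 5, 4, 8, 9],
    [7, 6, 5, 4, 3, 2, 1, 0, 8, 3, 2, 1, 4, 5, 6, 7, 9, 8, 3, 2, 4, 3, 5, 6],
    [7, 6, 5, 4, 3, 2, 1, 0, 8, 3, 2, 1, 4, 5, 6, 9, 8, 3, 2, 1, 4, 3, 5, 4],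
    [7, 6, 5, 4, 3, 2, 1, 0, 8, 3, 2, 1, 4, 5, 6, 9, 8, 3, 2, 1, 4, 3, 5, 6],
    [7, 6, 5, 4, 3, 2, 1, 0, 8, 3, 2, 1, 4, 5, 6, 9, 8, 3, 2, 1, 4, 3, 8, 9],
    [7, 6, 5, 4, 3, 2, 1, 0, 8, 3, 2, 1, 4, 5, 6, 9, 8, 3, 2, 4, 3, 5, 4, 6],
    [7, 6, 5, 4, 3, 2, 1, 0, 8, 3, 2, 1, 4, 5, 6, 9, 8, 3, 2, 4, 3, 5, 6, 7],
    [7, 6, 5, 4, 3, 2, 1, 0, 8, 3, 2, 1, 4, 5, 6, 9, 8, 3, 2, 4, 3, 5, 8, 9],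
    [7, 6, 5, 4, 3, 2, 1, 0, 8, 3, 2, 1, 4, 5, 9, 8, 3, 2, 1, 0, 4, 3, 2, 5],
    [7, 6, 5, 4, 3, 2, 1, 0, 8, 3, 2, 1, 4, 5, 9, 8, 3, 2, 1, 4, 3, 2, 5, 4],
    [7, 6, 5, 4, 3, 2, 1, 0, 8, 3, 2, 1, 4, 5, 9, 8, 3, 2, 1, 4, 3, 2, 8, 3],
    [7, 6, 5, 4, 3, 2, 1, 0, 8, 3, 2, 1, 4, 5, 9, 8, 3, 2, 1, 4, 3, 2, 8, 9],
    [7, 6, 5, 4, 3, 2, 1, 0, 8, 3, 2, 1, 4, 5, 9, 8, 3, 2, 1, 4, 3, 5, 4, 6],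
    [7, 6, 5, 4, 3, 2, 1, 0, 8, 3, 2, 1, 4, 5, 9, 8, 3, 2, 4, 3, 5, 4, 6, 5],
    [7, 6, 5, 4, 3, 2, 1, 0, 8, 3, 2, 1, 4, 9, 8, 3, 2, 1, 0, 4, 3, 5, 4, 6],
    [7, 6, 5, 4, 3, 2, 1, 0, 8, 3, 2, 1, 4, 9, 8, 3, 2, 1, 0, 4, 3, 5, 6, 7],
    [7, 6, 5, 4, 3, 2, 1, 0, 8, 3, 2, 1, 4, 9, 8, 3, 2, 1, 0, 4, 3, 5, 8, 9],
    [7, 6, 5, 4, 3, 2, 1, 0, 8, 3, 2, 1, 4, 9, 8, 3, 2, 1, 4, 3, 5, 4, 6, 5],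
    [7, 6, 5, 4, 3, 2, 1, 0, 8, 3, 2, 1, 4, 9, 8, 3, 2, 1, 4, 3, 5, 4, 6, 7],
    [7, 6, 5, 4, 3, 2, 1, 0, 8, 3, 2, 1, 4, 9, 8, 3, 2, 1, 4, 3, 5, 4, 8, 9],
    [7, 6, 5, 4, 3, 2, 1, 0, 8, 3, 2, 1, 4, 9, 8, 3, 2, 1, 4, 3, 5, 6, 7, 8],
    [7, 6, 5, 4, 3, 2, 1, 0, 8, 3, 2, 1, 4, 9, 8, 3, 2, 1, 4, 3, 5, 6, 8, 9],
    [7, 6, 5, 4, 3, 2, 1, 0, 8, 3, 2, 1, 4, 9, 8, 3, 2, 4, 3, 5, 4, 6, 7, 8],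
    [7, 6, 5, 4, 3, 2, 1, 0, 8, 3, 2, 1, 4, 9, 8, 3, 2, 4, 3, 5, 4, 6, 8, 3],
    [7, 6, 5, 4, 3, 2, 1, 0, 8, 3, 2, 1, 4, 9, 8, 3, 2, 4, 3, 5, 4, 6, 8, 9],
    [7, 6, 5, 4, 3, 2, 1, 0, 8, 3, 2, 1, 4, 9, 8, 3, 2, 4, 3, 5, 4, 8, 3, 2],
    [7, 6, 5, 4, 3, 2, 1, 0, 8, 3, 2, 1, 9, 8, 3, 2, 4, 3, 5, 4, 6, 5, 8, 3],
    [7, 6, 5, 4, 3, 2, 1, 0, 8, 3, 2, 1, 9, 8, 3, 2, 4, 3, 5, 4, 8, 3, 2, 1],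
    [7, 6, 5, 4, 3, 2, 1, 0, 8, 3, 2, 4, 3, 5, 4, 6, 5, 7, 6, 8, 3, 4, 5, 9],
    [7, 6, 5, 4, 3, 2, 1, 0, 8, 3, 2, 4, 3, 5, 4, 6, 5, 7, 6, 9, 8, 3, 2, 1],
    [7, 6, 5, 4, 3, 2, 1, 0, 8, 3, 2, 4, 3, 5, 4, 6, 5, 7, 6, 9, 8, 3, 2, 4],
    [7, 6, 5, 4, 3, 2, 1, 0, 8, 3, 2, 4, 3, 5, 4, 6, 5, 7, 9, 8, 3, 4, 5, 6],
    [7, 6, 5, 4, 3, 2, 1, 0, 8, 3, 2, 4, 3, 5, 4, 6, 5, 8, 3, 9, 8, 3, 4, 5],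
    [7, 6, 5, 4, 3, 2, 1, 0, 8, 3, 2, 4, 3, 5, 4, 6, 5, 8, 9, 8, 3, 2, 4, 5],
    [7, 6, 5, 4, 3, 2, 1, 0, 8, 3, 2, 4, 3, 5, 4, 6, 5, 9, 8, 3, 2, 4, 3, 8],
    [7, 6, 5, 4, 3, 2, 1, 0, 8, 3, 2, 4, 3, 5, 4, 6, 7, 8, 3, 9, 8, 3, 4, 5],
    [7, 6, 5, 4, 3, 2, 1, 0, 8, 3, 2, 4, 3, 5, 4, 6, 8, 3, 9, 8, 3, 4, 5, 6],
    [7, 6, 5, 4, 3, 2, 1, 0, 8, 3, 2, 4, 3, 5, 4, 6, 8, 9, 8, 3, 2, 4, 3, 5],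
    [7, 6, 5, 4, 3, 2, 1, 0, 8, 3, 2, 4, 3, 5, 4, 6, 8, 9, 8, 3, 4, 5, 6, 7],
    [7, 6, 5, 4, 3, 2, 1, 0, 8, 3, 2, 4, 3, 5, 4, 6, 9, 8, 3, 2, 4, 3, 5, 4],
    [7, 6, 5, 4, 3, 2, 1, 0, 8, 3, 2, 4, 3, 5, 4, 6, 9, 8, 3, 2, 4, 3, 5, 6],
    [7, 6, 5, 4, 3, 2, 1, 0, 8, 3, 2, 4, 3, 5, 4, 6, 9, 8, 3, 2, 4, 3, 8, 9],
    [7, 6, 5, 4, 3, 2, 1, 0, 8, 3, 2, 4, 3, 5, 4, 8, 3, 9, 8, 3, 4, 5, 6, 7],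
    [7, 6, 5, 4, 3, 2, 1, 0, 8, 3, 2, 4, 3, 5, 4, 8, 9, 8, 3, 2, 4, 3, 5, 6],
    [7, 6, 5, 4, 3, 2, 1, 0, 8, 3, 2, 4, 3, 5, 4, 9, 8, 3, 2, 1, 0, 4, 5, 6],
    [7, 6, 5, 4, 3, 2, 1, 0, 8, 3, 2, 4, 3, 5, 4, 9, 8, 3, 2, 1, 4, 5, 6, 7],
    [7, 6, 5, 4, 3, 2, 1, 0, 8, 3, 2, 4, 3, 5, 4, 9, 8, 3, 2, 4, 3, 5, 4, 8],
    [7, 6, 5, 4, 3, 2, 1, 0, 8, 3, 2, 4, 3, 5, 4, 9, 8, 3, 2, 4, 3, 5, 6, 7],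
    [7, 6, 5, 4, 3, 2, 1, 0, 8, 3, 2, 4, 3, 5, 4, 9, 8, 3, 2, 4, 3, 5, 8, 9],
    [7, 6, 5, 4, 3, 2, 1, 0, 8, 3, 2, 4, 3, 5, 6, 7, 9, 8, 3, 2, 4, 3, 5, 4],
    [7, 6, 5, 4, 3, 2, 1, 0, 8, 3, 2, 4, 3, 5, 6, 7, 9, 8, 3, 2, 4, 3, 5, 6],
    [7, 6, 5, 4, 3, 2, 1, 0, 8, 3, 2, 4, 3, 5, 6, 8, 9, 8, 3, 2, 1, 4, 3, 5],
    [7, 6, 5, 4, 3, 2, 1, 0, 8, 3, 2, 4, 3, 5, 6, 8, 9, 8, 3, 2, 4, 3, 5, 8],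
    [7, 6, 5, 4, 3, 2, 1, 0, 8, 3, 2, 4, 3, 5, 6, 8, 9, 8, 3, 2, 4, 3, 8, 9],
    [7, 6, 5, 4, 3, 2, 1, 0, 8, 3, 2, 4, 3, 5, 6, 9, 8, 3, 2, 1, 4, 3, 5, 6],
    [7, 6, 5, 4, 3, 2, 1, 0, 8, 3, 2, 4, 3, 5, 6, 9, 8, 3, 2, 1, 4, 3, 5, 8],
    [7, 6, 5, 4, 3, 2, 1, 0, 8, 3, 2, 4, 3, 5, 6, 9, 8, 3, 2, 4, 3, 5, 4, 6],
    [7, 6, 5, 4, 3, 2, 1, 0, 8, 3, 2, 4, 3, 5, 6, 9, 8, 3, 2, 4, 3, 5, 4, 8],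
    [7, 6, 5, 4, 3, 2, 1, 0, 8, 3, 2, 4, 3, 5, 6, 9, 8, 3, 2, 4, 3, 5, 6, 7],
    [7, 6, 5, 4, 3, 2, 1, 0, 8, 3, 2, 4, 3, 5, 6, 9, 8, 3, 2, 4, 3, 5, 6, 8],
    [7, 6, 5, 4, 3, 2, 1, 0, 8, 3, 2, 4, 3, 5, 6, 9, 8, 3, 2, 4, 3, 5, 8, 9],
    [7, 6, 5, 4, 3, 2, 1, 0, 8, 3, 2, 4, 3, 5, 8, 9, 8, 3, 2, 1, 0, 4, 3, 2],
    [7, 6, 5, 4, 3, 2, 1, 0, 8, 3, 2, 4, 3, 5, 8, 9, 8, 3, 2, 4, 3, 5, 6, 7],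
    [7, 6, 5, 4, 3, 2, 1, 0, 8, 3, 2, 4, 3, 5, 8, 9, 8, 3, 2, 4, 3, 5, 8, 9],
    [7, 6, 5, 4, 3, 2, 1, 0, 8, 3, 2, 4, 3, 5, 9, 8, 3, 2, 1, 4, 3, 2, 8, 3],
    [7, 6, 5, 4, 3, 2, 1, 0, 8, 3, 2, 4, 3, 5, 9, 8, 3, 2, 1, 4, 3, 5, 6, 7],
    [7, 6, 5, 4, 3, 2, 1, 0, 8, 3, 2, 4, 3, 5, 9, 8, 3, 2, 4, 3, 5, 4, 6, 5],
    [7, 6, 5, 4, 3, 2, 1, 0, 8, 3, 2, 4, 3, 5, 9, 8, 3, 2, 4, 3, 5, 4, 6, 8],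
    [7, 6, 5, 4, 3, 2, 1, 0, 8, 3, 2, 4, 3, 5, 9, 8, 3, 2, 4, 3, 5, 4, 8, 9],
    [7, 6, 5, 4, 3, 2, 1, 0, 8, 3, 2, 4, 3, 5, 9, 8, 3, 2, 4, 3, 5, 6, 7, 8],
    [7, 6, 5, 4, 3, 2, 1, 0, 8, 3, 2, 4, 3, 8, 9, 8, 3, 2, 1, 4, 3, 5, 4, 8],
    [7, 6, 5, 4, 3, 2, 1, 0, 8, 3, 2, 4, 3, 8, 9, 8, 3, 2, 4, 3, 5, 4, 6, 5],
    [7, 6, 5, 4, 3, 2, 1, 0, 8, 3, 2, 4, 3, 8, 9, 8, 3, 2, 4, 3, 5, 4, 6, 7],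
    [7, 6, 5, 4, 3, 2, 1, 0, 8, 3, 2, 4, 3, 8, 9, 8, 3, 2, 4, 3, 5, 4, 6, 8],
    [7, 6, 5, 4, 3, 2, 1, 0, 8, 3, 2, 4, 3, 8, 9, 8, 3, 2, 4, 3, 5, 6, 7, 8],
    [7, 6, 5, 4, 3, 2, 1, 0, 8, 3, 2, 4, 3, 9, 8, 3, 2, 4, 3, 5, 4, 6, 5, 7],
    [7, 6, 5, 4, 3, 2, 1, 0, 8, 3, 2, 4, 5, 6, 7, 9, 8, 3, 2, 4, 3, 5, 6, 7]]

/-- A part of the representatives. -/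
def repsV_11 : List (List ℕ) :=
  [[7, 6, 5, 4, 3, 2, 1, 0, 8, 3, 2, 4, 5, 6, 9, 8, 3, 2, 4, 3, 5, 4, 6, 7],
    [7, 6, 5, 4, 3, 2, 1, 0, 8, 3, 2, 4, 5, 6, 9, 8, 3, 2, 4, 3, 5, 4, 8, 3],
    [7, 6, 5, 4, 3, 2, 1, 0, 8, 3, 2, 4, 5, 6, 9, 8, 3, 2, 4, 3, 5, 6, 7, 8],
    [7, 6, 5, 4, 3, 2, 1, 0, 8, 3, 2, 4, 5, 9, 8, 3, 2, 1, 4, 3, 2, 5, 8, 3],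
    [7, 6, 5, 4, 3, 2, 1, 0, 8, 3, 4, 5, 6, 7, 9, 8, 3, 2, 1, 0, 4, 3, 2, 5],
    [7, 6, 5, 4, 3, 2, 1, 0, 8, 3, 4, 5, 6, 7, 9, 8, 3, 2, 4, 3, 5, 4, 6, 5],
    [7, 6, 5, 4, 3, 2, 1, 0, 8, 3, 4, 5, 6, 7, 9, 8, 3, 2, 4, 3, 5, 4, 8, 9],
    [7, 6, 5, 4, 3, 2, 1, 0, 8, 3, 4, 5, 6, 9, 8, 3, 2, 1, 4, 3, 2, 5, 8, 3],
    [7, 6, 5, 4, 3, 2, 1, 8, 3, 2, 4, 3, 5, 4, 6, 5, 9, 8, 3, 2, 1, 4, 3, 2],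
    [7, 6, 5, 4, 3, 2, 1, 8, 3, 2, 4, 3, 5, 4, 6, 8, 9, 8, 3, 2, 4, 3, 5, 4],
    [7, 6, 5, 4, 3, 2, 1, 8, 3, 2, 4, 3, 5, 4, 6, 8, 9, 8, 3, 2, 4, 3, 5, 6],
    [7, 6, 5, 4, 3, 2, 1, 8, 3, 2, 4, 3, 5, 4, 6, 8, 9, 8, 3, 2, 4, 5, 6, 7],
    [7, 6, 5, 4, 3, 2, 1, 8, 3, 2, 4, 3, 5, 4, 6, 9, 8, 3, 2, 1, 4, 3, 2, 5],
    [7, 6, 5, 4, 3, 2, 1, 8, 3, 2, 4, 3, 5, 4, 9, 8, 3, 2, 1, 4, 3, 5, 4, 8],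
    [7, 6, 5, 4, 3, 2, 1, 8, 3, 2, 4, 3, 5, 6, 7, 9, 8, 3, 2, 1, 0, 4, 3, 5],
    [7, 6, 5, 4, 3, 2, 1, 8, 3, 2, 4, 3, 5, 6, 8, 9, 8, 3, 2, 1, 4, 3, 5, 4],
    [7, 6, 5, 4, 3, 2, 1, 8, 3, 2, 4, 3, 5, 6, 8, 9, 8, 3, 2, 4, 3, 5, 6, 7],
    [7, 6, 5, 4, 3, 2, 1, 8, 3, 2, 4, 3, 5, 6, 9, 8, 3, 2, 1, 0, 4, 3, 5, 6],
    [7, 6, 5, 4, 3, 2, 1, 8, 3, 2, 4, 3, 5, 6, 9, 8, 3, 2, 1, 0, 4, 5, 6, 7],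
    [7, 6, 5, 4, 3, 2, 1, 8, 3, 2, 4, 3, 5, 6, 9, 8, 3, 2, 1, 4, 3, 5, 6, 7],
    [7, 6, 5, 4, 3, 2, 1, 8, 3, 2, 4, 3, 5, 8, 9, 8, 3, 2, 1, 4, 3, 5, 6, 7],
    [7, 6, 5, 4, 3, 2, 1, 8, 3, 2, 4, 3, 5, 8, 9, 8, 3, 2, 4, 3, 5, 4, 6, 7],
    [7, 6, 5, 4, 3, 2, 1, 8, 3, 2, 4, 3, 8, 9, 8, 3, 2, 1, 0, 4, 3, 2, 5, 4],
    [7, 6, 5, 4, 3, 2, 1, 8, 3, 2, 4, 3, 8, 9, 8, 3, 2, 1, 0, 4, 3, 2, 5, 6],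
    [7, 6, 5, 4, 3, 2, 1, 8, 3, 2, 4, 3, 8, 9, 8, 3, 2, 1, 0, 4, 3, 2, 5, 8],
    [7, 6, 5, 4, 3, 2, 1, 8, 3, 2, 4, 3, 8, 9, 8, 3, 2, 1, 0, 4, 3, 5, 6, 7],
    [7, 6, 5, 4, 3, 2, 1, 8, 3, 2, 4, 3, 8, 9, 8, 3, 2, 1, 0, 4, 3, 5, 6, 8],
    [7, 6, 5, 4, 3, 2, 1, 8, 3, 2, 4, 3, 8, 9, 8, 3, 2, 1, 4, 3, 2, 5, 6, 7],
    [7, 6, 5, 4, 3, 2, 1, 8, 3, 2, 4, 3, 8, 9, 8, 3, 2, 1, 4, 3, 5, 4, 6, 5],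
    [7, 6, 5, 4, 3, 2, 1, 8, 3, 2, 4, 3, 8, 9, 8, 3, 2, 4, 3, 5, 4, 6, 7, 8],
    [7, 6, 5, 4, 3, 2, 1, 8, 3, 2, 4, 3, 9, 8, 3, 2, 1, 0, 4, 3, 2, 5, 6, 7],
    [7, 6, 5, 4, 3, 2, 1, 8, 3, 2, 4, 5, 6, 7, 9, 8, 3, 2, 1, 0, 4, 3, 5, 4],
    [7, 6, 5, 4, 3, 2, 1, 8, 3, 2, 4, 5, 6, 7, 9, 8, 3, 2, 1, 4, 3, 5, 6, 7],
    [7, 6, 5, 4, 3, 2, 1, 8, 3, 2, 4, 5, 6, 9, 8, 3, 2, 1, 4, 3, 5, 4, 6, 7],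
    [7, 6, 5, 4, 3, 2, 1, 8, 3, 4, 5, 6, 7, 9, 8, 3, 2, 1, 0, 4, 3, 5, 4, 6],
    [7, 6, 5, 4, 3, 2, 1, 0, 8, 3, 2, 1, 4, 3, 2, 5, 4, 3, 6, 5, 9, 8, 3, 2, 1],
    [7, 6, 5, 4, 3, 2, 1, 0, 8, 3, 2, 1, 4, 3, 2, 5, 4, 3, 6, 5, 9, 8, 3, 2, 4],
    [7, 6, 5, 4, 3, 2, 1, 0, 8, 3, 2, 1, 4, 3, 2, 5, 4, 3, 6, 9, 8, 3, 2, 1, 4],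
    [7, 6, 5, 4, 3, 2, 1, 0, 8, 3, 2, 1, 4, 3, 2, 5, 4, 3, 6, 9, 8, 3, 2, 4, 5],
    [7, 6, 5, 4, 3, 2, 1, 0, 8, 3, 2, 1, 4, 3, 2, 5, 4, 3, 9, 8, 3, 2, 1, 4, 5],
    [7, 6, 5, 4, 3, 2, 1, 0, 8, 3, 2, 1, 4, 3, 2, 5, 4, 3, 9, 8, 3, 2, 4, 3, 5],
    [7, 6, 5, 4, 3, 2, 1, 0, 8, 3, 2, 1, 4, 3, 2, 5, 4, 3, 9, 8, 3, 4, 5, 6, 7],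
    [7, 6, 5, 4, 3, 2, 1, 0, 8, 3, 2, 1, 4, 3, 2, 5, 4, 6, 5, 8, 9, 8, 3, 2, 1],
    [7, 6, 5, 4, 3, 2, 1, 0, 8, 3, 2, 1, 4, 3, 2, 5, 4, 6, 5, 8, 9, 8, 3, 2, 4],
    [7, 6, 5, 4, 3, 2, 1, 0, 8, 3, 2, 1, 4, 3, 2, 5, 4, 6, 5, 9, 8, 3, 2, 1, 0],
    [7, 6, 5, 4, 3, 2, 1, 0, 8, 3, 2, 1, 4, 3, 2, 5, 4, 6, 5, 9, 8, 3, 2, 1, 4],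
    [7, 6, 5, 4, 3, 2, 1, 0, 8, 3, 2, 1, 4, 3, 2, 5, 4, 6, 5, 9, 8, 3, 2, 4, 3],
    [7, 6, 5, 4, 3, 2, 1, 0, 8, 3, 2, 1, 4, 3, 2, 5, 4, 6, 5, 9, 8, 3, 4, 5, 6],
    [7, 6, 5, 4, 3, 2, 1, 0, 8, 3, 2, 1, 4, 3, 2, 5, 4, 6, 7, 9, 8, 3, 2, 4, 3],
    [7, 6, 5, 4, 3, 2, 1, 0, 8, 3, 2, 1, 4, 3, 2, 5, 4, 6, 8, 9, 8, 3, 2, 4, 3],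
    [7, 6, 5, 4, 3, 2, 1, 0, 8, 3, 2, 1, 4, 3, 2, 5, 4, 6, 9, 8, 3, 2, 1, 0, 4],
    [7, 6, 5, 4, 3, 2, 1, 0, 8, 3, 2, 1, 4, 3, 2, 5, 4, 6, 9, 8, 3, 2, 1, 4, 5],
    [7, 6, 5, 4, 3, 2, 1, 0, 8, 3, 2, 1, 4, 3, 2, 5, 4, 8, 9, 8, 3, 2, 4, 3, 8],
    [7, 6, 5, 4, 3, 2, 1, 0, 8, 3, 2, 1, 4, 3, 2, 5, 4, 9, 8, 3, 2, 1, 4, 3, 5],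
    [7, 6, 5, 4, 3, 2, 1, 0, 8, 3, 2, 1, 4, 3, 2, 5, 4, 9, 8, 3, 2, 4, 3, 8, 9],
    [7, 6, 5, 4, 3, 2, 1, 0, 8, 3, 2, 1, 4, 3, 2, 5, 6, 7, 8, 3, 9, 8, 3, 2, 1],
    [7, 6, 5, 4, 3, 2, 1, 0, 8, 3, 2, 1, 4, 3, 2, 5, 6, 7, 8, 3, 9, 8, 3, 2, 4],
    [7, 6, 5, 4, 3, 2, 1, 0, 8, 3, 2, 1, 4, 3, 2, 5, 6, 7, 8, 3, 9, 8, 3, 4, 5],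
    [7, 6, 5, 4, 3, 2, 1, 0, 8, 3, 2, 1, 4, 3, 2, 5, 6, 7, 8, 9, 8, 3, 2, 1, 0],
    [7, 6, 5, 4, 3, 2, 1, 0, 8, 3, 2, 1, 4, 3, 2, 5, 6, 7, 8, 9, 8, 3, 2, 1, 4],
    [7, 6, 5, 4, 3, 2, 1, 0, 8, 3, 2, 1, 4, 3, 2, 5, 6, 7, 9, 8, 3, 2, 1, 4, 5],
    [7, 6, 5, 4, 3, 2, 1, 0, 8, 3, 2, 1, 4, 3, 2, 5, 6, 7, 9, 8, 3, 2, 4, 3, 5],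
    [7, 6, 5, 4, 3, 2, 1, 0, 8, 3, 2, 1, 4, 3, 2, 5, 6, 8, 3, 9, 8, 3, 2, 1, 0],
    [7, 6, 5, 4, 3, 2, 1, 0, 8, 3, 2, 1, 4, 3, 2, 5, 6, 8, 3, 9, 8, 3, 2, 1, 4],
    [7, 6, 5, 4, 3, 2, 1, 0, 8, 3, 2, 1, 4, 3, 2, 5, 6, 8, 3, 9, 8, 3, 2, 4, 5],
    [7, 6, 5, 4, 3, 2, 1, 0, 8, 3, 2, 1, 4, 3, 2, 5, 6, 8, 3, 9, 8, 3, 4, 5, 6],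
    [7, 6, 5, 4, 3, 2, 1, 0, 8, 3, 2, 1, 4, 3, 2, 5, 6, 8, 9, 8, 3, 2, 4, 3, 8],
    [7, 6, 5, 4, 3, 2, 1, 0, 8, 3, 2, 1, 4, 3, 2, 5, 6, 9, 8, 3, 2, 4, 3, 5, 4],
    [7, 6, 5, 4, 3, 2, 1, 0, 8, 3, 2, 1, 4, 3, 2, 5, 8, 3, 9, 8, 3, 2, 1, 0, 4],
    [7, 6, 5, 4, 3, 2, 1, 0, 8, 3, 2, 1, 4, 3, 2, 5, 8, 3, 9, 8, 3, 2, 1, 4, 5],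
    [7, 6, 5, 4, 3, 2, 1, 0, 8, 3, 2, 1, 4, 3, 2, 5, 8, 3, 9, 8, 3, 4, 5, 6, 7],
    [7, 6, 5, 4, 3, 2, 1, 0, 8, 3, 2, 1, 4, 3, 2, 5, 8, 9, 8, 3, 2, 1, 0, 4, 5],
    [7, 6, 5, 4, 3, 2, 1, 0, 8, 3, 2, 1, 4, 3, 2, 5, 8, 9, 8, 3, 2, 1, 4, 3, 2],
    [7, 6, 5, 4, 3, 2, 1, 0, 8, 3, 2, 1, 4, 3, 2, 5, 8, 9, 8, 3, 2, 4, 3, 8, 9],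
    [7, 6, 5, 4, 3, 2, 1, 0, 8, 3, 2, 1, 4, 3, 2, 5, 8, 9, 8, 3, 2, 4, 5, 6, 7],
    [7, 6, 5, 4, 3, 2, 1, 0, 8, 3, 2, 1, 4, 3, 2, 5, 9, 8, 3, 2, 1, 0, 4, 3, 2],
    [7, 6, 5, 4, 3, 2, 1, 0, 8, 3, 2, 1, 4, 3, 2, 5, 9, 8, 3, 2, 1, 4, 3, 2, 5],
    [7, 6, 5, 4, 3, 2, 1, 0, 8, 3, 2, 1, 4, 3, 2, 5, 9, 8, 3, 2, 1, 4, 3, 2, 8],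
    [7, 6, 5, 4, 3, 2, 1, 0, 8, 3, 2, 1, 4, 3, 2, 5, 9, 8, 3, 2, 1, 4, 3, 5, 4],
    [7, 6, 5, 4, 3, 2, 1, 0, 8, 3, 2, 1, 4, 3, 2, 5, 9, 8, 3, 2, 1, 4, 3, 5, 6],
    [7, 6, 5, 4, 3, 2, 1, 0, 8, 3, 2, 1, 4, 3, 2, 5, 9, 8, 3, 2, 1, 4, 3, 5, 8],
    [7, 6, 5, 4, 3, 2, 1, 0, 8, 3, 2, 1, 4, 3, 2, 5, 9, 8, 3, 2, 1, 4, 3, 8, 9],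
    [7, 6, 5, 4, 3, 2, 1, 0, 8, 3, 2, 1, 4, 3, 2, 5, 9, 8, 3, 2, 1, 4, 5, 6, 7],
    [7, 6, 5, 4, 3, 2, 1, 0, 8, 3, 2, 1, 4, 3, 2, 5, 9, 8, 3, 2, 4, 3, 5, 4, 6],
    [7, 6, 5, 4, 3, 2, 1, 0, 8, 3, 2, 1, 4, 3, 2, 8, 9, 8, 3, 2, 1, 0, 4, 3, 5],
    [7, 6, 5, 4, 3, 2, 1, 0, 8, 3, 2, 1, 4, 3, 2, 8, 9, 8, 3, 2, 1, 0, 4, 5, 6],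
    [7, 6, 5, 4, 3, 2, 1, 0, 8, 3, 2, 1, 4, 3, 2, 8, 9, 8, 3, 2, 1, 4, 3, 5, 8],
    [7, 6, 5, 4, 3, 2, 1, 0, 8, 3, 2, 1, 4, 3, 2, 8, 9, 8, 3, 2, 1, 4, 5, 6, 7],
    [7, 6, 5, 4, 3, 2, 1, 0, 8, 3, 2, 1, 4, 3, 2, 8, 9, 8, 3, 2, 4, 3, 5, 4, 8],
    [7, 6, 5, 4, 3, 2, 1, 0, 8, 3, 2, 1, 4, 3, 2, 8, 9, 8, 3, 2, 4, 3, 5, 8, 9],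
    [7, 6, 5, 4, 3, 2, 1, 0, 8, 3, 2, 1, 4, 3, 2, 9, 8, 3, 2, 1, 0, 4, 3, 2, 5],
    [7, 6, 5, 4, 3, 2, 1, 0, 8, 3, 2, 1, 4, 3, 2, 9, 8, 3, 2, 1, 0, 4, 3, 5, 4],
    [7, 6, 5, 4, 3, 2, 1, 0, 8, 3, 2, 1, 4, 3, 2, 9, 8, 3, 2, 1, 0, 4, 3, 5, 6],
    [7, 6, 5, 4, 3, 2, 1, 0, 8, 3, 2, 1, 4, 3, 2, 9, 8, 3, 2, 1, 0, 4, 3, 5, 8],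
    [7, 6, 5, 4, 3, 2, 1, 0, 8, 3, 2, 1, 4, 3, 2, 9, 8, 3, 2, 1, 0, 4, 5, 6, 7],
    [7, 6, 5, 4, 3, 2, 1, 0, 8, 3, 2, 1, 4, 3, 2, 9, 8, 3, 2, 1, 4, 3, 2, 5, 4],
    [7, 6, 5, 4, 3, 2, 1, 0, 8, 3, 2, 1, 4, 3, 2, 9, 8, 3, 2, 1, 4, 3, 2, 5, 8],
    [7, 6, 5, 4, 3, 2, 1, 0, 8, 3, 2, 1, 4, 3, 2, 9, 8, 3, 2, 1, 4, 3, 5, 4, 8],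
    [7, 6, 5, 4, 3, 2, 1, 0, 8, 3, 2, 1, 4, 3, 2, 9, 8, 3, 2, 1, 4, 3, 5, 6, 7],
    [7, 6, 5, 4, 3, 2, 1, 0, 8, 3, 2, 1, 4, 3, 2, 9, 8, 3, 2, 4, 3, 5, 4, 8, 9],
    [7, 6, 5, 4, 3, 2, 1, 0, 8, 3, 2, 1, 4, 3, 2, 9, 8, 3, 2, 4, 3, 5, 6, 7, 8],
    [7, 6, 5, 4, 3, 2, 1, 0, 8, 3, 2, 1, 4, 3, 5, 4, 6, 5, 9, 8, 3, 2, 4, 3, 8],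
    [7, 6, 5, 4, 3, 2, 1, 0, 8, 3, 2, 1, 4, 3, 5, 4, 6, 7, 9, 8, 3, 2, 4, 3, 8],
    [7, 6, 5, 4, 3, 2, 1, 0, 8, 3, 2, 1, 4, 3, 5, 4, 6, 8, 9, 8, 3, 2, 4, 3, 5],
    [7, 6, 5, 4, 3, 2, 1, 0, 8, 3, 2, 1, 4, 3, 5, 4, 6, 9, 8, 3, 2, 1, 0, 4, 3],
    [7, 6, 5, 4, 3, 2, 1, 0, 8, 3, 2, 1, 4, 3, 5, 4, 6, 9, 8, 3, 2, 1, 4, 3, 2],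
    [7, 6, 5, 4, 3, 2, 1, 0, 8, 3, 2, 1, 4, 3, 5, 4, 6, 9, 8, 3, 2, 1, 4, 3, 5],
    [7, 6, 5, 4, 3, 2, 1, 0, 8, 3, 2, 1, 4, 3, 5, 4, 6, 9, 8, 3, 2, 4, 3, 5, 4],
    [7, 6, 5, 4, 3, 2, 1, 0, 8, 3, 2, 1, 4, 3, 5, 4, 6, 9, 8, 3, 2, 4, 3, 5, 6],
    [7, 6, 5, 4, 3, 2, 1, 0, 8, 3, 2, 1, 4, 3, 5, 4, 6, 9, 8, 3, 2, 4, 3, 8, 9],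
    [7, 6, 5, 4, 3, 2, 1, 0, 8, 3, 2, 1, 4, 3, 5, 4, 8, 9, 8, 3, 2, 1, 4, 3, 2],
    [7, 6, 5, 4, 3, 2, 1, 0, 8, 3, 2, 1, 4, 3, 5, 4, 8, 9, 8, 3, 2, 1, 4, 3, 5],
    [7, 6, 5, 4, 3, 2, 1, 0, 8, 3, 2, 1, 4, 3, 5, 4, 8, 9, 8, 3, 2, 4, 3, 5, 4],
    [7, 6, 5, 4, 3, 2, 1, 0, 8, 3, 2, 1, 4, 3, 5, 4, 8, 9, 8, 3, 2, 4, 3, 5, 8],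
    [7, 6, 5, 4, 3, 2, 1, 0, 8, 3, 2, 1, 4, 3, 5, 4, 8, 9, 8, 3, 2, 4, 3, 8, 9],
    [7, 6, 5, 4, 3, 2, 1, 0, 8, 3, 2, 1, 4, 3, 5, 4, 9, 8, 3, 2, 1, 0, 4, 3, 2],
    [7, 6, 5, 4, 3, 2, 1, 0, 8, 3, 2, 1, 4, 3, 5, 4, 9, 8, 3, 2, 1, 0, 4, 3, 5],
    [7, 6, 5, 4, 3, 2, 1, 0, 8, 3, 2, 1, 4, 3, 5, 4, 9, 8, 3, 2, 1, 0, 4, 3, 8],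
    [7, 6, 5, 4, 3, 2, 1, 0, 8, 3, 2, 1, 4, 3, 5, 4, 9, 8, 3, 2, 1, 4, 3, 2, 5],
    [7, 6, 5, 4, 3, 2, 1, 0, 8, 3, 2, 1, 4, 3, 5, 4, 9, 8, 3, 2, 1, 4, 3, 5, 4],
    [7, 6, 5, 4, 3, 2, 1, 0, 8, 3, 2, 1, 4, 3, 5, 4, 9, 8, 3, 2, 1, 4, 3, 5, 6],
    [7, 6, 5, 4, 3, 2, 1, 0, 8, 3, 2, 1, 4, 3, 5, 4, 9, 8, 3, 2, 1, 4, 3, 5, 8],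
    [7, 6, 5, 4, 3, 2, 1, 0, 8, 3, 2, 1, 4, 3, 5, 4, 9, 8, 3, 2, 4, 3, 5, 4, 6],
    [7, 6, 5, 4, 3, 2, 1, 0, 8, 3, 2, 1, 4, 3, 5, 4, 9, 8, 3, 2, 4, 3, 5, 4, 8],
    [7, 6, 5, 4, 3, 2, 1, 0, 8, 3, 2, 1, 4, 3, 5, 4, 9, 8, 3, 2, 4, 3, 5, 8, 9],
    [7, 6, 5, 4, 3, 2, 1, 0, 8, 3, 2, 1, 4, 3, 5, 6, 7, 9, 8, 3, 2, 4, 3, 8, 9],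
    [7, 6, 5, 4, 3, 2, 1, 0, 8, 3, 2, 1, 4, 3, 5, 6, 8, 9, 8, 3, 2, 1, 0, 4, 3],
    [7, 6, 5, 4, 3, 2, 1, 0, 8, 3, 2, 1, 4, 3, 5, 6, 8, 9, 8, 3, 2, 1, 4, 3, 5]]

/-- A part of the representatives. -/
def repsV_12 : List (List ℕ) :=
  [[7, 6, 5, 4, 3, 2, 1, 0, 8, 3, 2, 1, 4, 3, 5, 6, 8, 9, 8, 3, 2, 4, 3, 5, 6],
    [7, 6, 5, 4, 3, 2, 1, 0, 8, 3, 2, 1, 4, 3, 5, 6, 8, 9, 8, 3, 2, 4, 3, 8, 9],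
    [7, 6, 5, 4, 3, 2, 1, 0, 8, 3, 2, 1, 4, 3, 5, 6, 9, 8, 3, 2, 1, 0, 4, 3, 2],
    [7, 6, 5, 4, 3, 2, 1, 0, 8, 3, 2, 1, 4, 3, 5, 6, 9, 8, 3, 2, 1, 0, 4, 3, 5],
    [7, 6, 5, 4, 3, 2, 1, 0, 8, 3, 2, 1, 4, 3, 5, 6, 9, 8, 3, 2, 1, 4, 3, 5, 4],
    [7, 6, 5, 4, 3, 2, 1, 0, 8, 3, 2, 1, 4, 3, 5, 6, 9, 8, 3, 2, 1, 4, 3, 5, 6],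
    [7, 6, 5, 4, 3, 2, 1, 0, 8, 3, 2, 1, 4, 3, 5, 6, 9, 8, 3, 2, 1, 4, 3, 5, 8],
    [7, 6, 5, 4, 3, 2, 1, 0, 8, 3, 2, 1, 4, 3, 5, 6, 9, 8, 3, 2, 4, 3, 5, 4, 6],
    [7, 6, 5, 4, 3, 2, 1, 0, 8, 3, 2, 1, 4, 3, 5, 6, 9, 8, 3, 2, 4, 3, 5, 4, 8],
    [7, 6, 5, 4, 3, 2, 1, 0, 8, 3, 2, 1, 4, 3, 5, 8, 9, 8, 3, 2, 1, 0, 4, 3, 2],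
    [7, 6, 5, 4, 3, 2, 1, 0, 8, 3, 2, 1, 4, 3, 5, 8, 9, 8, 3, 2, 1, 4, 3, 2, 5],
    [7, 6, 5, 4, 3, 2, 1, 0, 8, 3, 2, 1, 4, 3, 5, 8, 9, 8, 3, 2, 1, 4, 3, 2, 8],
    [7, 6, 5, 4, 3, 2, 1, 0, 8, 3, 2, 1, 4, 3, 5, 8, 9, 8, 3, 2, 1, 4, 3, 5, 6],
    [7, 6, 5, 4, 3, 2, 1, 0, 8, 3, 2, 1, 4, 3, 5, 8, 9, 8, 3, 2, 1, 4, 3, 5, 8],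
    [7, 6, 5, 4, 3, 2, 1, 0, 8, 3, 2, 1, 4, 3, 5, 8, 9, 8, 3, 2, 4, 3, 5, 4, 6],
    [7, 6, 5, 4, 3, 2, 1, 0, 8, 3, 2, 1, 4, 3, 5, 9, 8, 3, 2, 1, 0, 4, 3, 2, 5],
    [7, 6, 5, 4, 3, 2, 1, 0, 8, 3, 2, 1, 4, 3, 5, 9, 8, 3, 2, 1, 0, 4, 3, 5, 4],
    [7, 6, 5, 4, 3, 2, 1, 0, 8, 3, 2, 1, 4, 3, 5, 9, 8, 3, 2, 1, 0, 4, 3, 5, 6],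
    [7, 6, 5, 4, 3, 2, 1, 0, 8, 3, 2, 1, 4, 3, 5, 9, 8, 3, 2, 1, 0, 4, 3, 8, 9],
    [7, 6, 5, 4, 3, 2, 1, 0, 8, 3, 2, 1, 4, 3, 5, 9, 8, 3, 2, 1, 4, 3, 2, 5, 8],
    [7, 6, 5, 4, 3, 2, 1, 0, 8, 3, 2, 1, 4, 3, 5, 9, 8, 3, 2, 1, 4, 3, 2, 8, 9],
    [7, 6, 5, 4, 3, 2, 1, 0, 8, 3, 2, 1, 4, 3, 5, 9, 8, 3, 2, 1, 4, 3, 5, 8, 9],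
    [7, 6, 5, 4, 3, 2, 1, 0, 8, 3, 2, 1, 4, 3, 5, 9, 8, 3, 2, 4, 3, 5, 4, 6, 7],
    [7, 6, 5, 4, 3, 2, 1, 0, 8, 3, 2, 1, 4, 3, 5, 9, 8, 3, 2, 4, 3, 5, 4, 6, 8],
    [7, 6, 5, 4, 3, 2, 1, 0, 8, 3, 2, 1, 4, 3, 5, 9, 8, 3, 2, 4, 3, 5, 4, 8, 9],
    [7, 6, 5, 4, 3, 2, 1, 0, 8, 3, 2, 1, 4, 3, 5, 9, 8, 3, 2, 4, 3, 5, 6, 7, 8],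
    [7, 6, 5, 4, 3, 2, 1, 0, 8, 3, 2, 1, 4, 3, 5, 9, 8, 3, 2, 4, 3, 5, 6, 8, 9],
    [7, 6, 5, 4, 3, 2, 1, 0, 8, 3, 2, 1, 4, 3, 8, 9, 8, 3, 2, 1, 0, 4, 3, 5, 4],
    [7, 6, 5, 4, 3, 2, 1, 0, 8, 3, 2, 1, 4, 3, 8, 9, 8, 3, 2, 1, 4, 3, 2, 5, 4],
    [7, 6, 5, 4, 3, 2, 1, 0, 8, 3, 2, 1, 4, 3, 8, 9, 8, 3, 2, 1, 4, 3, 5, 4, 8],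
    [7, 6, 5, 4, 3, 2, 1, 0, 8, 3, 2, 1, 4, 3, 8, 9, 8, 3, 2, 1, 4, 3, 5, 6, 7],
    [7, 6, 5, 4, 3, 2, 1, 0, 8, 3, 2, 1, 4, 3, 8, 9, 8, 3, 2, 1, 4, 3, 5, 6, 8],
    [7, 6, 5, 4, 3, 2, 1, 0, 8, 3, 2, 1, 4, 3, 8, 9, 8, 3, 2, 4, 3, 5, 4, 6, 7],
    [7, 6, 5, 4, 3, 2, 1, 0, 8, 3, 2, 1, 4, 3, 8, 9, 8, 3, 2, 4, 3, 5, 4, 6, 8],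
    [7, 6, 5, 4, 3, 2, 1, 0, 8, 3, 2, 1, 4, 3, 8, 9, 8, 3, 2, 4, 3, 5, 4, 8, 9],
    [7, 6, 5, 4, 3, 2, 1, 0, 8, 3, 2, 1, 4, 3, 9, 8, 3, 2, 1, 0, 4, 3, 2, 5, 6],
    [7, 6, 5, 4, 3, 2, 1, 0, 8, 3, 2, 1, 4, 3, 9, 8, 3, 2, 1, 0, 4, 3, 5, 4, 8],
    [7, 6, 5, 4, 3, 2, 1, 0, 8, 3, 2, 1, 4, 3, 9, 8, 3, 2, 1, 4, 3, 2, 5, 4, 8],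
    [7, 6, 5, 4, 3, 2, 1, 0, 8, 3, 2, 1, 4, 3, 9, 8, 3, 2, 1, 4, 3, 2, 5, 6, 7],
    [7, 6, 5, 4, 3, 2, 1, 0, 8, 3, 2, 1, 4, 3, 9, 8, 3, 2, 1, 4, 3, 5, 4, 6, 7],
    [7, 6, 5, 4, 3, 2, 1, 0, 8, 3, 2, 1, 4, 3, 9, 8, 3, 2, 1, 4, 3, 5, 4, 6, 8],
    [7, 6, 5, 4, 3, 2, 1, 0, 8, 3, 2, 1, 4, 3, 9, 8, 3, 2, 1, 4, 3, 5, 4, 8, 9],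
    [7, 6, 5, 4, 3, 2, 1, 0, 8, 3, 2, 1, 4, 3, 9, 8, 3, 2, 4, 3, 5, 4, 6, 5, 7],
    [7, 6, 5, 4, 3, 2, 1, 0, 8, 3, 2, 1, 4, 3, 9, 8, 3, 2, 4, 3, 5, 4, 6, 5, 8],
    [7, 6, 5, 4, 3, 2, 1, 0, 8, 3, 2, 1, 4, 3, 9, 8, 3, 2, 4, 3, 5, 4, 6, 8, 3],
    [7, 6, 5, 4, 3, 2, 1, 0, 8, 3, 2, 1, 4, 3, 9, 8, 3, 2, 4, 3, 5, 6, 7, 8, 9],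
    [7, 6, 5, 4, 3, 2, 1, 0, 8, 3, 2, 1, 4, 5, 6, 7, 9, 8, 3, 2, 1, 4, 3, 5, 6],
    [7, 6, 5, 4, 3, 2, 1, 0, 8, 3, 2, 1, 4, 5, 6, 7, 9, 8, 3, 2, 4, 3, 5, 4, 6],
    [7, 6, 5, 4, 3, 2, 1, 0, 8, 3, 2, 1, 4, 5, 6, 7, 9, 8, 3, 2, 4, 3, 5, 6, 7],
    [7, 6, 5, 4, 3, 2, 1, 0, 8, 3, 2, 1, 4, 5, 6, 9, 8, 3, 2, 1, 0, 4, 3, 5, 4],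
    [7, 6, 5, 4, 3, 2, 1, 0, 8, 3, 2, 1, 4, 5, 6, 9, 8, 3, 2, 1, 0, 4, 3, 5, 8],
    [7, 6, 5, 4, 3, 2, 1, 0, 8, 3, 2, 1, 4, 5, 6, 9, 8, 3, 2, 1, 0, 4, 3, 8, 9],
    [7, 6, 5, 4, 3, 2, 1, 0, 8, 3, 2, 1, 4, 5, 6, 9, 8, 3, 2, 1, 4, 3, 2, 5, 6],
    [7, 6, 5, 4, 3, 2, 1, 0, 8, 3, 2, 1, 4, 5, 6, 9, 8, 3, 2, 1, 4, 3, 5, 4, 6],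
    [7, 6, 5, 4, 3, 2, 1, 0, 8, 3, 2, 1, 4, 5, 6, 9, 8, 3, 2, 1, 4, 3, 5, 4, 8],
    [7, 6, 5, 4, 3, 2, 1, 0, 8, 3, 2, 1, 4, 5, 6, 9, 8, 3, 2, 1, 4, 3, 5, 6, 7],
    [7, 6, 5, 4, 3, 2, 1, 0, 8, 3, 2, 1, 4, 5, 6, 9, 8, 3, 2, 4, 3, 5, 4, 6, 5],
    [7, 6, 5, 4, 3, 2, 1, 0, 8, 3, 2, 1, 4, 5, 6, 9, 8, 3, 2, 4, 3, 5, 4, 6, 7],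
    [7, 6, 5, 4, 3, 2, 1, 0, 8, 3, 2, 1, 4, 5, 6, 9, 8, 3, 2, 4, 3, 5, 4, 8, 9],
    [7, 6, 5, 4, 3, 2, 1, 0, 8, 3, 2, 1, 4, 5, 6, 9, 8, 3, 2, 4, 3, 5, 6, 8, 9],
    [7, 6, 5, 4, 3, 2, 1, 0, 8, 3, 2, 1, 4, 5, 9, 8, 3, 2, 1, 0, 4, 3, 2, 5, 4],
    [7, 6, 5, 4, 3, 2, 1, 0, 8, 3, 2, 1, 4, 5, 9, 8, 3, 2, 1, 0, 4, 3, 2, 8, 9],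
    [7, 6, 5, 4, 3, 2, 1, 0, 8, 3, 2, 1, 4, 5, 9, 8, 3, 2, 1, 4, 3, 2, 5, 4, 8],
    [7, 6, 5, 4, 3, 2, 1, 0, 8, 3, 2, 1, 4, 5, 9, 8, 3, 2, 1, 4, 3, 2, 5, 6, 7],
    [7, 6, 5, 4, 3, 2, 1, 0, 8, 3, 2, 1, 4, 5, 9, 8, 3, 2, 1, 4, 3, 5, 4, 6, 7],
    [7, 6, 5, 4, 3, 2, 1, 0, 8, 3, 2, 1, 4, 5, 9, 8, 3, 2, 1, 4, 3, 5, 6, 7, 8],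
    [7, 6, 5, 4, 3, 2, 1, 0, 8, 3, 2, 1, 4, 5, 9, 8, 3, 2, 1, 4, 3, 5, 6, 8, 9],
    [7, 6, 5, 4, 3, 2, 1, 0, 8, 3, 2, 1, 4, 5, 9, 8, 3, 2, 4, 3, 5, 4, 6, 5, 8],
    [7, 6, 5, 4, 3, 2, 1, 0, 8, 3, 2, 1, 4, 5, 9, 8, 3, 2, 4, 3, 5, 4, 8, 3, 2],
    [7, 6, 5, 4, 3, 2, 1, 0, 8, 3, 2, 1, 4, 9, 8, 3, 2, 1, 0, 4, 3, 5, 4, 6, 5],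
    [7, 6, 5, 4, 3, 2, 1, 0, 8, 3, 2, 1, 4, 9, 8, 3, 2, 1, 0, 4, 3, 5, 4, 6, 7],
    [7, 6, 5, 4, 3, 2, 1, 0, 8, 3, 2, 1, 4, 9, 8, 3, 2, 1, 0, 4, 3, 5, 4, 8, 9],
    [7, 6, 5, 4, 3, 2, 1, 0, 8, 3, 2, 1, 4, 9, 8, 3, 2, 1, 0, 4, 3, 5, 6, 7, 8],
    [7, 6, 5, 4, 3, 2, 1, 0, 8, 3, 2, 1, 4, 9, 8, 3, 2, 1, 4, 3, 5, 4, 6, 8, 9],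
    [7, 6, 5, 4, 3, 2, 1, 0, 8, 3, 2, 1, 4, 9, 8, 3, 2, 1, 4, 3, 5, 4, 8, 3, 2],
    [7, 6, 5, 4, 3, 2, 1, 0, 8, 3, 2, 1, 4, 9, 8, 3, 2, 1, 4, 3, 5, 6, 7, 8, 9],
    [7, 6, 5, 4, 3, 2, 1, 0, 8, 3, 2, 1, 4, 9, 8, 3, 2, 4, 3, 5, 4, 6, 5, 7, 8],
    [7, 6, 5, 4, 3, 2, 1, 0, 8, 3, 2, 1, 4, 9, 8, 3, 2, 4, 3, 5, 4, 6, 5, 8, 3],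
    [7, 6, 5, 4, 3, 2, 1, 0, 8, 3, 2, 1, 4, 9, 8, 3, 2, 4, 3, 5, 4, 6, 5, 8, 9],
    [7, 6, 5, 4, 3, 2, 1, 0, 8, 3, 2, 1, 4, 9, 8, 3, 2, 4, 3, 5, 4, 6, 7, 8, 3],
    [7, 6, 5, 4, 3, 2, 1, 0, 8, 3, 2, 1, 4, 9, 8, 3, 2, 4, 3, 5, 4, 8, 3, 2, 1],
    [7, 6, 5, 4, 3, 2, 1, 0, 8, 3, 2, 1, 4, 9, 8, 3, 2, 4, 3, 5, 4, 8, 3, 9, 8],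
    [7, 6, 5, 4, 3, 2, 1, 0, 8, 3, 2, 1, 9, 8, 3, 2, 4, 3, 5, 4, 8, 3, 2, 1, 0],
    [7, 6, 5, 4, 3, 2, 1, 0, 8, 3, 2, 4, 3, 5, 4, 6, 5, 7, 6, 9, 8, 3, 2, 4, 3],
    [7, 6, 5, 4, 3, 2, 1, 0, 8, 3, 2, 4, 3, 5, 4, 6, 5, 7, 8, 3, 9, 8, 3, 4, 5],
    [7, 6, 5, 4, 3, 2, 1, 0, 8, 3, 2, 4, 3, 5, 4, 6, 5, 8, 3, 9, 8, 3, 4, 5, 6],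
    [7, 6, 5, 4, 3, 2, 1, 0, 8, 3, 2, 4, 3, 5, 4, 6, 5, 8, 9, 8, 3, 4, 5, 6, 7],
    [7, 6, 5, 4, 3, 2, 1, 0, 8, 3, 2, 4, 3, 5, 4, 6, 5, 9, 8, 3, 2, 4, 3, 5, 4],
    [7, 6, 5, 4, 3, 2, 1, 0, 8, 3, 2, 4, 3, 5, 4, 6, 5, 9, 8, 3, 2, 4, 5, 6, 7],
    [7, 6, 5, 4, 3, 2, 1, 0, 8, 3, 2, 4, 3, 5, 4, 6, 7, 8, 9, 8, 3, 4, 5, 6, 7],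
    [7, 6, 5, 4, 3, 2, 1, 0, 8, 3, 2, 4, 3, 5, 4, 6, 7, 9, 8, 3, 2, 4, 3, 8, 9],
    [7, 6, 5, 4, 3, 2, 1, 0, 8, 3, 2, 4, 3, 5, 4, 6, 7, 9, 8, 3, 2, 4, 5, 6, 7],
    [7, 6, 5, 4, 3, 2, 1, 0, 8, 3, 2, 4, 3, 5, 4, 6, 8, 9, 8, 3, 2, 4, 3, 5, 4],
    [7, 6, 5, 4, 3, 2, 1, 0, 8, 3, 2, 4, 3, 5, 4, 6, 8, 9, 8, 3, 2, 4, 3, 5, 6],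
    [7, 6, 5, 4, 3, 2, 1, 0, 8, 3, 2, 4, 3, 5, 4, 6, 9, 8, 3, 2, 4, 3, 5, 4, 6],
    [7, 6, 5, 4, 3, 2, 1, 0, 8, 3, 2, 4, 3, 5, 4, 6, 9, 8, 3, 2, 4, 3, 5, 6, 7],
    [7, 6, 5, 4, 3, 2, 1, 0, 8, 3, 2, 4, 3, 5, 4, 6, 9, 8, 3, 2, 4, 3, 5, 8, 9],
    [7, 6, 5, 4, 3, 2, 1, 0, 8, 3, 2, 4, 3, 5, 4, 8, 9, 8, 3, 2, 4, 3, 5, 4, 6],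
    [7, 6, 5, 4, 3, 2, 1, 0, 8, 3, 2, 4, 3, 5, 4, 9, 8, 3, 2, 4, 3, 5, 4, 6, 7],
    [7, 6, 5, 4, 3, 2, 1, 0, 8, 3, 2, 4, 3, 5, 4, 9, 8, 3, 2, 4, 3, 5, 6, 7, 8],
    [7, 6, 5, 4, 3, 2, 1, 0, 8, 3, 2, 4, 3, 5, 6, 8, 9, 8, 3, 2, 4, 3, 5, 4, 8],
    [7, 6, 5, 4, 3, 2, 1, 0, 8, 3, 2, 4, 3, 5, 6, 8, 9, 8, 3, 2, 4, 3, 5, 6, 8],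
    [7, 6, 5, 4, 3, 2, 1, 0, 8, 3, 2, 4, 3, 5, 6, 8, 9, 8, 3, 2, 4, 3, 5, 8, 9],
    [7, 6, 5, 4, 3, 2, 1, 0, 8, 3, 2, 4, 3, 5, 6, 9, 8, 3, 2, 1, 4, 3, 2, 8, 3],
    [7, 6, 5, 4, 3, 2, 1, 0, 8, 3, 2, 4, 3, 5, 8, 9, 8, 3, 2, 1, 4, 3, 5, 6, 7],
    [7, 6, 5, 4, 3, 2, 1, 0, 8, 3, 2, 4, 3, 5, 8, 9, 8, 3, 2, 4, 3, 5, 4, 6, 7],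
    [7, 6, 5, 4, 3, 2, 1, 0, 8, 3, 2, 4, 3, 5, 8, 9, 8, 3, 2, 4, 3, 5, 4, 8, 9],
    [7, 6, 5, 4, 3, 2, 1, 0, 8, 3, 2, 4, 3, 5, 8, 9, 8, 3, 2, 4, 3, 5, 6, 7, 8],
    [7, 6, 5, 4, 3, 2, 1, 0, 8, 3, 2, 4, 3, 5, 8, 9, 8, 3, 2, 4, 3, 5, 6, 8, 9],
    [7, 6, 5, 4, 3, 2, 1, 0, 8, 3, 2, 4, 3, 5, 9, 8, 3, 2, 1, 4, 3, 2, 5, 8, 3],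
    [7, 6, 5, 4, 3, 2, 1, 0, 8, 3, 2, 4, 3, 5, 9, 8, 3, 2, 1, 4, 3, 2, 8, 3, 4],
    [7, 6, 5, 4, 3, 2, 1, 0, 8, 3, 2, 4, 3, 5, 9, 8, 3, 2, 4, 3, 5, 6, 7, 8, 9],
    [7, 6, 5, 4, 3, 2, 1, 0, 8, 3, 2, 4, 3, 9, 8, 3, 2, 1, 4, 3, 2, 5, 4, 3, 6],
    [7, 6, 5, 4, 3, 2, 1, 0, 8, 3, 2, 4, 5, 6, 7, 9, 8, 3, 2, 1, 4, 3, 2, 8, 3],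
    [7, 6, 5, 4, 3, 2, 1, 0, 8, 3, 2, 4, 5, 6, 9, 8, 3, 2, 1, 4, 3, 2, 5, 4, 3],
    [7, 6, 5, 4, 3, 2, 1, 0, 8, 3, 2, 4, 5, 6, 9, 8, 3, 2, 1, 4, 3, 2, 5, 8, 3],
    [7, 6, 5, 4, 3, 2, 1, 0, 8, 3, 2, 4, 5, 6, 9, 8, 3, 2, 4, 3, 5, 4, 6, 8, 9],
    [7, 6, 5, 4, 3, 2, 1, 0, 8, 3, 2, 4, 5, 9, 8, 3, 2, 1, 4, 3, 2, 5, 6, 8, 3],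
    [7, 6, 5, 4, 3, 2, 1, 0, 8, 3, 2, 4, 5, 9, 8, 3, 2, 1, 4, 3, 2, 5, 8, 3, 4],
    [7, 6, 5, 4, 3, 2, 1, 0, 8, 3, 2, 4, 5, 9, 8, 3, 2, 1, 4, 3, 2, 8, 3, 4, 5],
    [7, 6, 5, 4, 3, 2, 1, 0, 8, 3, 4, 5, 6, 7, 9, 8, 3, 2, 1, 4, 3, 2, 5, 8, 3],
    [7, 6, 5, 4, 3, 2, 1, 0, 8, 3, 4, 5, 6, 9, 8, 3, 2, 1, 4, 3, 2, 5, 8, 3, 4],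
    [7, 6, 5, 4, 3, 2, 1, 8, 3, 2, 4, 3, 5, 4, 6, 5, 8, 9, 8, 3, 2, 4, 5, 6, 7],
    [7, 6, 5, 4, 3, 2, 1, 8, 3, 2, 4, 3, 5, 4, 6, 5, 9, 8, 3, 2, 1, 4, 3, 5, 8],
    [7, 6, 5, 4, 3, 2, 1, 8, 3, 2, 4, 3, 5, 4, 6, 8, 9, 8, 3, 2, 4, 3, 5, 4, 6],
    [7, 6, 5, 4, 3, 2, 1, 8, 3, 2, 4, 3, 5, 6, 8, 9, 8, 3, 2, 1, 0, 4, 3, 5, 4],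
    [7, 6, 5, 4, 3, 2, 1, 8, 3, 2, 4, 3, 5, 6, 8, 9, 8, 3, 2, 1, 0, 4, 3, 5, 6],
    [7, 6, 5, 4, 3, 2, 1, 8, 3, 2, 4, 3, 5, 6, 8, 9, 8, 3, 2, 1, 0, 4, 5, 6, 7]]

/-- A part of the representatives. -/
def repsV_13 : List (List ℕ) :=
  [[7, 6, 5, 4, 3, 2, 1, 8, 3, 2, 4, 3, 5, 6, 9, 8, 3, 2, 1, 0, 4, 3, 5, 4, 6],
    [7, 6, 5, 4, 3, 2, 1, 8, 3, 2, 4, 3, 5, 9, 8, 3, 2, 1, 0, 4, 3, 5, 4, 6, 5],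
    [7, 6, 5, 4, 3, 2, 1, 8, 3, 2, 4, 3, 5, 9, 8, 3, 2, 1, 0, 4, 3, 5, 4, 6, 7],
    [7, 6, 5, 4, 3, 2, 1, 8, 3, 2, 4, 3, 8, 9, 8, 3, 2, 1, 0, 4, 3, 2, 5, 4, 6],
    [7, 6, 5, 4, 3, 2, 1, 8, 3, 2, 4, 3, 8, 9, 8, 3, 2, 1, 0, 4, 3, 2, 5, 6, 7],
    [7, 6, 5, 4, 3, 2, 1, 8, 3, 2, 4, 3, 8, 9, 8, 3, 2, 1, 0, 4, 3, 5, 4, 6, 7],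
    [7, 6, 5, 4, 3, 2, 1, 8, 3, 2, 4, 3, 8, 9, 8, 3, 2, 1, 4, 3, 2, 5, 6, 7, 8],
    [7, 6, 5, 4, 3, 2, 1, 8, 3, 2, 4, 3, 8, 9, 8, 3, 2, 1, 4, 3, 2, 5, 6, 8, 3],
    [7, 6, 5, 4, 3, 2, 1, 8, 3, 2, 4, 5, 6, 9, 8, 3, 2, 1, 0, 4, 3, 5, 4, 6, 7],
    [7, 6, 5, 4, 3, 2, 1, 0, 8, 3, 2, 1, 4, 3, 2, 5, 4, 3, 6, 5, 4, 9, 8, 3, 2, 1],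
    [7, 6, 5, 4, 3, 2, 1, 0, 8, 3, 2, 1, 4, 3, 2, 5, 4, 3, 6, 5, 9, 8, 3, 2, 1, 0],
    [7, 6, 5, 4, 3, 2, 1, 0, 8, 3, 2, 1, 4, 3, 2, 5, 4, 3, 6, 5, 9, 8, 3, 2, 1, 4],
    [7, 6, 5, 4, 3, 2, 1, 0, 8, 3, 2, 1, 4, 3, 2, 5, 4, 3, 6, 9, 8, 3, 2, 1, 0, 4],
    [7, 6, 5, 4, 3, 2, 1, 0, 8, 3, 2, 1, 4, 3, 2, 5, 4, 3, 6, 9, 8, 3, 2, 1, 4, 5],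
    [7, 6, 5, 4, 3, 2, 1, 0, 8, 3, 2, 1, 4, 3, 2, 5, 4, 3, 9, 8, 3, 2, 1, 0, 4, 5],
    [7, 6, 5, 4, 3, 2, 1, 0, 8, 3, 2, 1, 4, 3, 2, 5, 4, 3, 9, 8, 3, 2, 1, 4, 3, 2],
    [7, 6, 5, 4, 3, 2, 1, 0, 8, 3, 2, 1, 4, 3, 2, 5, 4, 3, 9, 8, 3, 2, 1, 4, 3, 5],
    [7, 6, 5, 4, 3, 2, 1, 0, 8, 3, 2, 1, 4, 3, 2, 5, 4, 3, 9, 8, 3, 2, 4, 3, 5, 4],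
    [7, 6, 5, 4, 3, 2, 1, 0, 8, 3, 2, 1, 4, 3, 2, 5, 4, 3, 9, 8, 3, 2, 4, 3, 5, 6],
    [7, 6, 5, 4, 3, 2, 1, 0, 8, 3, 2, 1, 4, 3, 2, 5, 4, 6, 5, 7, 8, 9, 8, 3, 2, 4],
    [7, 6, 5, 4, 3, 2, 1, 0, 8, 3, 2, 1, 4, 3, 2, 5, 4, 6, 5, 7, 9, 8, 3, 4, 5, 6],
    [7, 6, 5, 4, 3, 2, 1, 0, 8, 3, 2, 1, 4, 3, 2, 5, 4, 6, 5, 8, 9, 8, 3, 2, 1, 4],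
    [7, 6, 5, 4, 3, 2, 1, 0, 8, 3, 2, 1, 4, 3, 2, 5, 4, 6, 5, 9, 8, 3, 2, 1, 0, 4],
    [7, 6, 5, 4, 3, 2, 1, 0, 8, 3, 2, 1, 4, 3, 2, 5, 4, 6, 5, 9, 8, 3, 2, 4, 3, 5],
    [7, 6, 5, 4, 3, 2, 1, 0, 8, 3, 2, 1, 4, 3, 2, 5, 4, 6, 5, 9, 8, 3, 2, 4, 3, 8],
    [7, 6, 5, 4, 3, 2, 1, 0, 8, 3, 2, 1, 4, 3, 2, 5, 4, 6, 7, 8, 9, 8, 3, 2, 4, 5],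
    [7, 6, 5, 4, 3, 2, 1, 0, 8, 3, 2, 1, 4, 3, 2, 5, 4, 6, 7, 9, 8, 3, 4, 5, 6, 7],
    [7, 6, 5, 4, 3, 2, 1, 0, 8, 3, 2, 1, 4, 3, 2, 5, 4, 6, 9, 8, 3, 2, 1, 0, 4, 3],
    [7, 6, 5, 4, 3, 2, 1, 0, 8, 3, 2, 1, 4, 3, 2, 5, 4, 6, 9, 8, 3, 2, 1, 0, 4, 5],
    [7, 6, 5, 4, 3, 2, 1, 0, 8, 3, 2, 1, 4, 3, 2, 5, 4, 6, 9, 8, 3, 2, 1, 4, 3, 2],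
    [7, 6, 5, 4, 3, 2, 1, 0, 8, 3, 2, 1, 4, 3, 2, 5, 4, 6, 9, 8, 3, 2, 4, 3, 8, 9],
    [7, 6, 5, 4, 3, 2, 1, 0, 8, 3, 2, 1, 4, 3, 2, 5, 4, 8, 9, 8, 3, 2, 4, 3, 5, 4],
    [7, 6, 5, 4, 3, 2, 1, 0, 8, 3, 2, 1, 4, 3, 2, 5, 4, 9, 8, 3, 2, 1, 0, 4, 3, 2],
    [7, 6, 5, 4, 3, 2, 1, 0, 8, 3, 2, 1, 4, 3, 2, 5, 4, 9, 8, 3, 2, 1, 0, 4, 3, 5],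
    [7, 6, 5, 4, 3, 2, 1, 0, 8, 3, 2, 1, 4, 3, 2, 5, 4, 9, 8, 3, 2, 1, 0, 4, 5, 6],
    [7, 6, 5, 4, 3, 2, 1, 0, 8, 3, 2, 1, 4, 3, 2, 5, 4, 9, 8, 3, 2, 1, 4, 3, 2, 8],
    [7, 6, 5, 4, 3, 2, 1, 0, 8, 3, 2, 1, 4, 3, 2, 5, 4, 9, 8, 3, 2, 1, 4, 3, 5, 8],
    [7, 6, 5, 4, 3, 2, 1, 0, 8, 3, 2, 1, 4, 3, 2, 5, 4, 9, 8, 3, 2, 4, 3, 5, 6, 7],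
    [7, 6, 5, 4, 3, 2, 1, 0, 8, 3, 2, 1, 4, 3, 2, 5, 6, 7, 8, 9, 8, 3, 2, 1, 4, 5],
    [7, 6, 5, 4, 3, 2, 1, 0, 8, 3, 2, 1, 4, 3, 2, 5, 6, 7, 9, 8, 3, 2, 1, 4, 3, 5],
    [7, 6, 5, 4, 3, 2, 1, 0, 8, 3, 2, 1, 4, 3, 2, 5, 6, 7, 9, 8, 3, 2, 4, 3, 5, 6],
    [7, 6, 5, 4, 3, 2, 1, 0, 8, 3, 2, 1, 4, 3, 2, 5, 6, 8, 3, 9, 8, 3, 2, 1, 0, 4],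
    [7, 6, 5, 4, 3, 2, 1, 0, 8, 3, 2, 1, 4, 3, 2, 5, 6, 8, 9, 8, 3, 2, 1, 0, 4, 3],
    [7, 6, 5, 4, 3, 2, 1, 0, 8, 3, 2, 1, 4, 3, 2, 5, 6, 8, 9, 8, 3, 2, 1, 4, 3, 5],
    [7, 6, 5, 4, 3, 2, 1, 0, 8, 3, 2, 1, 4, 3, 2, 5, 6, 8, 9, 8, 3, 2, 4, 3, 8, 9],
    [7, 6, 5, 4, 3, 2, 1, 0, 8, 3, 2, 1, 4, 3, 2, 5, 6, 8, 9, 8, 3, 2, 4, 5, 6, 7],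
    [7, 6, 5, 4, 3, 2, 1, 0, 8, 3, 2, 1, 4, 3, 2, 5, 6, 9, 8, 3, 2, 1, 0, 4, 3, 2],
    [7, 6, 5, 4, 3, 2, 1, 0, 8, 3, 2, 1, 4, 3, 2, 5, 6, 9, 8, 3, 2, 1, 0, 4, 3, 5],
    [7, 6, 5, 4, 3, 2, 1, 0, 8, 3, 2, 1, 4, 3, 2, 5, 6, 9, 8, 3, 2, 1, 4, 3, 5, 4],
    [7, 6, 5, 4, 3, 2, 1, 0, 8, 3, 2, 1, 4, 3, 2, 5, 6, 9, 8, 3, 2, 1, 4, 3, 5, 8],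
    [7, 6, 5, 4, 3, 2, 1, 0, 8, 3, 2, 1, 4, 3, 2, 5, 6, 9, 8, 3, 2, 4, 3, 5, 4, 8],
    [7, 6, 5, 4, 3, 2, 1, 0, 8, 3, 2, 1, 4, 3, 2, 5, 6, 9, 8, 3, 2, 4, 3, 5, 6, 7],
    [7, 6, 5, 4, 3, 2, 1, 0, 8, 3, 2, 1, 4, 3, 2, 5, 8, 3, 9, 8, 3, 2, 1, 0, 4, 5],
    [7, 6, 5, 4, 3, 2, 1, 0, 8, 3, 2, 1, 4, 3, 2, 5, 8, 3, 9, 8, 3, 2, 1, 4, 3, 2],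
    [7, 6, 5, 4, 3, 2, 1, 0, 8, 3, 2, 1, 4, 3, 2, 5, 8, 9, 8, 3, 2, 1, 0, 4, 3, 2],
    [7, 6, 5, 4, 3, 2, 1, 0, 8, 3, 2, 1, 4, 3, 2, 5, 8, 9, 8, 3, 2, 1, 0, 4, 5, 6],
    [7, 6, 5, 4, 3, 2, 1, 0, 8, 3, 2, 1, 4, 3, 2, 5, 8, 9, 8, 3, 2, 1, 4, 3, 2, 5],
    [7, 6, 5, 4, 3, 2, 1, 0, 8, 3, 2, 1, 4, 3, 2, 5, 8, 9, 8, 3, 2, 1, 4, 3, 8, 9],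
    [7, 6, 5, 4, 3, 2, 1, 0, 8, 3, 2, 1, 4, 3, 2, 5, 8, 9, 8, 3, 2, 4, 3, 5, 6, 7],
    [7, 6, 5, 4, 3, 2, 1, 0, 8, 3, 2, 1, 4, 3, 2, 5, 9, 8, 3, 2, 1, 0, 4, 3, 2, 1],
    [7, 6, 5, 4, 3, 2, 1, 0, 8, 3, 2, 1, 4, 3, 2, 5, 9, 8, 3, 2, 1, 0, 4, 3, 8, 9],
    [7, 6, 5, 4, 3, 2, 1, 0, 8, 3, 2, 1, 4, 3, 2, 5, 9, 8, 3, 2, 1, 0, 4, 5, 6, 7],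
    [7, 6, 5, 4, 3, 2, 1, 0, 8, 3, 2, 1, 4, 3, 2, 5, 9, 8, 3, 2, 1, 4, 3, 2, 8, 9],
    [7, 6, 5, 4, 3, 2, 1, 0, 8, 3, 2, 1, 4, 3, 2, 5, 9, 8, 3, 2, 1, 4, 3, 5, 4, 6],
    [7, 6, 5, 4, 3, 2, 1, 0, 8, 3, 2, 1, 4, 3, 2, 5, 9, 8, 3, 2, 1, 4, 3, 5, 4, 8],
    [7, 6, 5, 4, 3, 2, 1, 0, 8, 3, 2, 1, 4, 3, 2, 5, 9, 8, 3, 2, 1, 4, 3, 5, 6, 7],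
    [7, 6, 5, 4, 3, 2, 1, 0, 8, 3, 2, 1, 4, 3, 2, 5, 9, 8, 3, 2, 1, 4, 3, 5, 8, 9],
    [7, 6, 5, 4, 3, 2, 1, 0, 8, 3, 2, 1, 4, 3, 2, 8, 3, 9, 8, 3, 2, 1, 4, 5, 6, 7],
    [7, 6, 5, 4, 3, 2, 1, 0, 8, 3, 2, 1, 4, 3, 2, 8, 9, 8, 3, 2, 1, 0, 4, 3, 5, 4],
    [7, 6, 5, 4, 3, 2, 1, 0, 8, 3, 2, 1, 4, 3, 2, 8, 9, 8, 3, 2, 1, 0, 4, 5, 6, 7],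
    [7, 6, 5, 4, 3, 2, 1, 0, 8, 3, 2, 1, 4, 3, 2, 8, 9, 8, 3, 2, 1, 4, 3, 5, 4, 8],
    [7, 6, 5, 4, 3, 2, 1, 0, 8, 3, 2, 1, 4, 3, 2, 9, 8, 3, 2, 1, 0, 4, 3, 2, 5, 4],
    [7, 6, 5, 4, 3, 2, 1, 0, 8, 3, 2, 1, 4, 3, 2, 9, 8, 3, 2, 1, 0, 4, 3, 5, 4, 6],
    [7, 6, 5, 4, 3, 2, 1, 0, 8, 3, 2, 1, 4, 3, 2, 9, 8, 3, 2, 1, 0, 4, 3, 5, 4, 8],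
    [7, 6, 5, 4, 3, 2, 1, 0, 8, 3, 2, 1, 4, 3, 2, 9, 8, 3, 2, 1, 4, 3, 2, 5, 6, 7],
    [7, 6, 5, 4, 3, 2, 1, 0, 8, 3, 2, 1, 4, 3, 2, 9, 8, 3, 2, 4, 3, 5, 4, 6, 8, 3],
    [7, 6, 5, 4, 3, 2, 1, 0, 8, 3, 2, 1, 4, 3, 2, 9, 8, 3, 2, 4, 3, 5, 4, 8, 3, 2],
    [7, 6, 5, 4, 3, 2, 1, 0, 8, 3, 2, 1, 4, 3, 5, 4, 6, 5, 9, 8, 3, 2, 1, 0, 4, 3],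
    [7, 6, 5, 4, 3, 2, 1, 0, 8, 3, 2, 1, 4, 3, 5, 4, 6, 5, 9, 8, 3, 2, 1, 4, 3, 2],
    [7, 6, 5, 4, 3, 2, 1, 0, 8, 3, 2, 1, 4, 3, 5, 4, 6, 5, 9, 8, 3, 2, 1, 4, 3, 5],
    [7, 6, 5, 4, 3, 2, 1, 0, 8, 3, 2, 1, 4, 3, 5, 4, 6, 5, 9, 8, 3, 2, 4, 3, 5, 4],
    [7, 6, 5, 4, 3, 2, 1, 0, 8, 3, 2, 1, 4, 3, 5, 4, 6, 7, 8, 9, 8, 3, 2, 4, 3, 5],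
    [7, 6, 5, 4, 3, 2, 1, 0, 8, 3, 2, 1, 4, 3, 5, 4, 6, 7, 9, 8, 3, 2, 1, 4, 3, 5],
    [7, 6, 5, 4, 3, 2, 1, 0, 8, 3, 2, 1, 4, 3, 5, 4, 6, 8, 9, 8, 3, 2, 1, 4, 3, 2],
    [7, 6, 5, 4, 3, 2, 1, 0, 8, 3, 2, 1, 4, 3, 5, 4, 6, 8, 9, 8, 3, 2, 4, 3, 5, 4],
    [7, 6, 5, 4, 3, 2, 1, 0, 8, 3, 2, 1, 4, 3, 5, 4, 6, 8, 9, 8, 3, 2, 4, 3, 5, 6],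
    [7, 6, 5, 4, 3, 2, 1, 0, 8, 3, 2, 1, 4, 3, 5, 4, 6, 8, 9, 8, 3, 2, 4, 3, 8, 9],
    [7, 6, 5, 4, 3, 2, 1, 0, 8, 3, 2, 1, 4, 3, 5, 4, 6, 9, 8, 3, 2, 1, 0, 4, 3, 2],
    [7, 6, 5, 4, 3, 2, 1, 0, 8, 3, 2, 1, 4, 3, 5, 4, 6, 9, 8, 3, 2, 1, 0, 4, 3, 8],
    [7, 6, 5, 4, 3, 2, 1, 0, 8, 3, 2, 1, 4, 3, 5, 4, 6, 9, 8, 3, 2, 1, 4, 3, 5, 4],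
    [7, 6, 5, 4, 3, 2, 1, 0, 8, 3, 2, 1, 4, 3, 5, 4, 6, 9, 8, 3, 2, 4, 3, 5, 4, 6],
    [7, 6, 5, 4, 3, 2, 1, 0, 8, 3, 2, 1, 4, 3, 5, 4, 6, 9, 8, 3, 2, 4, 3, 5, 6, 7],
    [7, 6, 5, 4, 3, 2, 1, 0, 8, 3, 2, 1, 4, 3, 5, 4, 8, 3, 9, 8, 3, 2, 4, 3, 5, 4],
    [7, 6, 5, 4, 3, 2, 1, 0, 8, 3, 2, 1, 4, 3, 5, 4, 8, 3, 9, 8, 3, 2, 4, 3, 5, 6],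
    [7, 6, 5, 4, 3, 2, 1, 0, 8, 3, 2, 1, 4, 3, 5, 4, 8, 9, 8, 3, 2, 1, 4, 3, 5, 4],
    [7, 6, 5, 4, 3, 2, 1, 0, 8, 3, 2, 1, 4, 3, 5, 4, 8, 9, 8, 3, 2, 1, 4, 3, 5, 6],
    [7, 6, 5, 4, 3, 2, 1, 0, 8, 3, 2, 1, 4, 3, 5, 4, 8, 9, 8, 3, 2, 1, 4, 3, 5, 8],
    [7, 6, 5, 4, 3, 2, 1, 0, 8, 3, 2, 1, 4, 3, 5, 4, 8, 9, 8, 3, 2, 4, 3, 5, 4, 6],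
    [7, 6, 5, 4, 3, 2, 1, 0, 8, 3, 2, 1, 4, 3, 5, 4, 8, 9, 8, 3, 2, 4, 3, 5, 4, 8],
    [7, 6, 5, 4, 3, 2, 1, 0, 8, 3, 2, 1, 4, 3, 5, 4, 8, 9, 8, 3, 2, 4, 3, 5, 8, 9],
    [7, 6, 5, 4, 3, 2, 1, 0, 8, 3, 2, 1, 4, 3, 5, 4, 9, 8, 3, 2, 1, 0, 4, 3, 2, 5],
    [7, 6, 5, 4, 3, 2, 1, 0, 8, 3, 2, 1, 4, 3, 5, 4, 9, 8, 3, 2, 1, 0, 4, 3, 5, 4],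
    [7, 6, 5, 4, 3, 2, 1, 0, 8, 3, 2, 1, 4, 3, 5, 4, 9, 8, 3, 2, 1, 0, 4, 3, 5, 6],
    [7, 6, 5, 4, 3, 2, 1, 0, 8, 3, 2, 1, 4, 3, 5, 4, 9, 8, 3, 2, 1, 4, 3, 2, 5, 4],
    [7, 6, 5, 4, 3, 2, 1, 0, 8, 3, 2, 1, 4, 3, 5, 4, 9, 8, 3, 2, 1, 4, 3, 5, 4, 6],
    [7, 6, 5, 4, 3, 2, 1, 0, 8, 3, 2, 1, 4, 3, 5, 4, 9, 8, 3, 2, 1, 4, 3, 5, 6, 7],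
    [7, 6, 5, 4, 3, 2, 1, 0, 8, 3, 2, 1, 4, 3, 5, 4, 9, 8, 3, 2, 1, 4, 3, 5, 6, 8],
    [7, 6, 5, 4, 3, 2, 1, 0, 8, 3, 2, 1, 4, 3, 5, 4, 9, 8, 3, 2, 1, 4, 3, 5, 8, 9],
    [7, 6, 5, 4, 3, 2, 1, 0, 8, 3, 2, 1, 4, 3, 5, 4, 9, 8, 3, 2, 4, 3, 5, 4, 8, 9],
    [7, 6, 5, 4, 3, 2, 1, 0, 8, 3, 2, 1, 4, 3, 5, 4, 9, 8, 3, 2, 4, 3, 5, 6, 7, 8],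
    [7, 6, 5, 4, 3, 2, 1, 0, 8, 3, 2, 1, 4, 3, 5, 6, 7, 8, 9, 8, 3, 2, 4, 3, 8, 9],
    [7, 6, 5, 4, 3, 2, 1, 0, 8, 3, 2, 1, 4, 3, 5, 6, 7, 9, 8, 3, 2, 1, 0, 4, 3, 5],
    [7, 6, 5, 4, 3, 2, 1, 0, 8, 3, 2, 1, 4, 3, 5, 6, 7, 9, 8, 3, 2, 1, 4, 3, 2, 5],
    [7, 6, 5, 4, 3, 2, 1, 0, 8, 3, 2, 1, 4, 3, 5, 6, 7, 9, 8, 3, 2, 1, 4, 3, 5, 4],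
    [7, 6, 5, 4, 3, 2, 1, 0, 8, 3, 2, 1, 4, 3, 5, 6, 8, 9, 8, 3, 2, 1, 0, 4, 3, 5],
    [7, 6, 5, 4, 3, 2, 1, 0, 8, 3, 2, 1, 4, 3, 5, 6, 8, 9, 8, 3, 2, 1, 0, 4, 3, 8],
    [7, 6, 5, 4, 3, 2, 1, 0, 8, 3, 2, 1, 4, 3, 5, 6, 8, 9, 8, 3, 2, 1, 4, 3, 2, 5],
    [7, 6, 5, 4, 3, 2, 1, 0, 8, 3, 2, 1, 4, 3, 5, 6, 8, 9, 8, 3, 2, 1, 4, 3, 5, 4],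
    [7, 6, 5, 4, 3, 2, 1, 0, 8, 3, 2, 1, 4, 3, 5, 6, 8, 9, 8, 3, 2, 1, 4, 3, 5, 6],
    [7, 6, 5, 4, 3, 2, 1, 0, 8, 3, 2, 1, 4, 3, 5, 6, 8, 9, 8, 3, 2, 4, 3, 5, 4, 6],
    [7, 6, 5, 4, 3, 2, 1, 0, 8, 3, 2, 1, 4, 3, 5, 6, 8, 9, 8, 3, 2, 4, 3, 5, 4, 8],
    [7, 6, 5, 4, 3, 2, 1, 0, 8, 3, 2, 1, 4, 3, 5, 6, 8, 9, 8, 3, 2, 4, 3, 5, 8, 9],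
    [7, 6, 5, 4, 3, 2, 1, 0, 8, 3, 2, 1, 4, 3, 5, 6, 9, 8, 3, 2, 1, 0, 4, 3, 2, 5],
    [7, 6, 5, 4, 3, 2, 1, 0, 8, 3, 2, 1, 4, 3, 5, 6, 9, 8, 3, 2, 1, 0, 4, 3, 5, 4],
    [7, 6, 5, 4, 3, 2, 1, 0, 8, 3, 2, 1, 4, 3, 5, 6, 9, 8, 3, 2, 1, 0, 4, 3, 5, 6],
    [7, 6, 5, 4, 3, 2, 1, 0, 8, 3, 2, 1, 4, 3, 5, 6, 9, 8, 3, 2, 1, 4, 3, 2, 8, 9],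
    [7, 6, 5, 4, 3, 2, 1, 0, 8, 3, 2, 1, 4, 3, 5, 6, 9, 8, 3, 2, 1, 4, 3, 5, 4, 6],
    [7, 6, 5, 4, 3, 2, 1, 0, 8, 3, 2, 1, 4, 3, 5, 6, 9, 8, 3, 2, 1, 4, 3, 5, 4, 8]]

/-- A part of the representatives. -/
def repsV_14 : List (List ℕ) :=
  [[7, 6, 5, 4, 3, 2, 1, 0, 8, 3, 2, 1, 4, 3, 5, 6, 9, 8, 3, 2, 1, 4, 3, 5, 6, 7],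
    [7, 6, 5, 4, 3, 2, 1, 0, 8, 3, 2, 1, 4, 3, 5, 6, 9, 8, 3, 2, 4, 3, 5, 4, 8, 9],
    [7, 6, 5, 4, 3, 2, 1, 0, 8, 3, 2, 1, 4, 3, 5, 6, 9, 8, 3, 2, 4, 3, 5, 6, 8, 9],
    [7, 6, 5, 4, 3, 2, 1, 0, 8, 3, 2, 1, 4, 3, 5, 8, 9, 8, 3, 2, 1, 0, 4, 3, 2, 1],
    [7, 6, 5, 4, 3, 2, 1, 0, 8, 3, 2, 1, 4, 3, 5, 8, 9, 8, 3, 2, 1, 0, 4, 3, 2, 5],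
    [7, 6, 5, 4, 3, 2, 1, 0, 8, 3, 2, 1, 4, 3, 5, 8, 9, 8, 3, 2, 1, 0, 4, 3, 5, 6],
    [7, 6, 5, 4, 3, 2, 1, 0, 8, 3, 2, 1, 4, 3, 5, 8, 9, 8, 3, 2, 1, 4, 3, 2, 5, 4],
    [7, 6, 5, 4, 3, 2, 1, 0, 8, 3, 2, 1, 4, 3, 5, 8, 9, 8, 3, 2, 1, 4, 3, 2, 8, 9],
    [7, 6, 5, 4, 3, 2, 1, 0, 8, 3, 2, 1, 4, 3, 5, 8, 9, 8, 3, 2, 1, 4, 3, 5, 4, 6],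
    [7, 6, 5, 4, 3, 2, 1, 0, 8, 3, 2, 1, 4, 3, 5, 8, 9, 8, 3, 2, 1, 4, 3, 5, 6, 7],
    [7, 6, 5, 4, 3, 2, 1, 0, 8, 3, 2, 1, 4, 3, 5, 8, 9, 8, 3, 2, 1, 4, 3, 5, 6, 8],
    [7, 6, 5, 4, 3, 2, 1, 0, 8, 3, 2, 1, 4, 3, 5, 8, 9, 8, 3, 2, 1, 4, 3, 5, 8, 9],
    [7, 6, 5, 4, 3, 2, 1, 0, 8, 3, 2, 1, 4, 3, 5, 8, 9, 8, 3, 2, 4, 3, 5, 4, 6, 5],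
    [7, 6, 5, 4, 3, 2, 1, 0, 8, 3, 2, 1, 4, 3, 5, 8, 9, 8, 3, 2, 4, 3, 5, 6, 8, 9],
    [7, 6, 5, 4, 3, 2, 1, 0, 8, 3, 2, 1, 4, 3, 5, 9, 8, 3, 2, 1, 0, 4, 3, 2, 5, 4],
    [7, 6, 5, 4, 3, 2, 1, 0, 8, 3, 2, 1, 4, 3, 5, 9, 8, 3, 2, 1, 0, 4, 3, 2, 5, 6],
    [7, 6, 5, 4, 3, 2, 1, 0, 8, 3, 2, 1, 4, 3, 5, 9, 8, 3, 2, 1, 0, 4, 3, 2, 5, 8],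
    [7, 6, 5, 4, 3, 2, 1, 0, 8, 3, 2, 1, 4, 3, 5, 9, 8, 3, 2, 1, 0, 4, 3, 2, 8, 9],
    [7, 6, 5, 4, 3, 2, 1, 0, 8, 3, 2, 1, 4, 3, 5, 9, 8, 3, 2, 1, 0, 4, 3, 5, 4, 6],
    [7, 6, 5, 4, 3, 2, 1, 0, 8, 3, 2, 1, 4, 3, 5, 9, 8, 3, 2, 1, 0, 4, 3, 5, 4, 8],
    [7, 6, 5, 4, 3, 2, 1, 0, 8, 3, 2, 1, 4, 3, 5, 9, 8, 3, 2, 1, 0, 4, 3, 5, 6, 7],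
    [7, 6, 5, 4, 3, 2, 1, 0, 8, 3, 2, 1, 4, 3, 5, 9, 8, 3, 2, 1, 0, 4, 3, 5, 6, 8],
    [7, 6, 5, 4, 3, 2, 1, 0, 8, 3, 2, 1, 4, 3, 5, 9, 8, 3, 2, 1, 0, 4, 3, 5, 8, 9],
    [7, 6, 5, 4, 3, 2, 1, 0, 8, 3, 2, 1, 4, 3, 5, 9, 8, 3, 2, 1, 4, 3, 2, 5, 4, 8],
    [7, 6, 5, 4, 3, 2, 1, 0, 8, 3, 2, 1, 4, 3, 5, 9, 8, 3, 2, 1, 4, 3, 2, 5, 8, 3],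
    [7, 6, 5, 4, 3, 2, 1, 0, 8, 3, 2, 1, 4, 3, 5, 9, 8, 3, 2, 1, 4, 3, 2, 8, 3, 9],
    [7, 6, 5, 4, 3, 2, 1, 0, 8, 3, 2, 1, 4, 3, 5, 9, 8, 3, 2, 1, 4, 3, 5, 4, 8, 9],
    [7, 6, 5, 4, 3, 2, 1, 0, 8, 3, 2, 1, 4, 3, 5, 9, 8, 3, 2, 4, 3, 5, 4, 6, 5, 7],
    [7, 6, 5, 4, 3, 2, 1, 0, 8, 3, 2, 1, 4, 3, 5, 9, 8, 3, 2, 4, 3, 5, 4, 6, 7, 8],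
    [7, 6, 5, 4, 3, 2, 1, 0, 8, 3, 2, 1, 4, 3, 5, 9, 8, 3, 2, 4, 3, 5, 4, 8, 3, 2],
    [7, 6, 5, 4, 3, 2, 1, 0, 8, 3, 2, 1, 4, 3, 5, 9, 8, 3, 2, 4, 3, 5, 6, 7, 8, 9],
    [7, 6, 5, 4, 3, 2, 1, 0, 8, 3, 2, 1, 4, 3, 8, 9, 8, 3, 2, 1, 0, 4, 3, 5, 6, 7],
    [7, 6, 5, 4, 3, 2, 1, 0, 8, 3, 2, 1, 4, 3, 8, 9, 8, 3, 2, 1, 4, 3, 5, 4, 6, 8],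
    [7, 6, 5, 4, 3, 2, 1, 0, 8, 3, 2, 1, 4, 3, 8, 9, 8, 3, 2, 4, 3, 5, 4, 6, 5, 8],
    [7, 6, 5, 4, 3, 2, 1, 0, 8, 3, 2, 1, 4, 3, 8, 9, 8, 3, 2, 4, 3, 5, 4, 8, 3, 2],
    [7, 6, 5, 4, 3, 2, 1, 0, 8, 3, 2, 1, 4, 3, 8, 9, 8, 3, 2, 4, 3, 5, 6, 7, 8, 9],
    [7, 6, 5, 4, 3, 2, 1, 0, 8, 3, 2, 1, 4, 3, 9, 8, 3, 2, 1, 0, 4, 3, 2, 5, 6, 7],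
    [7, 6, 5, 4, 3, 2, 1, 0, 8, 3, 2, 1, 4, 3, 9, 8, 3, 2, 1, 0, 4, 3, 5, 6, 7, 8],
    [7, 6, 5, 4, 3, 2, 1, 0, 8, 3, 2, 1, 4, 3, 9, 8, 3, 2, 1, 4, 3, 2, 5, 4, 3, 6],
    [7, 6, 5, 4, 3, 2, 1, 0, 8, 3, 2, 1, 4, 3, 9, 8, 3, 2, 1, 4, 3, 2, 5, 4, 6, 5],
    [7, 6, 5, 4, 3, 2, 1, 0, 8, 3, 2, 1, 4, 3, 9, 8, 3, 2, 1, 4, 3, 2, 5, 6, 7, 8],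
    [7, 6, 5, 4, 3, 2, 1, 0, 8, 3, 2, 1, 4, 3, 9, 8, 3, 2, 1, 4, 3, 5, 4, 6, 5, 7],
    [7, 6, 5, 4, 3, 2, 1, 0, 8, 3, 2, 1, 4, 3, 9, 8, 3, 2, 1, 4, 3, 5, 4, 6, 7, 8],
    [7, 6, 5, 4, 3, 2, 1, 0, 8, 3, 2, 1, 4, 3, 9, 8, 3, 2, 1, 4, 3, 5, 6, 7, 8, 9],
    [7, 6, 5, 4, 3, 2, 1, 0, 8, 3, 2, 1, 4, 3, 9, 8, 3, 2, 4, 3, 5, 4, 6, 5, 8, 3],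
    [7, 6, 5, 4, 3, 2, 1, 0, 8, 3, 2, 1, 4, 3, 9, 8, 3, 2, 4, 3, 5, 4, 8, 3, 2, 1],
    [7, 6, 5, 4, 3, 2, 1, 0, 8, 3, 2, 1, 4, 5, 6, 7, 9, 8, 3, 2, 4, 3, 5, 6, 7, 8],
    [7, 6, 5, 4, 3, 2, 1, 0, 8, 3, 2, 1, 4, 5, 6, 9, 8, 3, 2, 1, 0, 4, 3, 2, 5, 6],
    [7, 6, 5, 4, 3, 2, 1, 0, 8, 3, 2, 1, 4, 5, 6, 9, 8, 3, 2, 1, 0, 4, 3, 5, 4, 8],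
    [7, 6, 5, 4, 3, 2, 1, 0, 8, 3, 2, 1, 4, 5, 6, 9, 8, 3, 2, 1, 4, 3, 2, 5, 4, 3],
    [7, 6, 5, 4, 3, 2, 1, 0, 8, 3, 2, 1, 4, 5, 6, 9, 8, 3, 2, 1, 4, 3, 2, 5, 4, 6],
    [7, 6, 5, 4, 3, 2, 1, 0, 8, 3, 2, 1, 4, 5, 6, 9, 8, 3, 2, 1, 4, 3, 2, 5, 6, 7],
    [7, 6, 5, 4, 3, 2, 1, 0, 8, 3, 2, 1, 4, 5, 6, 9, 8, 3, 2, 1, 4, 3, 2, 8, 3, 9],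
    [7, 6, 5, 4, 3, 2, 1, 0, 8, 3, 2, 1, 4, 5, 6, 9, 8, 3, 2, 1, 4, 3, 5, 4, 6, 7],
    [7, 6, 5, 4, 3, 2, 1, 0, 8, 3, 2, 1, 4, 5, 6, 9, 8, 3, 2, 4, 3, 5, 4, 6, 5, 7],
    [7, 6, 5, 4, 3, 2, 1, 0, 8, 3, 2, 1, 4, 5, 6, 9, 8, 3, 2, 4, 3, 5, 4, 8, 3, 2],
    [7, 6, 5, 4, 3, 2, 1, 0, 8, 3, 2, 1, 4, 5, 6, 9, 8, 3, 2, 4, 3, 5, 6, 7, 8, 9],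
    [7, 6, 5, 4, 3, 2, 1, 0, 8, 3, 2, 1, 4, 5, 9, 8, 3, 2, 1, 0, 4, 3, 2, 5, 4, 6],
    [7, 6, 5, 4, 3, 2, 1, 0, 8, 3, 2, 1, 4, 5, 9, 8, 3, 2, 1, 0, 4, 3, 5, 4, 6, 5],
    [7, 6, 5, 4, 3, 2, 1, 0, 8, 3, 2, 1, 4, 5, 9, 8, 3, 2, 1, 0, 4, 3, 5, 4, 6, 7],
    [7, 6, 5, 4, 3, 2, 1, 0, 8, 3, 2, 1, 4, 5, 9, 8, 3, 2, 1, 4, 3, 2, 5, 4, 6, 5],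
    [7, 6, 5, 4, 3, 2, 1, 0, 8, 3, 2, 1, 4, 5, 9, 8, 3, 2, 1, 4, 3, 2, 5, 4, 6, 7],
    [7, 6, 5, 4, 3, 2, 1, 0, 8, 3, 2, 1, 4, 5, 9, 8, 3, 2, 1, 4, 3, 2, 5, 4, 8, 9],
    [7, 6, 5, 4, 3, 2, 1, 0, 8, 3, 2, 1, 4, 5, 9, 8, 3, 2, 1, 4, 3, 2, 5, 6, 8, 9],
    [7, 6, 5, 4, 3, 2, 1, 0, 8, 3, 2, 1, 4, 5, 9, 8, 3, 2, 1, 4, 3, 2, 5, 8, 3, 4],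
    [7, 6, 5, 4, 3, 2, 1, 0, 8, 3, 2, 1, 4, 5, 9, 8, 3, 2, 1, 4, 3, 2, 5, 8, 3, 9],
    [7, 6, 5, 4, 3, 2, 1, 0, 8, 3, 2, 1, 4, 5, 9, 8, 3, 2, 1, 4, 3, 2, 8, 3, 4, 5],
    [7, 6, 5, 4, 3, 2, 1, 0, 8, 3, 2, 1, 4, 5, 9, 8, 3, 2, 1, 4, 3, 2, 8, 3, 4, 9],
    [7, 6, 5, 4, 3, 2, 1, 0, 8, 3, 2, 1, 4, 5, 9, 8, 3, 2, 1, 4, 3, 5, 4, 6, 7, 8],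
    [7, 6, 5, 4, 3, 2, 1, 0, 8, 3, 2, 1, 4, 5, 9, 8, 3, 2, 1, 4, 3, 5, 4, 8, 3, 2],
    [7, 6, 5, 4, 3, 2, 1, 0, 8, 3, 2, 1, 4, 5, 9, 8, 3, 2, 4, 3, 5, 4, 6, 5, 8, 3],
    [7, 6, 5, 4, 3, 2, 1, 0, 8, 3, 2, 1, 4, 5, 9, 8, 3, 2, 4, 3, 5, 4, 6, 8, 3, 9],
    [7, 6, 5, 4, 3, 2, 1, 0, 8, 3, 2, 1, 4, 5, 9, 8, 3, 2, 4, 3, 5, 4, 8, 3, 2, 1],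
    [7, 6, 5, 4, 3, 2, 1, 0, 8, 3, 2, 1, 4, 5, 9, 8, 3, 2, 4, 3, 5, 4, 8, 3, 2, 9],
    [7, 6, 5, 4, 3, 2, 1, 0, 8, 3, 2, 1, 4, 9, 8, 3, 2, 1, 0, 4, 3, 5, 4, 6, 7, 8],
    [7, 6, 5, 4, 3, 2, 1, 0, 8, 3, 2, 1, 4, 9, 8, 3, 2, 1, 0, 4, 3, 5, 4, 8, 3, 2],
    [7, 6, 5, 4, 3, 2, 1, 0, 8, 3, 2, 1, 4, 9, 8, 3, 2, 1, 0, 4, 3, 5, 6, 7, 8, 9],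
    [7, 6, 5, 4, 3, 2, 1, 0, 8, 3, 2, 1, 4, 9, 8, 3, 2, 1, 4, 3, 5, 4, 6, 5, 7, 8],
    [7, 6, 5, 4, 3, 2, 1, 0, 8, 3, 2, 1, 4, 9, 8, 3, 2, 1, 4, 3, 5, 4, 6, 5, 8, 3],
    [7, 6, 5, 4, 3, 2, 1, 0, 8, 3, 2, 1, 4, 9, 8, 3, 2, 1, 4, 3, 5, 4, 6, 5, 8, 9],
    [7, 6, 5, 4, 3, 2, 1, 0, 8, 3, 2, 1, 4, 9, 8, 3, 2, 1, 4, 3, 5, 4, 8, 3, 2, 1],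
    [7, 6, 5, 4, 3, 2, 1, 0, 8, 3, 2, 1, 4, 9, 8, 3, 2, 4, 3, 5, 4, 6, 8, 3, 9, 8],
    [7, 6, 5, 4, 3, 2, 1, 0, 8, 3, 2, 4, 3, 5, 4, 6, 5, 7, 8, 9, 8, 3, 4, 5, 6, 7],
    [7, 6, 5, 4, 3, 2, 1, 0, 8, 3, 2, 4, 3, 5, 4, 6, 7, 8, 9, 8, 3, 2, 4, 5, 6, 7],
    [7, 6, 5, 4, 3, 2, 1, 0, 8, 3, 2, 4, 3, 5, 4, 6, 9, 8, 3, 2, 4, 3, 5, 4, 8, 9],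
    [7, 6, 5, 4, 3, 2, 1, 0, 8, 3, 2, 4, 3, 5, 4, 6, 9, 8, 3, 2, 4, 3, 5, 6, 8, 9],
    [7, 6, 5, 4, 3, 2, 1, 0, 8, 3, 2, 4, 3, 5, 4, 8, 9, 8, 3, 2, 4, 3, 5, 4, 6, 5],
    [7, 6, 5, 4, 3, 2, 1, 0, 8, 3, 2, 4, 3, 5, 4, 9, 8, 3, 2, 1, 4, 3, 2, 8, 3, 4],
    [7, 6, 5, 4, 3, 2, 1, 0, 8, 3, 2, 4, 3, 5, 6, 7, 8, 9, 8, 3, 2, 4, 3, 5, 8, 9],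
    [7, 6, 5, 4, 3, 2, 1, 0, 8, 3, 2, 4, 3, 5, 6, 8, 9, 8, 3, 2, 1, 4, 3, 5, 4, 6],
    [7, 6, 5, 4, 3, 2, 1, 0, 8, 3, 2, 4, 3, 5, 6, 8, 9, 8, 3, 2, 4, 3, 5, 4, 6, 8],
    [7, 6, 5, 4, 3, 2, 1, 0, 8, 3, 2, 4, 3, 5, 6, 8, 9, 8, 3, 2, 4, 3, 5, 6, 7, 8],
    [7, 6, 5, 4, 3, 2, 1, 0, 8, 3, 2, 4, 3, 5, 6, 9, 8, 3, 2, 1, 4, 3, 2, 5, 4, 3],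
    [7, 6, 5, 4, 3, 2, 1, 0, 8, 3, 2, 4, 3, 5, 6, 9, 8, 3, 2, 1, 4, 3, 2, 5, 8, 3],
    [7, 6, 5, 4, 3, 2, 1, 0, 8, 3, 2, 4, 3, 5, 6, 9, 8, 3, 2, 1, 4, 3, 2, 8, 3, 4],
    [7, 6, 5, 4, 3, 2, 1, 0, 8, 3, 2, 4, 3, 5, 8, 9, 8, 3, 2, 4, 3, 5, 4, 6, 5, 8],
    [7, 6, 5, 4, 3, 2, 1, 0, 8, 3, 2, 4, 3, 5, 8, 9, 8, 3, 2, 4, 3, 5, 4, 6, 8, 9],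
    [7, 6, 5, 4, 3, 2, 1, 0, 8, 3, 2, 4, 3, 5, 8, 9, 8, 3, 2, 4, 3, 5, 6, 7, 8, 9],
    [7, 6, 5, 4, 3, 2, 1, 0, 8, 3, 2, 4, 3, 5, 9, 8, 3, 2, 1, 4, 3, 2, 5, 4, 8, 3],
    [7, 6, 5, 4, 3, 2, 1, 0, 8, 3, 2, 4, 3, 5, 9, 8, 3, 2, 1, 4, 3, 2, 5, 8, 3, 4],
    [7, 6, 5, 4, 3, 2, 1, 0, 8, 3, 2, 4, 3, 5, 9, 8, 3, 2, 1, 4, 3, 2, 8, 3, 4, 5],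
    [7, 6, 5, 4, 3, 2, 1, 0, 8, 3, 2, 4, 3, 8, 9, 8, 3, 2, 4, 3, 5, 4, 6, 7, 8, 3],
    [7, 6, 5, 4, 3, 2, 1, 0, 8, 3, 2, 4, 3, 8, 9, 8, 3, 2, 4, 3, 5, 4, 6, 8, 3, 2],
    [7, 6, 5, 4, 3, 2, 1, 0, 8, 3, 2, 4, 3, 9, 8, 3, 2, 1, 4, 3, 2, 5, 4, 3, 6, 5],
    [7, 6, 5, 4, 3, 2, 1, 0, 8, 3, 2, 4, 3, 9, 8, 3, 2, 1, 4, 3, 2, 5, 4, 3, 6, 7],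
    [7, 6, 5, 4, 3, 2, 1, 0, 8, 3, 2, 4, 5, 6, 9, 8, 3, 2, 1, 4, 3, 2, 5, 4, 3, 6],
    [7, 6, 5, 4, 3, 2, 1, 0, 8, 3, 2, 4, 5, 6, 9, 8, 3, 2, 1, 4, 3, 2, 5, 4, 3, 8],
    [7, 6, 5, 4, 3, 2, 1, 0, 8, 3, 2, 4, 5, 6, 9, 8, 3, 2, 1, 4, 3, 2, 5, 4, 8, 3],
    [7, 6, 5, 4, 3, 2, 1, 0, 8, 3, 2, 4, 5, 6, 9, 8, 3, 2, 1, 4, 3, 2, 5, 6, 8, 3],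
    [7, 6, 5, 4, 3, 2, 1, 0, 8, 3, 2, 4, 5, 6, 9, 8, 3, 2, 1, 4, 3, 2, 5, 8, 3, 4],
    [7, 6, 5, 4, 3, 2, 1, 0, 8, 3, 2, 4, 5, 6, 9, 8, 3, 2, 4, 3, 5, 4, 8, 3, 9, 8],
    [7, 6, 5, 4, 3, 2, 1, 0, 8, 3, 2, 4, 5, 9, 8, 3, 2, 1, 4, 3, 2, 5, 8, 3, 4, 5],
    [7, 6, 5, 4, 3, 2, 1, 0, 8, 3, 4, 5, 9, 8, 3, 2, 1, 4, 3, 2, 8, 3, 4, 5, 6, 7],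
    [7, 6, 5, 4, 3, 2, 1, 8, 3, 2, 4, 3, 8, 9, 8, 3, 2, 1, 0, 4, 3, 2, 5, 4, 6, 5],
    [7, 6, 5, 4, 3, 2, 1, 8, 3, 2, 4, 3, 8, 9, 8, 3, 2, 1, 0, 4, 3, 2, 5, 6, 7, 8],
    [7, 6, 5, 4, 3, 2, 1, 0, 8, 3, 2, 1, 4, 3, 2, 5, 4, 3, 6, 5, 7, 9, 8, 3, 2, 4, 5],
    [7, 6, 5, 4, 3, 2, 1, 0, 8, 3, 2, 1, 4, 3, 2, 5, 4, 3, 6, 5, 9, 8, 3, 2, 1, 0, 4],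
    [7, 6, 5, 4, 3, 2, 1, 0, 8, 3, 2, 1, 4, 3, 2, 5, 4, 3, 6, 7, 9, 8, 3, 2, 1, 0, 4],
    [7, 6, 5, 4, 3, 2, 1, 0, 8, 3, 2, 1, 4, 3, 2, 5, 4, 3, 6, 7, 9, 8, 3, 2, 4, 3, 5],
    [7, 6, 5, 4, 3, 2, 1, 0, 8, 3, 2, 1, 4, 3, 2, 5, 4, 3, 6, 7, 9, 8, 3, 4, 5, 6, 7],
    [7, 6, 5, 4, 3, 2, 1, 0, 8, 3, 2, 1, 4, 3, 2, 5, 4, 3, 6, 9, 8, 3, 2, 1, 0, 4, 5],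
    [7, 6, 5, 4, 3, 2, 1, 0, 8, 3, 2, 1, 4, 3, 2, 5, 4, 3, 6, 9, 8, 3, 2, 1, 4, 3, 2],
    [7, 6, 5, 4, 3, 2, 1, 0, 8, 3, 2, 1, 4, 3, 2, 5, 4, 3, 6, 9, 8, 3, 2, 1, 4, 3, 5],
    [7, 6, 5, 4, 3, 2, 1, 0, 8, 3, 2, 1, 4, 3, 2, 5, 4, 3, 6, 9, 8, 3, 2, 4, 3, 5, 4],
    [7, 6, 5, 4, 3, 2, 1, 0, 8, 3, 2, 1, 4, 3, 2, 5, 4, 3, 6, 9, 8, 3, 2, 4, 5, 6, 7],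
    [7, 6, 5, 4, 3, 2, 1, 0, 8, 3, 2, 1, 4, 3, 2, 5, 4, 3, 9, 8, 3, 2, 1, 0, 4, 3, 2],
    [7, 6, 5, 4, 3, 2, 1, 0, 8, 3, 2, 1, 4, 3, 2, 5, 4, 3, 9, 8, 3, 2, 1, 4, 3, 2, 5],
    [7, 6, 5, 4, 3, 2, 1, 0, 8, 3, 2, 1, 4, 3, 2, 5, 4, 3, 9, 8, 3, 2, 1, 4, 3, 5, 6]]

/-- A part of the representatives. -/
def repsV_15 : List (List ℕ) :=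
  [[7, 6, 5, 4, 3, 2, 1, 0, 8, 3, 2, 1, 4, 3, 2, 5, 4, 3, 9, 8, 3, 2, 1, 4, 5, 6, 7],
    [7, 6, 5, 4, 3, 2, 1, 0, 8, 3, 2, 1, 4, 3, 2, 5, 4, 3, 9, 8, 3, 2, 4, 3, 5, 4, 6],
    [7, 6, 5, 4, 3, 2, 1, 0, 8, 3, 2, 1, 4, 3, 2, 5, 4, 3, 9, 8, 3, 2, 4, 3, 5, 6, 7],
    [7, 6, 5, 4, 3, 2, 1, 0, 8, 3, 2, 1, 4, 3, 2, 5, 4, 6, 5, 9, 8, 3, 2, 1, 4, 3, 2],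
    [7, 6, 5, 4, 3, 2, 1, 0, 8, 3, 2, 1, 4, 3, 2, 5, 4, 6, 5, 9, 8, 3, 2, 4, 3, 5, 4],
    [7, 6, 5, 4, 3, 2, 1, 0, 8, 3, 2, 1, 4, 3, 2, 5, 4, 6, 5, 9, 8, 3, 2, 4, 3, 5, 8],
    [7, 6, 5, 4, 3, 2, 1, 0, 8, 3, 2, 1, 4, 3, 2, 5, 4, 6, 5, 9, 8, 3, 2, 4, 3, 8, 9],
    [7, 6, 5, 4, 3, 2, 1, 0, 8, 3, 2, 1, 4, 3, 2, 5, 4, 6, 7, 8, 9, 8, 3, 4, 5, 6, 7],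
    [7, 6, 5, 4, 3, 2, 1, 0, 8, 3, 2, 1, 4, 3, 2, 5, 4, 6, 7, 9, 8, 3, 2, 4, 3, 8, 9],
    [7, 6, 5, 4, 3, 2, 1, 0, 8, 3, 2, 1, 4, 3, 2, 5, 4, 6, 8, 9, 8, 3, 2, 1, 4, 3, 2],
    [7, 6, 5, 4, 3, 2, 1, 0, 8, 3, 2, 1, 4, 3, 2, 5, 4, 6, 8, 9, 8, 3, 2, 1, 4, 3, 5],
    [7, 6, 5, 4, 3, 2, 1, 0, 8, 3, 2, 1, 4, 3, 2, 5, 4, 6, 8, 9, 8, 3, 2, 4, 3, 8, 9],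
    [7, 6, 5, 4, 3, 2, 1, 0, 8, 3, 2, 1, 4, 3, 2, 5, 4, 6, 8, 9, 8, 3, 2, 4, 5, 6, 7],
    [7, 6, 5, 4, 3, 2, 1, 0, 8, 3, 2, 1, 4, 3, 2, 5, 4, 6, 9, 8, 3, 2, 1, 0, 4, 3, 2],
    [7, 6, 5, 4, 3, 2, 1, 0, 8, 3, 2, 1, 4, 3, 2, 5, 4, 6, 9, 8, 3, 2, 1, 0, 4, 3, 8],
    [7, 6, 5, 4, 3, 2, 1, 0, 8, 3, 2, 1, 4, 3, 2, 5, 4, 6, 9, 8, 3, 2, 1, 0, 4, 5, 6],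
    [7, 6, 5, 4, 3, 2, 1, 0, 8, 3, 2, 1, 4, 3, 2, 5, 4, 8, 9, 8, 3, 2, 1, 4, 3, 2, 8],
    [7, 6, 5, 4, 3, 2, 1, 0, 8, 3, 2, 1, 4, 3, 2, 5, 4, 8, 9, 8, 3, 2, 1, 4, 3, 5, 6],
    [7, 6, 5, 4, 3, 2, 1, 0, 8, 3, 2, 1, 4, 3, 2, 5, 4, 8, 9, 8, 3, 2, 4, 3, 5, 4, 8],
    [7, 6, 5, 4, 3, 2, 1, 0, 8, 3, 2, 1, 4, 3, 2, 5, 4, 9, 8, 3, 2, 1, 0, 4, 3, 2, 1],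
    [7, 6, 5, 4, 3, 2, 1, 0, 8, 3, 2, 1, 4, 3, 2, 5, 4, 9, 8, 3, 2, 1, 0, 4, 3, 8, 9],
    [7, 6, 5, 4, 3, 2, 1, 0, 8, 3, 2, 1, 4, 3, 2, 5, 4, 9, 8, 3, 2, 1, 4, 3, 2, 5, 8],
    [7, 6, 5, 4, 3, 2, 1, 0, 8, 3, 2, 1, 4, 3, 2, 5, 4, 9, 8, 3, 2, 1, 4, 3, 5, 4, 8],
    [7, 6, 5, 4, 3, 2, 1, 0, 8, 3, 2, 1, 4, 3, 2, 5, 4, 9, 8, 3, 2, 1, 4, 3, 5, 6, 7],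
    [7, 6, 5, 4, 3, 2, 1, 0, 8, 3, 2, 1, 4, 3, 2, 5, 4, 9, 8, 3, 2, 1, 4, 3, 5, 8, 9],
    [7, 6, 5, 4, 3, 2, 1, 0, 8, 3, 2, 1, 4, 3, 2, 5, 4, 9, 8, 3, 2, 4, 3, 5, 4, 6, 5],
    [7, 6, 5, 4, 3, 2, 1, 0, 8, 3, 2, 1, 4, 3, 2, 5, 4, 9, 8, 3, 2, 4, 3, 5, 4, 8, 9],
    [7, 6, 5, 4, 3, 2, 1, 0, 8, 3, 2, 1, 4, 3, 2, 5, 6, 7, 8, 9, 8, 3, 2, 1, 4, 3, 2],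
    [7, 6, 5, 4, 3, 2, 1, 0, 8, 3, 2, 1, 4, 3, 2, 5, 6, 7, 8, 9, 8, 3, 2, 4, 3, 8, 9],
    [7, 6, 5, 4, 3, 2, 1, 0, 8, 3, 2, 1, 4, 3, 2, 5, 6, 7, 9, 8, 3, 2, 1, 4, 3, 5, 8],
    [7, 6, 5, 4, 3, 2, 1, 0, 8, 3, 2, 1, 4, 3, 2, 5, 6, 7, 9, 8, 3, 2, 4, 3, 5, 6, 7],
    [7, 6, 5, 4, 3, 2, 1, 0, 8, 3, 2, 1, 4, 3, 2, 5, 6, 8, 3, 9, 8, 3, 2, 1, 4, 3, 2],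
    [7, 6, 5, 4, 3, 2, 1, 0, 8, 3, 2, 1, 4, 3, 2, 5, 6, 8, 3, 9, 8, 3, 2, 1, 4, 3, 5],
    [7, 6, 5, 4, 3, 2, 1, 0, 8, 3, 2, 1, 4, 3, 2, 5, 6, 8, 3, 9, 8, 3, 2, 4, 3, 5, 4],
    [7, 6, 5, 4, 3, 2, 1, 0, 8, 3, 2, 1, 4, 3, 2, 5, 6, 8, 3, 9, 8, 3, 2, 4, 3, 5, 6],
    [7, 6, 5, 4, 3, 2, 1, 0, 8, 3, 2, 1, 4, 3, 2, 5, 6, 8, 9, 8, 3, 2, 1, 0, 4, 3, 5],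
    [7, 6, 5, 4, 3, 2, 1, 0, 8, 3, 2, 1, 4, 3, 2, 5, 6, 8, 9, 8, 3, 2, 1, 0, 4, 3, 8],
    [7, 6, 5, 4, 3, 2, 1, 0, 8, 3, 2, 1, 4, 3, 2, 5, 6, 8, 9, 8, 3, 2, 1, 4, 3, 5, 8],
    [7, 6, 5, 4, 3, 2, 1, 0, 8, 3, 2, 1, 4, 3, 2, 5, 6, 8, 9, 8, 3, 2, 1, 4, 5, 6, 7],
    [7, 6, 5, 4, 3, 2, 1, 0, 8, 3, 2, 1, 4, 3, 2, 5, 6, 8, 9, 8, 3, 2, 4, 3, 5, 6, 7],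
    [7, 6, 5, 4, 3, 2, 1, 0, 8, 3, 2, 1, 4, 3, 2, 5, 6, 9, 8, 3, 2, 1, 0, 4, 3, 2, 1],
    [7, 6, 5, 4, 3, 2, 1, 0, 8, 3, 2, 1, 4, 3, 2, 5, 6, 9, 8, 3, 2, 1, 0, 4, 3, 5, 4],
    [7, 6, 5, 4, 3, 2, 1, 0, 8, 3, 2, 1, 4, 3, 2, 5, 6, 9, 8, 3, 2, 1, 0, 4, 3, 5, 8],
    [7, 6, 5, 4, 3, 2, 1, 0, 8, 3, 2, 1, 4, 3, 2, 5, 6, 9, 8, 3, 2, 1, 0, 4, 3, 8, 9],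
    [7, 6, 5, 4, 3, 2, 1, 0, 8, 3, 2, 1, 4, 3, 2, 5, 6, 9, 8, 3, 2, 1, 4, 3, 2, 5, 8],
    [7, 6, 5, 4, 3, 2, 1, 0, 8, 3, 2, 1, 4, 3, 2, 5, 6, 9, 8, 3, 2, 1, 4, 3, 2, 8, 9],
    [7, 6, 5, 4, 3, 2, 1, 0, 8, 3, 2, 1, 4, 3, 2, 5, 6, 9, 8, 3, 2, 1, 4, 3, 5, 4, 6],
    [7, 6, 5, 4, 3, 2, 1, 0, 8, 3, 2, 1, 4, 3, 2, 5, 6, 9, 8, 3, 2, 1, 4, 3, 5, 4, 8],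
    [7, 6, 5, 4, 3, 2, 1, 0, 8, 3, 2, 1, 4, 3, 2, 5, 6, 9, 8, 3, 2, 1, 4, 3, 5, 8, 9],
    [7, 6, 5, 4, 3, 2, 1, 0, 8, 3, 2, 1, 4, 3, 2, 5, 6, 9, 8, 3, 2, 4, 3, 5, 4, 6, 5],
    [7, 6, 5, 4, 3, 2, 1, 0, 8, 3, 2, 1, 4, 3, 2, 5, 6, 9, 8, 3, 2, 4, 3, 5, 4, 8, 9],
    [7, 6, 5, 4, 3, 2, 1, 0, 8, 3, 2, 1, 4, 3, 2, 5, 8, 3, 9, 8, 3, 2, 1, 0, 4, 3, 2],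
    [7, 6, 5, 4, 3, 2, 1, 0, 8, 3, 2, 1, 4, 3, 2, 5, 8, 3, 9, 8, 3, 2, 1, 4, 3, 2, 5],
    [7, 6, 5, 4, 3, 2, 1, 0, 8, 3, 2, 1, 4, 3, 2, 5, 8, 3, 9, 8, 3, 2, 4, 3, 5, 8, 9],
    [7, 6, 5, 4, 3, 2, 1, 0, 8, 3, 2, 1, 4, 3, 2, 5, 8, 9, 8, 3, 2, 1, 0, 4, 3, 8, 9],
    [7, 6, 5, 4, 3, 2, 1, 0, 8, 3, 2, 1, 4, 3, 2, 5, 8, 9, 8, 3, 2, 1, 0, 4, 5, 6, 7],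
    [7, 6, 5, 4, 3, 2, 1, 0, 8, 3, 2, 1, 4, 3, 2, 5, 8, 9, 8, 3, 2, 1, 4, 3, 2, 5, 4],
    [7, 6, 5, 4, 3, 2, 1, 0, 8, 3, 2, 1, 4, 3, 2, 5, 8, 9, 8, 3, 2, 1, 4, 3, 2, 8, 9],
    [7, 6, 5, 4, 3, 2, 1, 0, 8, 3, 2, 1, 4, 3, 2, 5, 8, 9, 8, 3, 2, 1, 4, 3, 5, 8, 9],
    [7, 6, 5, 4, 3, 2, 1, 0, 8, 3, 2, 1, 4, 3, 2, 5, 9, 8, 3, 2, 1, 0, 4, 3, 2, 1, 8],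
    [7, 6, 5, 4, 3, 2, 1, 0, 8, 3, 2, 1, 4, 3, 2, 5, 9, 8, 3, 2, 1, 0, 4, 3, 2, 8, 9],
    [7, 6, 5, 4, 3, 2, 1, 0, 8, 3, 2, 1, 4, 3, 2, 5, 9, 8, 3, 2, 1, 0, 4, 3, 5, 8, 9],
    [7, 6, 5, 4, 3, 2, 1, 0, 8, 3, 2, 1, 4, 3, 2, 5, 9, 8, 3, 2, 1, 4, 3, 2, 5, 4, 8],
    [7, 6, 5, 4, 3, 2, 1, 0, 8, 3, 2, 1, 4, 3, 2, 5, 9, 8, 3, 2, 1, 4, 3, 2, 5, 8, 9],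
    [7, 6, 5, 4, 3, 2, 1, 0, 8, 3, 2, 1, 4, 3, 2, 5, 9, 8, 3, 2, 1, 4, 3, 5, 4, 6, 5],
    [7, 6, 5, 4, 3, 2, 1, 0, 8, 3, 2, 1, 4, 3, 2, 5, 9, 8, 3, 2, 1, 4, 3, 5, 4, 6, 7],
    [7, 6, 5, 4, 3, 2, 1, 0, 8, 3, 2, 1, 4, 3, 2, 5, 9, 8, 3, 2, 1, 4, 3, 5, 4, 8, 9],
    [7, 6, 5, 4, 3, 2, 1, 0, 8, 3, 2, 1, 4, 3, 2, 8, 3, 9, 8, 3, 2, 1, 0, 4, 5, 6, 7],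
    [7, 6, 5, 4, 3, 2, 1, 0, 8, 3, 2, 1, 4, 3, 2, 8, 9, 8, 3, 2, 1, 0, 4, 3, 5, 6, 7],
    [7, 6, 5, 4, 3, 2, 1, 0, 8, 3, 2, 1, 4, 3, 2, 8, 9, 8, 3, 2, 1, 4, 3, 2, 5, 6, 7],
    [7, 6, 5, 4, 3, 2, 1, 0, 8, 3, 2, 1, 4, 3, 2, 8, 9, 8, 3, 2, 1, 4, 3, 5, 4, 6, 7],
    [7, 6, 5, 4, 3, 2, 1, 0, 8, 3, 2, 1, 4, 3, 2, 8, 9, 8, 3, 2, 1, 4, 3, 5, 6, 7, 8],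
    [7, 6, 5, 4, 3, 2, 1, 0, 8, 3, 2, 1, 4, 3, 2, 8, 9, 8, 3, 2, 4, 3, 5, 4, 8, 3, 2],
    [7, 6, 5, 4, 3, 2, 1, 0, 8, 3, 2, 1, 4, 3, 2, 8, 9, 8, 3, 2, 4, 3, 5, 6, 7, 8, 9],
    [7, 6, 5, 4, 3, 2, 1, 0, 8, 3, 2, 1, 4, 3, 2, 9, 8, 3, 2, 1, 0, 4, 3, 5, 4, 6, 7],
    [7, 6, 5, 4, 3, 2, 1, 0, 8, 3, 2, 1, 4, 3, 2, 9, 8, 3, 2, 1, 4, 3, 2, 5, 6, 7, 8],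
    [7, 6, 5, 4, 3, 2, 1, 0, 8, 3, 2, 1, 4, 3, 2, 9, 8, 3, 2, 1, 4, 3, 5, 4, 6, 5, 7],
    [7, 6, 5, 4, 3, 2, 1, 0, 8, 3, 2, 1, 4, 3, 2, 9, 8, 3, 2, 1, 4, 3, 5, 4, 6, 7, 8],
    [7, 6, 5, 4, 3, 2, 1, 0, 8, 3, 2, 1, 4, 3, 2, 9, 8, 3, 2, 1, 4, 3, 5, 4, 8, 3, 2],
    [7, 6, 5, 4, 3, 2, 1, 0, 8, 3, 2, 1, 4, 3, 2, 9, 8, 3, 2, 4, 3, 5, 4, 6, 5, 7, 8],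
    [7, 6, 5, 4, 3, 2, 1, 0, 8, 3, 2, 1, 4, 3, 2, 9, 8, 3, 2, 4, 3, 5, 4, 6, 5, 8, 9],
    [7, 6, 5, 4, 3, 2, 1, 0, 8, 3, 2, 1, 4, 3, 2, 9, 8, 3, 2, 4, 3, 5, 4, 8, 3, 2, 1],
    [7, 6, 5, 4, 3, 2, 1, 0, 8, 3, 2, 1, 4, 3, 2, 9, 8, 3, 2, 4, 3, 5, 4, 8, 3, 2, 9],
    [7, 6, 5, 4, 3, 2, 1, 0, 8, 3, 2, 1, 4, 3, 5, 4, 6, 5, 8, 3, 9, 8, 3, 2, 4, 3, 5],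
    [7, 6, 5, 4, 3, 2, 1, 0, 8, 3, 2, 1, 4, 3, 5, 4, 6, 5, 8, 9, 8, 3, 2, 1, 4, 3, 5],
    [7, 6, 5, 4, 3, 2, 1, 0, 8, 3, 2, 1, 4, 3, 5, 4, 6, 5, 9, 8, 3, 2, 1, 0, 4, 3, 5],
    [7, 6, 5, 4, 3, 2, 1, 0, 8, 3, 2, 1, 4, 3, 5, 4, 6, 5, 9, 8, 3, 2, 1, 4, 3, 5, 8],
    [7, 6, 5, 4, 3, 2, 1, 0, 8, 3, 2, 1, 4, 3, 5, 4, 6, 5, 9, 8, 3, 2, 4, 3, 5, 4, 8],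
    [7, 6, 5, 4, 3, 2, 1, 0, 8, 3, 2, 1, 4, 3, 5, 4, 6, 7, 9, 8, 3, 2, 4, 3, 5, 8, 9],
    [7, 6, 5, 4, 3, 2, 1, 0, 8, 3, 2, 1, 4, 3, 5, 4, 6, 8, 9, 8, 3, 2, 4, 3, 5, 4, 6],
    [7, 6, 5, 4, 3, 2, 1, 0, 8, 3, 2, 1, 4, 3, 5, 4, 6, 8, 9, 8, 3, 2, 4, 3, 5, 6, 7],
    [7, 6, 5, 4, 3, 2, 1, 0, 8, 3, 2, 1, 4, 3, 5, 4, 6, 9, 8, 3, 2, 1, 0, 4, 3, 2, 5],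
    [7, 6, 5, 4, 3, 2, 1, 0, 8, 3, 2, 1, 4, 3, 5, 4, 6, 9, 8, 3, 2, 1, 4, 3, 2, 5, 4],
    [7, 6, 5, 4, 3, 2, 1, 0, 8, 3, 2, 1, 4, 3, 5, 4, 6, 9, 8, 3, 2, 1, 4, 3, 5, 4, 6],
    [7, 6, 5, 4, 3, 2, 1, 0, 8, 3, 2, 1, 4, 3, 5, 4, 6, 9, 8, 3, 2, 1, 4, 3, 5, 6, 8],
    [7, 6, 5, 4, 3, 2, 1, 0, 8, 3, 2, 1, 4, 3, 5, 4, 6, 9, 8, 3, 2, 1, 4, 3, 5, 8, 9],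
    [7, 6, 5, 4, 3, 2, 1, 0, 8, 3, 2, 1, 4, 3, 5, 4, 6, 9, 8, 3, 2, 4, 3, 5, 4, 6, 5],
    [7, 6, 5, 4, 3, 2, 1, 0, 8, 3, 2, 1, 4, 3, 5, 4, 6, 9, 8, 3, 2, 4, 3, 5, 4, 6, 7],
    [7, 6, 5, 4, 3, 2, 1, 0, 8, 3, 2, 1, 4, 3, 5, 4, 6, 9, 8, 3, 2, 4, 3, 5, 6, 7, 8],
    [7, 6, 5, 4, 3, 2, 1, 0, 8, 3, 2, 1, 4, 3, 5, 4, 8, 3, 9, 8, 3, 2, 4, 3, 5, 4, 6],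
    [7, 6, 5, 4, 3, 2, 1, 0, 8, 3, 2, 1, 4, 3, 5, 4, 8, 9, 8, 3, 2, 1, 4, 3, 2, 8, 9],
    [7, 6, 5, 4, 3, 2, 1, 0, 8, 3, 2, 1, 4, 3, 5, 4, 8, 9, 8, 3, 2, 1, 4, 3, 5, 4, 6],
    [7, 6, 5, 4, 3, 2, 1, 0, 8, 3, 2, 1, 4, 3, 5, 4, 8, 9, 8, 3, 2, 1, 4, 3, 5, 4, 8],
    [7, 6, 5, 4, 3, 2, 1, 0, 8, 3, 2, 1, 4, 3, 5, 4, 8, 9, 8, 3, 2, 4, 3, 5, 6, 8, 9],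
    [7, 6, 5, 4, 3, 2, 1, 0, 8, 3, 2, 1, 4, 3, 5, 4, 9, 8, 3, 2, 1, 0, 4, 3, 2, 5, 4],
    [7, 6, 5, 4, 3, 2, 1, 0, 8, 3, 2, 1, 4, 3, 5, 4, 9, 8, 3, 2, 1, 0, 4, 3, 2, 5, 6],
    [7, 6, 5, 4, 3, 2, 1, 0, 8, 3, 2, 1, 4, 3, 5, 4, 9, 8, 3, 2, 1, 0, 4, 3, 2, 5, 8],
    [7, 6, 5, 4, 3, 2, 1, 0, 8, 3, 2, 1, 4, 3, 5, 4, 9, 8, 3, 2, 1, 0, 4, 3, 2, 8, 3],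
    [7, 6, 5, 4, 3, 2, 1, 0, 8, 3, 2, 1, 4, 3, 5, 4, 9, 8, 3, 2, 1, 0, 4, 3, 5, 4, 6],
    [7, 6, 5, 4, 3, 2, 1, 0, 8, 3, 2, 1, 4, 3, 5, 4, 9, 8, 3, 2, 1, 0, 4, 3, 5, 4, 8],
    [7, 6, 5, 4, 3, 2, 1, 0, 8, 3, 2, 1, 4, 3, 5, 4, 9, 8, 3, 2, 1, 0, 4, 3, 5, 6, 7],
    [7, 6, 5, 4, 3, 2, 1, 0, 8, 3, 2, 1, 4, 3, 5, 4, 9, 8, 3, 2, 1, 0, 4, 3, 5, 6, 8],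
    [7, 6, 5, 4, 3, 2, 1, 0, 8, 3, 2, 1, 4, 3, 5, 4, 9, 8, 3, 2, 1, 4, 3, 2, 5, 4, 3],
    [7, 6, 5, 4, 3, 2, 1, 0, 8, 3, 2, 1, 4, 3, 5, 4, 9, 8, 3, 2, 1, 4, 3, 2, 5, 4, 8],
    [7, 6, 5, 4, 3, 2, 1, 0, 8, 3, 2, 1, 4, 3, 5, 4, 9, 8, 3, 2, 1, 4, 3, 2, 5, 6, 7],
    [7, 6, 5, 4, 3, 2, 1, 0, 8, 3, 2, 1, 4, 3, 5, 4, 9, 8, 3, 2, 1, 4, 3, 2, 8, 3, 4],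
    [7, 6, 5, 4, 3, 2, 1, 0, 8, 3, 2, 1, 4, 3, 5, 4, 9, 8, 3, 2, 1, 4, 3, 2, 8, 3, 9],
    [7, 6, 5, 4, 3, 2, 1, 0, 8, 3, 2, 1, 4, 3, 5, 4, 9, 8, 3, 2, 1, 4, 3, 5, 4, 6, 5],
    [7, 6, 5, 4, 3, 2, 1, 0, 8, 3, 2, 1, 4, 3, 5, 4, 9, 8, 3, 2, 1, 4, 3, 5, 4, 6, 7],
    [7, 6, 5, 4, 3, 2, 1, 0, 8, 3, 2, 1, 4, 3, 5, 4, 9, 8, 3, 2, 1, 4, 3, 5, 4, 8, 9],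
    [7, 6, 5, 4, 3, 2, 1, 0, 8, 3, 2, 1, 4, 3, 5, 4, 9, 8, 3, 2, 1, 4, 3, 5, 6, 8, 9],
    [7, 6, 5, 4, 3, 2, 1, 0, 8, 3, 2, 1, 4, 3, 5, 4, 9, 8, 3, 2, 4, 3, 5, 4, 6, 5, 7],
    [7, 6, 5, 4, 3, 2, 1, 0, 8, 3, 2, 1, 4, 3, 5, 6, 7, 8, 9, 8, 3, 2, 1, 4, 3, 2, 5],
    [7, 6, 5, 4, 3, 2, 1, 0, 8, 3, 2, 1, 4, 3, 5, 6, 7, 8, 9, 8, 3, 2, 1, 4, 3, 5, 6],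
    [7, 6, 5, 4, 3, 2, 1, 0, 8, 3, 2, 1, 4, 3, 5, 6, 7, 9, 8, 3, 2, 1, 0, 4, 3, 5, 4],
    [7, 6, 5, 4, 3, 2, 1, 0, 8, 3, 2, 1, 4, 3, 5, 6, 7, 9, 8, 3, 2, 1, 4, 3, 5, 4, 6],
    [7, 6, 5, 4, 3, 2, 1, 0, 8, 3, 2, 1, 4, 3, 5, 6, 7, 9, 8, 3, 2, 1, 4, 3, 5, 6, 7],
    [7, 6, 5, 4, 3, 2, 1, 0, 8, 3, 2, 1, 4, 3, 5, 6, 7, 9, 8, 3, 2, 1, 4, 3, 5, 8, 9]]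

/-- A part of the representatives. -/
def repsV_16 : List (List ℕ) :=
  [[7, 6, 5, 4, 3, 2, 1, 0, 8, 3, 2, 1, 4, 3, 5, 6, 8, 9, 8, 3, 2, 1, 0, 4, 3, 2, 5],
    [7, 6, 5, 4, 3, 2, 1, 0, 8, 3, 2, 1, 4, 3, 5, 6, 8, 9, 8, 3, 2, 1, 0, 4, 3, 5, 4],
    [7, 6, 5, 4, 3, 2, 1, 0, 8, 3, 2, 1, 4, 3, 5, 6, 8, 9, 8, 3, 2, 1, 0, 4, 3, 5, 6],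
    [7, 6, 5, 4, 3, 2, 1, 0, 8, 3, 2, 1, 4, 3, 5, 6, 8, 9, 8, 3, 2, 1, 4, 3, 2, 5, 4],
    [7, 6, 5, 4, 3, 2, 1, 0, 8, 3, 2, 1, 4, 3, 5, 6, 8, 9, 8, 3, 2, 1, 4, 3, 5, 4, 6],
    [7, 6, 5, 4, 3, 2, 1, 0, 8, 3, 2, 1, 4, 3, 5, 6, 8, 9, 8, 3, 2, 1, 4, 3, 5, 6, 8],
    [7, 6, 5, 4, 3, 2, 1, 0, 8, 3, 2, 1, 4, 3, 5, 6, 8, 9, 8, 3, 2, 1, 4, 3, 5, 8, 9],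
    [7, 6, 5, 4, 3, 2, 1, 0, 8, 3, 2, 1, 4, 3, 5, 6, 8, 9, 8, 3, 2, 4, 3, 5, 4, 8, 9],
    [7, 6, 5, 4, 3, 2, 1, 0, 8, 3, 2, 1, 4, 3, 5, 6, 8, 9, 8, 3, 2, 4, 3, 5, 6, 7, 8],
    [7, 6, 5, 4, 3, 2, 1, 0, 8, 3, 2, 1, 4, 3, 5, 6, 9, 8, 3, 2, 1, 0, 4, 3, 2, 5, 4],
    [7, 6, 5, 4, 3, 2, 1, 0, 8, 3, 2, 1, 4, 3, 5, 6, 9, 8, 3, 2, 1, 0, 4, 3, 2, 5, 6],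
    [7, 6, 5, 4, 3, 2, 1, 0, 8, 3, 2, 1, 4, 3, 5, 6, 9, 8, 3, 2, 1, 0, 4, 3, 2, 8, 9],
    [7, 6, 5, 4, 3, 2, 1, 0, 8, 3, 2, 1, 4, 3, 5, 6, 9, 8, 3, 2, 1, 0, 4, 3, 5, 4, 6],
    [7, 6, 5, 4, 3, 2, 1, 0, 8, 3, 2, 1, 4, 3, 5, 6, 9, 8, 3, 2, 1, 0, 4, 3, 5, 4, 8],
    [7, 6, 5, 4, 3, 2, 1, 0, 8, 3, 2, 1, 4, 3, 5, 6, 9, 8, 3, 2, 1, 0, 4, 3, 5, 6, 7],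
    [7, 6, 5, 4, 3, 2, 1, 0, 8, 3, 2, 1, 4, 3, 5, 6, 9, 8, 3, 2, 1, 0, 4, 3, 5, 8, 9],
    [7, 6, 5, 4, 3, 2, 1, 0, 8, 3, 2, 1, 4, 3, 5, 6, 9, 8, 3, 2, 1, 4, 3, 2, 5, 4, 8],
    [7, 6, 5, 4, 3, 2, 1, 0, 8, 3, 2, 1, 4, 3, 5, 6, 9, 8, 3, 2, 1, 4, 3, 2, 5, 6, 7],
    [7, 6, 5, 4, 3, 2, 1, 0, 8, 3, 2, 1, 4, 3, 5, 6, 9, 8, 3, 2, 1, 4, 3, 2, 5, 8, 9],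
    [7, 6, 5, 4, 3, 2, 1, 0, 8, 3, 2, 1, 4, 3, 5, 6, 9, 8, 3, 2, 1, 4, 3, 2, 8, 3, 9],
    [7, 6, 5, 4, 3, 2, 1, 0, 8, 3, 2, 1, 4, 3, 5, 6, 9, 8, 3, 2, 1, 4, 3, 5, 4, 6, 5],
    [7, 6, 5, 4, 3, 2, 1, 0, 8, 3, 2, 1, 4, 3, 5, 6, 9, 8, 3, 2, 1, 4, 3, 5, 4, 6, 7],
    [7, 6, 5, 4, 3, 2, 1, 0, 8, 3, 2, 1, 4, 3, 5, 6, 9, 8, 3, 2, 1, 4, 3, 5, 4, 8, 9],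
    [7, 6, 5, 4, 3, 2, 1, 0, 8, 3, 2, 1, 4, 3, 5, 6, 9, 8, 3, 2, 1, 4, 3, 5, 6, 8, 9],
    [7, 6, 5, 4, 3, 2, 1, 0, 8, 3, 2, 1, 4, 3, 5, 6, 9, 8, 3, 2, 4, 3, 5, 4, 6, 8, 3],
    [7, 6, 5, 4, 3, 2, 1, 0, 8, 3, 2, 1, 4, 3, 5, 6, 9, 8, 3, 2, 4, 3, 5, 4, 8, 3, 2],
    [7, 6, 5, 4, 3, 2, 1, 0, 8, 3, 2, 1, 4, 3, 5, 8, 9, 8, 3, 2, 1, 0, 4, 3, 2, 5, 4],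
    [7, 6, 5, 4, 3, 2, 1, 0, 8, 3, 2, 1, 4, 3, 5, 8, 9, 8, 3, 2, 1, 0, 4, 3, 2, 5, 6],
    [7, 6, 5, 4, 3, 2, 1, 0, 8, 3, 2, 1, 4, 3, 5, 8, 9, 8, 3, 2, 1, 0, 4, 3, 2, 8, 9],
    [7, 6, 5, 4, 3, 2, 1, 0, 8, 3, 2, 1, 4, 3, 5, 8, 9, 8, 3, 2, 1, 0, 4, 3, 5, 4, 6],
    [7, 6, 5, 4, 3, 2, 1, 0, 8, 3, 2, 1, 4, 3, 5, 8, 9, 8, 3, 2, 1, 0, 4, 3, 5, 6, 7],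
    [7, 6, 5, 4, 3, 2, 1, 0, 8, 3, 2, 1, 4, 3, 5, 8, 9, 8, 3, 2, 1, 0, 4, 3, 5, 6, 8],
    [7, 6, 5, 4, 3, 2, 1, 0, 8, 3, 2, 1, 4, 3, 5, 8, 9, 8, 3, 2, 1, 0, 4, 3, 5, 8, 9],
    [7, 6, 5, 4, 3, 2, 1, 0, 8, 3, 2, 1, 4, 3, 5, 8, 9, 8, 3, 2, 1, 4, 3, 5, 4, 6, 7],
    [7, 6, 5, 4, 3, 2, 1, 0, 8, 3, 2, 1, 4, 3, 5, 8, 9, 8, 3, 2, 1, 4, 3, 5, 4, 6, 8],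
    [7, 6, 5, 4, 3, 2, 1, 0, 8, 3, 2, 1, 4, 3, 5, 8, 9, 8, 3, 2, 1, 4, 3, 5, 4, 8, 9],
    [7, 6, 5, 4, 3, 2, 1, 0, 8, 3, 2, 1, 4, 3, 5, 8, 9, 8, 3, 2, 4, 3, 5, 4, 6, 7, 8],
    [7, 6, 5, 4, 3, 2, 1, 0, 8, 3, 2, 1, 4, 3, 5, 8, 9, 8, 3, 2, 4, 3, 5, 4, 8, 3, 2],
    [7, 6, 5, 4, 3, 2, 1, 0, 8, 3, 2, 1, 4, 3, 5, 9, 8, 3, 2, 1, 0, 4, 3, 2, 1, 5, 4],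
    [7, 6, 5, 4, 3, 2, 1, 0, 8, 3, 2, 1, 4, 3, 5, 9, 8, 3, 2, 1, 0, 4, 3, 2, 5, 8, 9],
    [7, 6, 5, 4, 3, 2, 1, 0, 8, 3, 2, 1, 4, 3, 5, 9, 8, 3, 2, 1, 0, 4, 3, 5, 4, 6, 7],
    [7, 6, 5, 4, 3, 2, 1, 0, 8, 3, 2, 1, 4, 3, 5, 9, 8, 3, 2, 1, 0, 4, 3, 5, 4, 6, 8],
    [7, 6, 5, 4, 3, 2, 1, 0, 8, 3, 2, 1, 4, 3, 5, 9, 8, 3, 2, 1, 0, 4, 3, 5, 4, 8, 9],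
    [7, 6, 5, 4, 3, 2, 1, 0, 8, 3, 2, 1, 4, 3, 5, 9, 8, 3, 2, 1, 0, 4, 3, 5, 6, 7, 8],
    [7, 6, 5, 4, 3, 2, 1, 0, 8, 3, 2, 1, 4, 3, 5, 9, 8, 3, 2, 1, 4, 3, 2, 5, 4, 8, 9],
    [7, 6, 5, 4, 3, 2, 1, 0, 8, 3, 2, 1, 4, 3, 5, 9, 8, 3, 2, 1, 4, 3, 2, 5, 8, 3, 9],
    [7, 6, 5, 4, 3, 2, 1, 0, 8, 3, 2, 1, 4, 3, 5, 9, 8, 3, 2, 1, 4, 3, 5, 4, 6, 5, 8],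
    [7, 6, 5, 4, 3, 2, 1, 0, 8, 3, 2, 1, 4, 3, 5, 9, 8, 3, 2, 4, 3, 5, 4, 6, 5, 7, 6],
    [7, 6, 5, 4, 3, 2, 1, 0, 8, 3, 2, 1, 4, 3, 5, 9, 8, 3, 2, 4, 3, 5, 4, 6, 5, 7, 8],
    [7, 6, 5, 4, 3, 2, 1, 0, 8, 3, 2, 1, 4, 3, 5, 9, 8, 3, 2, 4, 3, 5, 4, 6, 5, 8, 3],
    [7, 6, 5, 4, 3, 2, 1, 0, 8, 3, 2, 1, 4, 3, 5, 9, 8, 3, 2, 4, 3, 5, 4, 6, 7, 8, 9],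
    [7, 6, 5, 4, 3, 2, 1, 0, 8, 3, 2, 1, 4, 3, 5, 9, 8, 3, 2, 4, 3, 5, 4, 8, 3, 2, 9],
    [7, 6, 5, 4, 3, 2, 1, 0, 8, 3, 2, 1, 4, 3, 8, 9, 8, 3, 2, 4, 3, 5, 4, 6, 5, 8, 9],
    [7, 6, 5, 4, 3, 2, 1, 0, 8, 3, 2, 1, 4, 3, 8, 9, 8, 3, 2, 4, 3, 5, 4, 6, 8, 3, 2],
    [7, 6, 5, 4, 3, 2, 1, 0, 8, 3, 2, 1, 4, 3, 8, 9, 8, 3, 2, 4, 3, 5, 4, 8, 3, 2, 9],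
    [7, 6, 5, 4, 3, 2, 1, 0, 8, 3, 2, 1, 4, 3, 9, 8, 3, 2, 1, 0, 4, 3, 2, 5, 4, 6, 5],
    [7, 6, 5, 4, 3, 2, 1, 0, 8, 3, 2, 1, 4, 3, 9, 8, 3, 2, 1, 0, 4, 3, 5, 4, 6, 5, 7],
    [7, 6, 5, 4, 3, 2, 1, 0, 8, 3, 2, 1, 4, 3, 9, 8, 3, 2, 1, 4, 3, 2, 5, 4, 3, 6, 5],
    [7, 6, 5, 4, 3, 2, 1, 0, 8, 3, 2, 1, 4, 3, 9, 8, 3, 2, 1, 4, 3, 2, 5, 4, 3, 6, 7],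
    [7, 6, 5, 4, 3, 2, 1, 0, 8, 3, 2, 1, 4, 3, 9, 8, 3, 2, 1, 4, 3, 2, 5, 4, 8, 3, 2],
    [7, 6, 5, 4, 3, 2, 1, 0, 8, 3, 2, 1, 4, 3, 9, 8, 3, 2, 1, 4, 3, 5, 4, 6, 5, 7, 6],
    [7, 6, 5, 4, 3, 2, 1, 0, 8, 3, 2, 1, 4, 3, 9, 8, 3, 2, 1, 4, 3, 5, 4, 8, 3, 2, 9],
    [7, 6, 5, 4, 3, 2, 1, 0, 8, 3, 2, 1, 4, 3, 9, 8, 3, 2, 4, 3, 5, 4, 6, 5, 8, 3, 4],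
    [7, 6, 5, 4, 3, 2, 1, 0, 8, 3, 2, 1, 4, 3, 9, 8, 3, 2, 4, 3, 5, 4, 6, 5, 8, 3, 9],
    [7, 6, 5, 4, 3, 2, 1, 0, 8, 3, 2, 1, 4, 3, 9, 8, 3, 2, 4, 3, 5, 4, 6, 8, 3, 2, 1],
    [7, 6, 5, 4, 3, 2, 1, 0, 8, 3, 2, 1, 4, 5, 6, 7, 9, 8, 3, 2, 1, 4, 3, 5, 4, 6, 5],
    [7, 6, 5, 4, 3, 2, 1, 0, 8, 3, 2, 1, 4, 5, 6, 7, 9, 8, 3, 2, 1, 4, 3, 5, 4, 6, 7],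
    [7, 6, 5, 4, 3, 2, 1, 0, 8, 3, 2, 1, 4, 5, 6, 7, 9, 8, 3, 2, 4, 3, 5, 4, 6, 7, 8],
    [7, 6, 5, 4, 3, 2, 1, 0, 8, 3, 2, 1, 4, 5, 6, 7, 9, 8, 3, 2, 4, 3, 5, 4, 8, 3, 2],
    [7, 6, 5, 4, 3, 2, 1, 0, 8, 3, 2, 1, 4, 5, 6, 9, 8, 3, 2, 1, 0, 4, 3, 2, 5, 4, 3],
    [7, 6, 5, 4, 3, 2, 1, 0, 8, 3, 2, 1, 4, 5, 6, 9, 8, 3, 2, 1, 0, 4, 3, 2, 5, 4, 6],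
    [7, 6, 5, 4, 3, 2, 1, 0, 8, 3, 2, 1, 4, 5, 6, 9, 8, 3, 2, 1, 0, 4, 3, 2, 5, 6, 7],
    [7, 6, 5, 4, 3, 2, 1, 0, 8, 3, 2, 1, 4, 5, 6, 9, 8, 3, 2, 1, 0, 4, 3, 5, 4, 8, 9],
    [7, 6, 5, 4, 3, 2, 1, 0, 8, 3, 2, 1, 4, 5, 6, 9, 8, 3, 2, 1, 4, 3, 2, 5, 4, 6, 5],
    [7, 6, 5, 4, 3, 2, 1, 0, 8, 3, 2, 1, 4, 5, 6, 9, 8, 3, 2, 1, 4, 3, 2, 5, 6, 7, 8],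
    [7, 6, 5, 4, 3, 2, 1, 0, 8, 3, 2, 1, 4, 5, 6, 9, 8, 3, 2, 1, 4, 3, 2, 5, 6, 8, 3],
    [7, 6, 5, 4, 3, 2, 1, 0, 8, 3, 2, 1, 4, 5, 6, 9, 8, 3, 2, 1, 4, 3, 2, 5, 6, 8, 9],
    [7, 6, 5, 4, 3, 2, 1, 0, 8, 3, 2, 1, 4, 5, 6, 9, 8, 3, 2, 1, 4, 3, 2, 5, 8, 3, 4],
    [7, 6, 5, 4, 3, 2, 1, 0, 8, 3, 2, 1, 4, 5, 6, 9, 8, 3, 2, 1, 4, 3, 2, 5, 8, 3, 9],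
    [7, 6, 5, 4, 3, 2, 1, 0, 8, 3, 2, 1, 4, 5, 6, 9, 8, 3, 2, 4, 3, 5, 4, 6, 5, 8, 3],
    [7, 6, 5, 4, 3, 2, 1, 0, 8, 3, 2, 1, 4, 5, 6, 9, 8, 3, 2, 4, 3, 5, 4, 6, 7, 8, 9],
    [7, 6, 5, 4, 3, 2, 1, 0, 8, 3, 2, 1, 4, 5, 6, 9, 8, 3, 2, 4, 3, 5, 4, 8, 3, 2, 1],
    [7, 6, 5, 4, 3, 2, 1, 0, 8, 3, 2, 1, 4, 5, 6, 9, 8, 3, 2, 4, 3, 5, 4, 8, 3, 2, 9],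
    [7, 6, 5, 4, 3, 2, 1, 0, 8, 3, 2, 1, 4, 5, 9, 8, 3, 2, 1, 0, 4, 3, 5, 6, 7, 8, 9],
    [7, 6, 5, 4, 3, 2, 1, 0, 8, 3, 2, 1, 4, 5, 9, 8, 3, 2, 1, 4, 3, 2, 5, 4, 6, 7, 8],
    [7, 6, 5, 4, 3, 2, 1, 0, 8, 3, 2, 1, 4, 5, 9, 8, 3, 2, 1, 4, 3, 2, 5, 4, 6, 8, 9],
    [7, 6, 5, 4, 3, 2, 1, 0, 8, 3, 2, 1, 4, 5, 9, 8, 3, 2, 1, 4, 3, 2, 5, 6, 7, 8, 3],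
    [7, 6, 5, 4, 3, 2, 1, 0, 8, 3, 2, 1, 4, 5, 9, 8, 3, 2, 1, 4, 3, 2, 5, 6, 8, 3, 9],
    [7, 6, 5, 4, 3, 2, 1, 0, 8, 3, 2, 1, 4, 5, 9, 8, 3, 2, 1, 4, 3, 2, 5, 8, 3, 4, 5],
    [7, 6, 5, 4, 3, 2, 1, 0, 8, 3, 2, 1, 4, 5, 9, 8, 3, 2, 1, 4, 3, 2, 8, 3, 4, 5, 9],
    [7, 6, 5, 4, 3, 2, 1, 0, 8, 3, 2, 1, 4, 5, 9, 8, 3, 2, 1, 4, 3, 5, 4, 6, 5, 8, 3],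
    [7, 6, 5, 4, 3, 2, 1, 0, 8, 3, 2, 1, 4, 5, 9, 8, 3, 2, 1, 4, 3, 5, 4, 6, 5, 8, 9],
    [7, 6, 5, 4, 3, 2, 1, 0, 8, 3, 2, 1, 4, 5, 9, 8, 3, 2, 1, 4, 3, 5, 4, 6, 7, 8, 9],
    [7, 6, 5, 4, 3, 2, 1, 0, 8, 3, 2, 1, 4, 5, 9, 8, 3, 2, 1, 4, 3, 5, 4, 8, 3, 2, 9],
    [7, 6, 5, 4, 3, 2, 1, 0, 8, 3, 2, 1, 4, 5, 9, 8, 3, 2, 4, 3, 5, 4, 6, 5, 7, 8, 9],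
    [7, 6, 5, 4, 3, 2, 1, 0, 8, 3, 2, 1, 4, 5, 9, 8, 3, 2, 4, 3, 5, 4, 6, 7, 8, 3, 2],
    [7, 6, 5, 4, 3, 2, 1, 0, 8, 3, 2, 1, 4, 5, 9, 8, 3, 2, 4, 3, 5, 4, 6, 8, 3, 9, 8],
    [7, 6, 5, 4, 3, 2, 1, 0, 8, 3, 2, 1, 4, 5, 9, 8, 3, 2, 4, 3, 5, 4, 8, 3, 2, 1, 9],
    [7, 6, 5, 4, 3, 2, 1, 0, 8, 3, 2, 1, 4, 9, 8, 3, 2, 1, 0, 4, 3, 5, 4, 6, 5, 8, 9],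
    [7, 6, 5, 4, 3, 2, 1, 0, 8, 3, 2, 1, 4, 9, 8, 3, 2, 1, 0, 4, 3, 5, 4, 6, 7, 8, 9],
    [7, 6, 5, 4, 3, 2, 1, 0, 8, 3, 2, 1, 4, 9, 8, 3, 2, 1, 0, 4, 3, 5, 4, 6, 8, 3, 9],
    [7, 6, 5, 4, 3, 2, 1, 0, 8, 3, 2, 1, 4, 9, 8, 3, 2, 1, 0, 4, 3, 5, 4, 8, 3, 2, 1],
    [7, 6, 5, 4, 3, 2, 1, 0, 8, 3, 2, 1, 4, 9, 8, 3, 2, 1, 0, 4, 3, 5, 4, 8, 3, 2, 9],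
    [7, 6, 5, 4, 3, 2, 1, 0, 8, 3, 2, 1, 4, 9, 8, 3, 2, 1, 4, 3, 5, 4, 6, 5, 7, 8, 3],
    [7, 6, 5, 4, 3, 2, 1, 0, 8, 3, 2, 1, 4, 9, 8, 3, 2, 1, 4, 3, 5, 4, 6, 5, 8, 3, 9],
    [7, 6, 5, 4, 3, 2, 1, 0, 8, 3, 2, 1, 4, 9, 8, 3, 2, 1, 4, 3, 5, 4, 6, 7, 8, 3, 2],
    [7, 6, 5, 4, 3, 2, 1, 0, 8, 3, 2, 1, 4, 9, 8, 3, 2, 1, 4, 3, 5, 4, 6, 7, 8, 3, 9],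
    [7, 6, 5, 4, 3, 2, 1, 0, 8, 3, 2, 1, 4, 9, 8, 3, 2, 1, 4, 3, 5, 4, 6, 8, 3, 2, 1],
    [7, 6, 5, 4, 3, 2, 1, 0, 8, 3, 2, 1, 4, 9, 8, 3, 2, 1, 4, 3, 5, 4, 6, 8, 3, 2, 9],
    [7, 6, 5, 4, 3, 2, 1, 0, 8, 3, 2, 1, 4, 9, 8, 3, 2, 1, 4, 3, 5, 4, 8, 3, 2, 1, 0],
    [7, 6, 5, 4, 3, 2, 1, 0, 8, 3, 2, 1, 4, 9, 8, 3, 2, 1, 4, 3, 5, 4, 8, 3, 2, 9, 8],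
    [7, 6, 5, 4, 3, 2, 1, 0, 8, 3, 2, 1, 4, 9, 8, 3, 2, 4, 3, 5, 4, 8, 3, 2, 1, 0, 9],
    [7, 6, 5, 4, 3, 2, 1, 0, 8, 3, 2, 4, 3, 5, 4, 8, 9, 8, 3, 2, 1, 4, 3, 2, 5, 4, 3],
    [7, 6, 5, 4, 3, 2, 1, 0, 8, 3, 2, 4, 3, 5, 4, 9, 8, 3, 2, 1, 4, 3, 2, 5, 4, 3, 6],
    [7, 6, 5, 4, 3, 2, 1, 0, 8, 3, 2, 4, 3, 5, 4, 9, 8, 3, 2, 1, 4, 3, 2, 8, 3, 4, 5],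
    [7, 6, 5, 4, 3, 2, 1, 0, 8, 3, 2, 4, 3, 5, 6, 9, 8, 3, 2, 1, 4, 3, 2, 5, 4, 3, 6],
    [7, 6, 5, 4, 3, 2, 1, 0, 8, 3, 2, 4, 3, 5, 6, 9, 8, 3, 2, 1, 4, 3, 2, 5, 4, 3, 8],
    [7, 6, 5, 4, 3, 2, 1, 0, 8, 3, 2, 4, 3, 5, 6, 9, 8, 3, 2, 1, 4, 3, 2, 5, 8, 3, 4],
    [7, 6, 5, 4, 3, 2, 1, 0, 8, 3, 2, 4, 3, 5, 9, 8, 3, 2, 1, 4, 3, 2, 5, 4, 6, 8, 3],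
    [7, 6, 5, 4, 3, 2, 1, 0, 8, 3, 2, 4, 3, 5, 9, 8, 3, 2, 1, 4, 3, 2, 5, 6, 7, 8, 3],
    [7, 6, 5, 4, 3, 2, 1, 0, 8, 3, 2, 4, 3, 5, 9, 8, 3, 2, 1, 4, 3, 2, 5, 8, 3, 4, 5],
    [7, 6, 5, 4, 3, 2, 1, 0, 8, 3, 2, 4, 3, 8, 9, 8, 3, 2, 1, 4, 3, 2, 5, 4, 3, 6, 7],
    [7, 6, 5, 4, 3, 2, 1, 0, 8, 3, 2, 4, 3, 9, 8, 3, 2, 1, 0, 4, 3, 2, 5, 4, 3, 6, 5],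
    [7, 6, 5, 4, 3, 2, 1, 0, 8, 3, 2, 4, 3, 9, 8, 3, 2, 1, 0, 4, 3, 2, 5, 4, 3, 6, 7],
    [7, 6, 5, 4, 3, 2, 1, 0, 8, 3, 2, 4, 3, 9, 8, 3, 2, 1, 0, 4, 3, 2, 5, 4, 3, 6, 8],
    [7, 6, 5, 4, 3, 2, 1, 0, 8, 3, 2, 4, 3, 9, 8, 3, 2, 1, 4, 3, 2, 5, 4, 3, 6, 5, 4],
    [7, 6, 5, 4, 3, 2, 1, 0, 8, 3, 2, 4, 3, 9, 8, 3, 2, 1, 4, 3, 2, 5, 4, 3, 6, 5, 7],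
    [7, 6, 5, 4, 3, 2, 1, 0, 8, 3, 2, 4, 3, 9, 8, 3, 2, 1, 4, 3, 2, 5, 4, 3, 6, 5, 8]]

/-- A part of the representatives. -/
def repsV_17 : List (List ℕ) :=
  [[7, 6, 5, 4, 3, 2, 1, 0, 8, 3, 2, 4, 3, 9, 8, 3, 2, 1, 4, 3, 2, 5, 4, 3, 6, 8, 9],
    [7, 6, 5, 4, 3, 2, 1, 0, 8, 3, 2, 4, 5, 6, 9, 8, 3, 2, 1, 4, 3, 2, 5, 4, 3, 8, 3],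
    [7, 6, 5, 4, 3, 2, 1, 0, 8, 3, 2, 4, 5, 6, 9, 8, 3, 2, 1, 4, 3, 2, 5, 4, 3, 8, 9],
    [7, 6, 5, 4, 3, 2, 1, 0, 8, 3, 2, 4, 5, 6, 9, 8, 3, 2, 1, 4, 3, 2, 5, 4, 8, 3, 4],
    [7, 6, 5, 4, 3, 2, 1, 0, 8, 3, 2, 4, 5, 6, 9, 8, 3, 2, 1, 4, 3, 2, 5, 6, 8, 3, 4],
    [7, 6, 5, 4, 3, 2, 1, 0, 8, 3, 2, 4, 5, 9, 8, 3, 2, 1, 4, 3, 2, 8, 3, 4, 5, 6, 7],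
    [7, 6, 5, 4, 3, 2, 1, 0, 8, 3, 2, 1, 4, 3, 2, 5, 4, 3, 6, 5, 7, 9, 8, 3, 4, 5, 6, 7],
    [7, 6, 5, 4, 3, 2, 1, 0, 8, 3, 2, 1, 4, 3, 2, 5, 4, 3, 6, 7, 9, 8, 3, 2, 4, 5, 6, 7],
    [7, 6, 5, 4, 3, 2, 1, 0, 8, 3, 2, 1, 4, 3, 2, 5, 4, 3, 6, 9, 8, 3, 2, 1, 0, 4, 3, 2],
    [7, 6, 5, 4, 3, 2, 1, 0, 8, 3, 2, 1, 4, 3, 2, 5, 4, 3, 6, 9, 8, 3, 2, 1, 4, 3, 5, 8],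
    [7, 6, 5, 4, 3, 2, 1, 0, 8, 3, 2, 1, 4, 3, 2, 5, 4, 3, 6, 9, 8, 3, 2, 4, 3, 5, 4, 8],
    [7, 6, 5, 4, 3, 2, 1, 0, 8, 3, 2, 1, 4, 3, 2, 5, 4, 3, 6, 9, 8, 3, 2, 4, 3, 5, 8, 9],
    [7, 6, 5, 4, 3, 2, 1, 0, 8, 3, 2, 1, 4, 3, 2, 5, 4, 3, 9, 8, 3, 2, 1, 0, 4, 5, 6, 7],
    [7, 6, 5, 4, 3, 2, 1, 0, 8, 3, 2, 1, 4, 3, 2, 5, 4, 3, 9, 8, 3, 2, 1, 4, 3, 2, 5, 4],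
    [7, 6, 5, 4, 3, 2, 1, 0, 8, 3, 2, 1, 4, 3, 2, 5, 4, 3, 9, 8, 3, 2, 1, 4, 3, 2, 8, 9],
    [7, 6, 5, 4, 3, 2, 1, 0, 8, 3, 2, 1, 4, 3, 2, 5, 4, 3, 9, 8, 3, 2, 1, 4, 3, 5, 4, 6],
    [7, 6, 5, 4, 3, 2, 1, 0, 8, 3, 2, 1, 4, 3, 2, 5, 4, 3, 9, 8, 3, 2, 4, 3, 5, 4, 8, 9],
    [7, 6, 5, 4, 3, 2, 1, 0, 8, 3, 2, 1, 4, 3, 2, 5, 4, 6, 5, 7, 8, 9, 8, 3, 4, 5, 6, 7],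
    [7, 6, 5, 4, 3, 2, 1, 0, 8, 3, 2, 1, 4, 3, 2, 5, 4, 6, 5, 8, 9, 8, 3, 2, 4, 3, 5, 4],
    [7, 6, 5, 4, 3, 2, 1, 0, 8, 3, 2, 1, 4, 3, 2, 5, 4, 6, 5, 9, 8, 3, 2, 1, 4, 3, 5, 8],
    [7, 6, 5, 4, 3, 2, 1, 0, 8, 3, 2, 1, 4, 3, 2, 5, 4, 6, 5, 9, 8, 3, 2, 4, 3, 5, 8, 9],
    [7, 6, 5, 4, 3, 2, 1, 0, 8, 3, 2, 1, 4, 3, 2, 5, 4, 6, 7, 9, 8, 3, 2, 1, 0, 4, 3, 8],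
    [7, 6, 5, 4, 3, 2, 1, 0, 8, 3, 2, 1, 4, 3, 2, 5, 4, 6, 7, 9, 8, 3, 2, 1, 4, 5, 6, 7],
    [7, 6, 5, 4, 3, 2, 1, 0, 8, 3, 2, 1, 4, 3, 2, 5, 4, 6, 8, 9, 8, 3, 2, 1, 4, 3, 2, 5],
    [7, 6, 5, 4, 3, 2, 1, 0, 8, 3, 2, 1, 4, 3, 2, 5, 4, 6, 8, 9, 8, 3, 2, 1, 4, 3, 5, 6],
    [7, 6, 5, 4, 3, 2, 1, 0, 8, 3, 2, 1, 4, 3, 2, 5, 4, 6, 8, 9, 8, 3, 2, 1, 4, 3, 5, 8],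
    [7, 6, 5, 4, 3, 2, 1, 0, 8, 3, 2, 1, 4, 3, 2, 5, 4, 6, 8, 9, 8, 3, 2, 1, 4, 5, 6, 7],
    [7, 6, 5, 4, 3, 2, 1, 0, 8, 3, 2, 1, 4, 3, 2, 5, 4, 6, 9, 8, 3, 2, 1, 0, 4, 3, 8, 9],
    [7, 6, 5, 4, 3, 2, 1, 0, 8, 3, 2, 1, 4, 3, 2, 5, 4, 6, 9, 8, 3, 2, 1, 4, 3, 2, 8, 9],
    [7, 6, 5, 4, 3, 2, 1, 0, 8, 3, 2, 1, 4, 3, 2, 5, 4, 6, 9, 8, 3, 2, 1, 4, 3, 5, 8, 9],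
    [7, 6, 5, 4, 3, 2, 1, 0, 8, 3, 2, 1, 4, 3, 2, 5, 4, 8, 9, 8, 3, 2, 1, 4, 3, 2, 5, 8],
    [7, 6, 5, 4, 3, 2, 1, 0, 8, 3, 2, 1, 4, 3, 2, 5, 4, 8, 9, 8, 3, 2, 1, 4, 3, 5, 4, 6],
    [7, 6, 5, 4, 3, 2, 1, 0, 8, 3, 2, 1, 4, 3, 2, 5, 4, 8, 9, 8, 3, 2, 4, 3, 5, 4, 6, 5],
    [7, 6, 5, 4, 3, 2, 1, 0, 8, 3, 2, 1, 4, 3, 2, 5, 4, 8, 9, 8, 3, 2, 4, 3, 5, 4, 8, 9],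
    [7, 6, 5, 4, 3, 2, 1, 0, 8, 3, 2, 1, 4, 3, 2, 5, 4, 8, 9, 8, 3, 2, 4, 3, 5, 6, 7, 8],
    [7, 6, 5, 4, 3, 2, 1, 0, 8, 3, 2, 1, 4, 3, 2, 5, 4, 9, 8, 3, 2, 1, 0, 4, 3, 2, 1, 8],
    [7, 6, 5, 4, 3, 2, 1, 0, 8, 3, 2, 1, 4, 3, 2, 5, 4, 9, 8, 3, 2, 1, 0, 4, 3, 2, 5, 6],
    [7, 6, 5, 4, 3, 2, 1, 0, 8, 3, 2, 1, 4, 3, 2, 5, 4, 9, 8, 3, 2, 1, 0, 4, 3, 5, 8, 9],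
    [7, 6, 5, 4, 3, 2, 1, 0, 8, 3, 2, 1, 4, 3, 2, 5, 4, 9, 8, 3, 2, 1, 4, 3, 5, 6, 7, 8],
    [7, 6, 5, 4, 3, 2, 1, 0, 8, 3, 2, 1, 4, 3, 2, 5, 4, 9, 8, 3, 2, 1, 4, 3, 5, 6, 8, 9],
    [7, 6, 5, 4, 3, 2, 1, 0, 8, 3, 2, 1, 4, 3, 2, 5, 4, 9, 8, 3, 2, 4, 3, 5, 4, 6, 5, 7],
    [7, 6, 5, 4, 3, 2, 1, 0, 8, 3, 2, 1, 4, 3, 2, 5, 4, 9, 8, 3, 2, 4, 3, 5, 4, 6, 8, 3],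
    [7, 6, 5, 4, 3, 2, 1, 0, 8, 3, 2, 1, 4, 3, 2, 5, 6, 7, 9, 8, 3, 2, 1, 0, 4, 3, 5, 8],
    [7, 6, 5, 4, 3, 2, 1, 0, 8, 3, 2, 1, 4, 3, 2, 5, 6, 7, 9, 8, 3, 2, 1, 0, 4, 5, 6, 7],
    [7, 6, 5, 4, 3, 2, 1, 0, 8, 3, 2, 1, 4, 3, 2, 5, 6, 7, 9, 8, 3, 2, 1, 4, 3, 5, 6, 7],
    [7, 6, 5, 4, 3, 2, 1, 0, 8, 3, 2, 1, 4, 3, 2, 5, 6, 7, 9, 8, 3, 2, 4, 3, 5, 6, 7, 8],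
    [7, 6, 5, 4, 3, 2, 1, 0, 8, 3, 2, 1, 4, 3, 2, 5, 6, 8, 3, 9, 8, 3, 2, 1, 0, 4, 3, 2],
    [7, 6, 5, 4, 3, 2, 1, 0, 8, 3, 2, 1, 4, 3, 2, 5, 6, 8, 3, 9, 8, 3, 2, 1, 4, 3, 2, 5],
    [7, 6, 5, 4, 3, 2, 1, 0, 8, 3, 2, 1, 4, 3, 2, 5, 6, 8, 3, 9, 8, 3, 2, 4, 3, 5, 4, 6],
    [7, 6, 5, 4, 3, 2, 1, 0, 8, 3, 2, 1, 4, 3, 2, 5, 6, 8, 9, 8, 3, 2, 1, 0, 4, 3, 2, 1],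
    [7, 6, 5, 4, 3, 2, 1, 0, 8, 3, 2, 1, 4, 3, 2, 5, 6, 8, 9, 8, 3, 2, 1, 0, 4, 3, 8, 9],
    [7, 6, 5, 4, 3, 2, 1, 0, 8, 3, 2, 1, 4, 3, 2, 5, 6, 8, 9, 8, 3, 2, 1, 4, 3, 5, 4, 8],
    [7, 6, 5, 4, 3, 2, 1, 0, 8, 3, 2, 1, 4, 3, 2, 5, 6, 8, 9, 8, 3, 2, 1, 4, 3, 5, 6, 7],
    [7, 6, 5, 4, 3, 2, 1, 0, 8, 3, 2, 1, 4, 3, 2, 5, 6, 8, 9, 8, 3, 2, 1, 4, 3, 5, 8, 9],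
    [7, 6, 5, 4, 3, 2, 1, 0, 8, 3, 2, 1, 4, 3, 2, 5, 6, 8, 9, 8, 3, 2, 4, 3, 5, 4, 8, 9],
    [7, 6, 5, 4, 3, 2, 1, 0, 8, 3, 2, 1, 4, 3, 2, 5, 6, 9, 8, 3, 2, 1, 0, 4, 3, 2, 1, 5],
    [7, 6, 5, 4, 3, 2, 1, 0, 8, 3, 2, 1, 4, 3, 2, 5, 6, 9, 8, 3, 2, 1, 0, 4, 3, 2, 1, 8],
    [7, 6, 5, 4, 3, 2, 1, 0, 8, 3, 2, 1, 4, 3, 2, 5, 6, 9, 8, 3, 2, 1, 0, 4, 3, 2, 5, 4],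
    [7, 6, 5, 4, 3, 2, 1, 0, 8, 3, 2, 1, 4, 3, 2, 5, 6, 9, 8, 3, 2, 1, 0, 4, 3, 5, 4, 8],
    [7, 6, 5, 4, 3, 2, 1, 0, 8, 3, 2, 1, 4, 3, 2, 5, 6, 9, 8, 3, 2, 1, 0, 4, 3, 5, 8, 9],
    [7, 6, 5, 4, 3, 2, 1, 0, 8, 3, 2, 1, 4, 3, 2, 5, 6, 9, 8, 3, 2, 1, 4, 3, 2, 5, 8, 3],
    [7, 6, 5, 4, 3, 2, 1, 0, 8, 3, 2, 1, 4, 3, 2, 5, 6, 9, 8, 3, 2, 1, 4, 3, 5, 4, 6, 7],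
    [7, 6, 5, 4, 3, 2, 1, 0, 8, 3, 2, 1, 4, 3, 2, 5, 8, 3, 9, 8, 3, 2, 1, 0, 4, 5, 6, 7],
    [7, 6, 5, 4, 3, 2, 1, 0, 8, 3, 2, 1, 4, 3, 2, 5, 8, 3, 9, 8, 3, 2, 1, 4, 3, 2, 5, 8],
    [7, 6, 5, 4, 3, 2, 1, 0, 8, 3, 2, 1, 4, 3, 2, 5, 8, 3, 9, 8, 3, 2, 1, 4, 3, 2, 8, 3],
    [7, 6, 5, 4, 3, 2, 1, 0, 8, 3, 2, 1, 4, 3, 2, 5, 8, 3, 9, 8, 3, 2, 1, 4, 3, 5, 4, 6],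
    [7, 6, 5, 4, 3, 2, 1, 0, 8, 3, 2, 1, 4, 3, 2, 5, 8, 3, 9, 8, 3, 2, 1, 4, 3, 5, 6, 7],
    [7, 6, 5, 4, 3, 2, 1, 0, 8, 3, 2, 1, 4, 3, 2, 5, 8, 3, 9, 8, 3, 2, 1, 4, 3, 5, 6, 8],
    [7, 6, 5, 4, 3, 2, 1, 0, 8, 3, 2, 1, 4, 3, 2, 5, 8, 9, 8, 3, 2, 1, 0, 4, 3, 2, 1, 8],
    [7, 6, 5, 4, 3, 2, 1, 0, 8, 3, 2, 1, 4, 3, 2, 5, 8, 9, 8, 3, 2, 1, 0, 4, 3, 2, 5, 6],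
    [7, 6, 5, 4, 3, 2, 1, 0, 8, 3, 2, 1, 4, 3, 2, 5, 8, 9, 8, 3, 2, 1, 0, 4, 3, 2, 8, 9],
    [7, 6, 5, 4, 3, 2, 1, 0, 8, 3, 2, 1, 4, 3, 2, 5, 8, 9, 8, 3, 2, 1, 4, 3, 2, 5, 4, 8],
    [7, 6, 5, 4, 3, 2, 1, 0, 8, 3, 2, 1, 4, 3, 2, 5, 8, 9, 8, 3, 2, 1, 4, 3, 2, 5, 6, 7],
    [7, 6, 5, 4, 3, 2, 1, 0, 8, 3, 2, 1, 4, 3, 2, 5, 8, 9, 8, 3, 2, 1, 4, 3, 2, 5, 8, 9],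
    [7, 6, 5, 4, 3, 2, 1, 0, 8, 3, 2, 1, 4, 3, 2, 5, 9, 8, 3, 2, 1, 0, 4, 3, 2, 1, 5, 4],
    [7, 6, 5, 4, 3, 2, 1, 0, 8, 3, 2, 1, 4, 3, 2, 5, 9, 8, 3, 2, 1, 0, 4, 3, 2, 5, 4, 3],
    [7, 6, 5, 4, 3, 2, 1, 0, 8, 3, 2, 1, 4, 3, 2, 5, 9, 8, 3, 2, 1, 0, 4, 3, 2, 5, 6, 7],
    [7, 6, 5, 4, 3, 2, 1, 0, 8, 3, 2, 1, 4, 3, 2, 5, 9, 8, 3, 2, 1, 0, 4, 3, 2, 5, 8, 3],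
    [7, 6, 5, 4, 3, 2, 1, 0, 8, 3, 2, 1, 4, 3, 2, 5, 9, 8, 3, 2, 1, 0, 4, 3, 2, 5, 8, 9],
    [7, 6, 5, 4, 3, 2, 1, 0, 8, 3, 2, 1, 4, 3, 2, 5, 9, 8, 3, 2, 1, 4, 3, 2, 5, 4, 6, 7],
    [7, 6, 5, 4, 3, 2, 1, 0, 8, 3, 2, 1, 4, 3, 2, 5, 9, 8, 3, 2, 1, 4, 3, 2, 5, 6, 7, 8],
    [7, 6, 5, 4, 3, 2, 1, 0, 8, 3, 2, 1, 4, 3, 2, 5, 9, 8, 3, 2, 1, 4, 3, 2, 5, 8, 3, 4],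
    [7, 6, 5, 4, 3, 2, 1, 0, 8, 3, 2, 1, 4, 3, 2, 5, 9, 8, 3, 2, 1, 4, 3, 2, 5, 8, 3, 9],
    [7, 6, 5, 4, 3, 2, 1, 0, 8, 3, 2, 1, 4, 3, 2, 5, 9, 8, 3, 2, 1, 4, 3, 5, 4, 6, 5, 7],
    [7, 6, 5, 4, 3, 2, 1, 0, 8, 3, 2, 1, 4, 3, 2, 5, 9, 8, 3, 2, 1, 4, 3, 5, 4, 6, 7, 8],
    [7, 6, 5, 4, 3, 2, 1, 0, 8, 3, 2, 1, 4, 3, 2, 5, 9, 8, 3, 2, 4, 3, 5, 4, 6, 5, 8, 3],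
    [7, 6, 5, 4, 3, 2, 1, 0, 8, 3, 2, 1, 4, 3, 2, 8, 3, 9, 8, 3, 2, 4, 3, 5, 4, 6, 8, 3],
    [7, 6, 5, 4, 3, 2, 1, 0, 8, 3, 2, 1, 4, 3, 2, 8, 9, 8, 3, 2, 1, 4, 3, 2, 5, 4, 6, 5],
    [7, 6, 5, 4, 3, 2, 1, 0, 8, 3, 2, 1, 4, 3, 2, 8, 9, 8, 3, 2, 4, 3, 5, 4, 6, 5, 7, 8],
    [7, 6, 5, 4, 3, 2, 1, 0, 8, 3, 2, 1, 4, 3, 2, 8, 9, 8, 3, 2, 4, 3, 5, 4, 6, 5, 8, 9],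
    [7, 6, 5, 4, 3, 2, 1, 0, 8, 3, 2, 1, 4, 3, 2, 8, 9, 8, 3, 2, 4, 3, 5, 4, 6, 7, 8, 3],
    [7, 6, 5, 4, 3, 2, 1, 0, 8, 3, 2, 1, 4, 3, 2, 8, 9, 8, 3, 2, 4, 3, 5, 4, 6, 7, 8, 9],
    [7, 6, 5, 4, 3, 2, 1, 0, 8, 3, 2, 1, 4, 3, 2, 8, 9, 8, 3, 2, 4, 3, 5, 4, 8, 3, 2, 1],
    [7, 6, 5, 4, 3, 2, 1, 0, 8, 3, 2, 1, 4, 3, 2, 9, 8, 3, 2, 1, 0, 4, 3, 2, 5, 4, 6, 7],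
    [7, 6, 5, 4, 3, 2, 1, 0, 8, 3, 2, 1, 4, 3, 2, 9, 8, 3, 2, 1, 0, 4, 3, 5, 4, 8, 3, 2],
    [7, 6, 5, 4, 3, 2, 1, 0, 8, 3, 2, 1, 4, 3, 2, 9, 8, 3, 2, 1, 4, 3, 2, 5, 4, 6, 7, 8],
    [7, 6, 5, 4, 3, 2, 1, 0, 8, 3, 2, 1, 4, 3, 2, 9, 8, 3, 2, 1, 4, 3, 2, 5, 4, 6, 8, 3],
    [7, 6, 5, 4, 3, 2, 1, 0, 8, 3, 2, 1, 4, 3, 2, 9, 8, 3, 2, 1, 4, 3, 2, 5, 4, 8, 3, 2],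
    [7, 6, 5, 4, 3, 2, 1, 0, 8, 3, 2, 1, 4, 3, 2, 9, 8, 3, 2, 1, 4, 3, 5, 4, 6, 5, 7, 8],
    [7, 6, 5, 4, 3, 2, 1, 0, 8, 3, 2, 1, 4, 3, 2, 9, 8, 3, 2, 1, 4, 3, 5, 4, 6, 5, 8, 9],
    [7, 6, 5, 4, 3, 2, 1, 0, 8, 3, 2, 1, 4, 3, 2, 9, 8, 3, 2, 1, 4, 3, 5, 4, 8, 3, 2, 9],
    [7, 6, 5, 4, 3, 2, 1, 0, 8, 3, 2, 1, 4, 3, 5, 4, 6, 5, 8, 9, 8, 3, 2, 1, 4, 3, 5, 4],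
    [7, 6, 5, 4, 3, 2, 1, 0, 8, 3, 2, 1, 4, 3, 5, 4, 6, 5, 8, 9, 8, 3, 2, 1, 4, 3, 5, 8],
    [7, 6, 5, 4, 3, 2, 1, 0, 8, 3, 2, 1, 4, 3, 5, 4, 6, 5, 9, 8, 3, 2, 1, 0, 4, 3, 5, 4],
    [7, 6, 5, 4, 3, 2, 1, 0, 8, 3, 2, 1, 4, 3, 5, 4, 6, 5, 9, 8, 3, 2, 1, 4, 3, 2, 5, 4],
    [7, 6, 5, 4, 3, 2, 1, 0, 8, 3, 2, 1, 4, 3, 5, 4, 6, 5, 9, 8, 3, 2, 1, 4, 3, 5, 4, 8],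
    [7, 6, 5, 4, 3, 2, 1, 0, 8, 3, 2, 1, 4, 3, 5, 4, 6, 5, 9, 8, 3, 2, 1, 4, 3, 5, 8, 9],
    [7, 6, 5, 4, 3, 2, 1, 0, 8, 3, 2, 1, 4, 3, 5, 4, 6, 5, 9, 8, 3, 2, 4, 3, 5, 4, 8, 9],
    [7, 6, 5, 4, 3, 2, 1, 0, 8, 3, 2, 1, 4, 3, 5, 4, 6, 8, 9, 8, 3, 2, 1, 4, 3, 2, 8, 9],
    [7, 6, 5, 4, 3, 2, 1, 0, 8, 3, 2, 1, 4, 3, 5, 4, 6, 8, 9, 8, 3, 2, 1, 4, 3, 5, 8, 9],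
    [7, 6, 5, 4, 3, 2, 1, 0, 8, 3, 2, 1, 4, 3, 5, 4, 6, 8, 9, 8, 3, 2, 4, 3, 5, 6, 7, 8],
    [7, 6, 5, 4, 3, 2, 1, 0, 8, 3, 2, 1, 4, 3, 5, 4, 6, 9, 8, 3, 2, 1, 0, 4, 3, 2, 1, 8],
    [7, 6, 5, 4, 3, 2, 1, 0, 8, 3, 2, 1, 4, 3, 5, 4, 6, 9, 8, 3, 2, 1, 0, 4, 3, 2, 5, 4],
    [7, 6, 5, 4, 3, 2, 1, 0, 8, 3, 2, 1, 4, 3, 5, 4, 6, 9, 8, 3, 2, 1, 0, 4, 3, 2, 8, 9],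
    [7, 6, 5, 4, 3, 2, 1, 0, 8, 3, 2, 1, 4, 3, 5, 4, 6, 9, 8, 3, 2, 1, 0, 4, 3, 5, 4, 6],
    [7, 6, 5, 4, 3, 2, 1, 0, 8, 3, 2, 1, 4, 3, 5, 4, 6, 9, 8, 3, 2, 1, 0, 4, 3, 5, 6, 8],
    [7, 6, 5, 4, 3, 2, 1, 0, 8, 3, 2, 1, 4, 3, 5, 4, 6, 9, 8, 3, 2, 1, 0, 4, 3, 5, 8, 9],
    [7, 6, 5, 4, 3, 2, 1, 0, 8, 3, 2, 1, 4, 3, 5, 4, 6, 9, 8, 3, 2, 1, 4, 3, 2, 8, 3, 4],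
    [7, 6, 5, 4, 3, 2, 1, 0, 8, 3, 2, 1, 4, 3, 5, 4, 6, 9, 8, 3, 2, 1, 4, 3, 5, 4, 6, 8],
    [7, 6, 5, 4, 3, 2, 1, 0, 8, 3, 2, 1, 4, 3, 5, 4, 8, 9, 8, 3, 2, 1, 4, 3, 2, 5, 4, 8],
    [7, 6, 5, 4, 3, 2, 1, 0, 8, 3, 2, 1, 4, 3, 5, 4, 8, 9, 8, 3, 2, 1, 4, 3, 5, 4, 8, 9],
    [7, 6, 5, 4, 3, 2, 1, 0, 8, 3, 2, 1, 4, 3, 5, 4, 8, 9, 8, 3, 2, 4, 3, 5, 4, 8, 3, 2],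
    [7, 6, 5, 4, 3, 2, 1, 0, 8, 3, 2, 1, 4, 3, 5, 4, 9, 8, 3, 2, 1, 0, 4, 3, 2, 1, 5, 4],
    [7, 6, 5, 4, 3, 2, 1, 0, 8, 3, 2, 1, 4, 3, 5, 4, 9, 8, 3, 2, 1, 0, 4, 3, 5, 4, 6, 7],
    [7, 6, 5, 4, 3, 2, 1, 0, 8, 3, 2, 1, 4, 3, 5, 4, 9, 8, 3, 2, 1, 0, 4, 3, 5, 4, 6, 8],
    [7, 6, 5, 4, 3, 2, 1, 0, 8, 3, 2, 1, 4, 3, 5, 4, 9, 8, 3, 2, 1, 0, 4, 3, 5, 4, 8, 9],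
    [7, 6, 5, 4, 3, 2, 1, 0, 8, 3, 2, 1, 4, 3, 5, 4, 9, 8, 3, 2, 1, 0, 4, 3, 5, 6, 7, 8],
    [7, 6, 5, 4, 3, 2, 1, 0, 8, 3, 2, 1, 4, 3, 5, 4, 9, 8, 3, 2, 1, 4, 3, 2, 5, 4, 3, 6]]

/-- A part of the representatives. -/
def repsV_18 : List (List ℕ) :=
  [[7, 6, 5, 4, 3, 2, 1, 0, 8, 3, 2, 1, 4, 3, 5, 4, 9, 8, 3, 2, 1, 4, 3, 2, 5, 4, 6, 7],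
    [7, 6, 5, 4, 3, 2, 1, 0, 8, 3, 2, 1, 4, 3, 5, 4, 9, 8, 3, 2, 1, 4, 3, 2, 5, 6, 7, 8],
    [7, 6, 5, 4, 3, 2, 1, 0, 8, 3, 2, 1, 4, 3, 5, 4, 9, 8, 3, 2, 1, 4, 3, 5, 4, 6, 5, 8],
    [7, 6, 5, 4, 3, 2, 1, 0, 8, 3, 2, 1, 4, 3, 5, 4, 9, 8, 3, 2, 1, 4, 3, 5, 4, 6, 7, 8],
    [7, 6, 5, 4, 3, 2, 1, 0, 8, 3, 2, 1, 4, 3, 5, 4, 9, 8, 3, 2, 1, 4, 3, 5, 4, 6, 8, 9],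
    [7, 6, 5, 4, 3, 2, 1, 0, 8, 3, 2, 1, 4, 3, 5, 4, 9, 8, 3, 2, 1, 4, 3, 5, 4, 8, 3, 2],
    [7, 6, 5, 4, 3, 2, 1, 0, 8, 3, 2, 1, 4, 3, 5, 4, 9, 8, 3, 2, 4, 3, 5, 4, 6, 5, 7, 8],
    [7, 6, 5, 4, 3, 2, 1, 0, 8, 3, 2, 1, 4, 3, 5, 4, 9, 8, 3, 2, 4, 3, 5, 4, 6, 5, 8, 3],
    [7, 6, 5, 4, 3, 2, 1, 0, 8, 3, 2, 1, 4, 3, 5, 6, 7, 8, 9, 8, 3, 2, 1, 0, 4, 3, 2, 1],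
    [7, 6, 5, 4, 3, 2, 1, 0, 8, 3, 2, 1, 4, 3, 5, 6, 7, 8, 9, 8, 3, 2, 1, 4, 3, 5, 6, 7],
    [7, 6, 5, 4, 3, 2, 1, 0, 8, 3, 2, 1, 4, 3, 5, 6, 7, 8, 9, 8, 3, 2, 4, 3, 5, 4, 6, 7],
    [7, 6, 5, 4, 3, 2, 1, 0, 8, 3, 2, 1, 4, 3, 5, 6, 7, 9, 8, 3, 2, 1, 0, 4, 3, 2, 8, 9],
    [7, 6, 5, 4, 3, 2, 1, 0, 8, 3, 2, 1, 4, 3, 5, 6, 7, 9, 8, 3, 2, 1, 0, 4, 3, 5, 6, 7],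
    [7, 6, 5, 4, 3, 2, 1, 0, 8, 3, 2, 1, 4, 3, 5, 6, 8, 9, 8, 3, 2, 1, 0, 4, 3, 2, 5, 4],
    [7, 6, 5, 4, 3, 2, 1, 0, 8, 3, 2, 1, 4, 3, 5, 6, 8, 9, 8, 3, 2, 1, 0, 4, 3, 2, 5, 6],
    [7, 6, 5, 4, 3, 2, 1, 0, 8, 3, 2, 1, 4, 3, 5, 6, 8, 9, 8, 3, 2, 1, 0, 4, 3, 5, 4, 6],
    [7, 6, 5, 4, 3, 2, 1, 0, 8, 3, 2, 1, 4, 3, 5, 6, 8, 9, 8, 3, 2, 1, 0, 4, 3, 5, 4, 8],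
    [7, 6, 5, 4, 3, 2, 1, 0, 8, 3, 2, 1, 4, 3, 5, 6, 8, 9, 8, 3, 2, 1, 0, 4, 3, 5, 6, 7],
    [7, 6, 5, 4, 3, 2, 1, 0, 8, 3, 2, 1, 4, 3, 5, 6, 8, 9, 8, 3, 2, 1, 4, 3, 2, 5, 4, 8],
    [7, 6, 5, 4, 3, 2, 1, 0, 8, 3, 2, 1, 4, 3, 5, 6, 8, 9, 8, 3, 2, 1, 4, 3, 5, 4, 6, 7],
    [7, 6, 5, 4, 3, 2, 1, 0, 8, 3, 2, 1, 4, 3, 5, 6, 8, 9, 8, 3, 2, 1, 4, 3, 5, 4, 8, 9],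
    [7, 6, 5, 4, 3, 2, 1, 0, 8, 3, 2, 1, 4, 3, 5, 6, 8, 9, 8, 3, 2, 1, 4, 3, 5, 6, 8, 9],
    [7, 6, 5, 4, 3, 2, 1, 0, 8, 3, 2, 1, 4, 3, 5, 6, 9, 8, 3, 2, 1, 0, 4, 3, 2, 5, 8, 9],
    [7, 6, 5, 4, 3, 2, 1, 0, 8, 3, 2, 1, 4, 3, 5, 6, 9, 8, 3, 2, 1, 0, 4, 3, 5, 4, 6, 5],
    [7, 6, 5, 4, 3, 2, 1, 0, 8, 3, 2, 1, 4, 3, 5, 6, 9, 8, 3, 2, 1, 0, 4, 3, 5, 4, 6, 7],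
    [7, 6, 5, 4, 3, 2, 1, 0, 8, 3, 2, 1, 4, 3, 5, 6, 9, 8, 3, 2, 1, 0, 4, 3, 5, 4, 8, 9],
    [7, 6, 5, 4, 3, 2, 1, 0, 8, 3, 2, 1, 4, 3, 5, 6, 9, 8, 3, 2, 1, 0, 4, 3, 5, 6, 8, 9],
    [7, 6, 5, 4, 3, 2, 1, 0, 8, 3, 2, 1, 4, 3, 5, 6, 9, 8, 3, 2, 1, 4, 3, 2, 5, 4, 3, 6],
    [7, 6, 5, 4, 3, 2, 1, 0, 8, 3, 2, 1, 4, 3, 5, 6, 9, 8, 3, 2, 1, 4, 3, 2, 5, 4, 8, 9],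
    [7, 6, 5, 4, 3, 2, 1, 0, 8, 3, 2, 1, 4, 3, 5, 6, 9, 8, 3, 2, 1, 4, 3, 2, 8, 3, 4, 9],
    [7, 6, 5, 4, 3, 2, 1, 0, 8, 3, 2, 1, 4, 3, 5, 6, 9, 8, 3, 2, 1, 4, 3, 5, 4, 6, 8, 9],
    [7, 6, 5, 4, 3, 2, 1, 0, 8, 3, 2, 1, 4, 3, 5, 6, 9, 8, 3, 2, 4, 3, 5, 4, 6, 5, 7, 6],
    [7, 6, 5, 4, 3, 2, 1, 0, 8, 3, 2, 1, 4, 3, 5, 8, 9, 8, 3, 2, 1, 0, 4, 3, 2, 5, 4, 6],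
    [7, 6, 5, 4, 3, 2, 1, 0, 8, 3, 2, 1, 4, 3, 5, 8, 9, 8, 3, 2, 1, 0, 4, 3, 5, 4, 6, 5],
    [7, 6, 5, 4, 3, 2, 1, 0, 8, 3, 2, 1, 4, 3, 5, 8, 9, 8, 3, 2, 1, 0, 4, 3, 5, 4, 6, 7],
    [7, 6, 5, 4, 3, 2, 1, 0, 8, 3, 2, 1, 4, 3, 5, 8, 9, 8, 3, 2, 1, 0, 4, 3, 5, 4, 8, 9],
    [7, 6, 5, 4, 3, 2, 1, 0, 8, 3, 2, 1, 4, 3, 5, 8, 9, 8, 3, 2, 1, 4, 3, 2, 5, 4, 3, 8],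
    [7, 6, 5, 4, 3, 2, 1, 0, 8, 3, 2, 1, 4, 3, 5, 8, 9, 8, 3, 2, 1, 4, 3, 2, 5, 8, 3, 4],
    [7, 6, 5, 4, 3, 2, 1, 0, 8, 3, 2, 1, 4, 3, 5, 8, 9, 8, 3, 2, 1, 4, 3, 5, 4, 8, 3, 2],
    [7, 6, 5, 4, 3, 2, 1, 0, 8, 3, 2, 1, 4, 3, 5, 9, 8, 3, 2, 1, 0, 4, 3, 2, 1, 5, 4, 6],
    [7, 6, 5, 4, 3, 2, 1, 0, 8, 3, 2, 1, 4, 3, 5, 9, 8, 3, 2, 1, 0, 4, 3, 2, 1, 5, 6, 7],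
    [7, 6, 5, 4, 3, 2, 1, 0, 8, 3, 2, 1, 4, 3, 5, 9, 8, 3, 2, 1, 0, 4, 3, 2, 5, 4, 8, 9],
    [7, 6, 5, 4, 3, 2, 1, 0, 8, 3, 2, 1, 4, 3, 5, 9, 8, 3, 2, 1, 0, 4, 3, 5, 4, 6, 5, 8],
    [7, 6, 5, 4, 3, 2, 1, 0, 8, 3, 2, 1, 4, 3, 5, 9, 8, 3, 2, 1, 0, 4, 3, 5, 4, 6, 8, 9],
    [7, 6, 5, 4, 3, 2, 1, 0, 8, 3, 2, 1, 4, 3, 5, 9, 8, 3, 2, 1, 0, 4, 3, 5, 6, 7, 8, 9],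
    [7, 6, 5, 4, 3, 2, 1, 0, 8, 3, 2, 1, 4, 3, 5, 9, 8, 3, 2, 1, 4, 3, 2, 5, 4, 3, 6, 7],
    [7, 6, 5, 4, 3, 2, 1, 0, 8, 3, 2, 1, 4, 3, 5, 9, 8, 3, 2, 1, 4, 3, 2, 5, 4, 6, 5, 7],
    [7, 6, 5, 4, 3, 2, 1, 0, 8, 3, 2, 1, 4, 3, 5, 9, 8, 3, 2, 1, 4, 3, 2, 5, 6, 7, 8, 3],
    [7, 6, 5, 4, 3, 2, 1, 0, 8, 3, 2, 1, 4, 3, 5, 9, 8, 3, 2, 1, 4, 3, 2, 5, 8, 3, 4, 9],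
    [7, 6, 5, 4, 3, 2, 1, 0, 8, 3, 2, 1, 4, 3, 8, 9, 8, 3, 2, 1, 4, 3, 2, 5, 4, 3, 6, 5],
    [7, 6, 5, 4, 3, 2, 1, 0, 8, 3, 2, 1, 4, 3, 8, 9, 8, 3, 2, 1, 4, 3, 2, 5, 4, 3, 6, 7],
    [7, 6, 5, 4, 3, 2, 1, 0, 8, 3, 2, 1, 4, 3, 8, 9, 8, 3, 2, 4, 3, 5, 4, 6, 5, 7, 8, 9],
    [7, 6, 5, 4, 3, 2, 1, 0, 8, 3, 2, 1, 4, 3, 8, 9, 8, 3, 2, 4, 3, 5, 4, 6, 8, 3, 2, 9],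
    [7, 6, 5, 4, 3, 2, 1, 0, 8, 3, 2, 1, 4, 3, 8, 9, 8, 3, 2, 4, 3, 5, 4, 8, 3, 2, 1, 0],
    [7, 6, 5, 4, 3, 2, 1, 0, 8, 3, 2, 1, 4, 3, 8, 9, 8, 3, 2, 4, 3, 5, 4, 8, 3, 2, 1, 9],
    [7, 6, 5, 4, 3, 2, 1, 0, 8, 3, 2, 1, 4, 3, 9, 8, 3, 2, 1, 0, 4, 3, 2, 5, 4, 3, 6, 7],
    [7, 6, 5, 4, 3, 2, 1, 0, 8, 3, 2, 1, 4, 3, 9, 8, 3, 2, 1, 0, 4, 3, 5, 4, 6, 5, 7, 6],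
    [7, 6, 5, 4, 3, 2, 1, 0, 8, 3, 2, 1, 4, 3, 9, 8, 3, 2, 1, 0, 4, 3, 5, 4, 8, 3, 2, 1],
    [7, 6, 5, 4, 3, 2, 1, 0, 8, 3, 2, 1, 4, 3, 9, 8, 3, 2, 1, 4, 3, 2, 5, 4, 3, 6, 5, 4],
    [7, 6, 5, 4, 3, 2, 1, 0, 8, 3, 2, 1, 4, 3, 9, 8, 3, 2, 1, 4, 3, 2, 5, 4, 3, 6, 5, 8],
    [7, 6, 5, 4, 3, 2, 1, 0, 8, 3, 2, 1, 4, 3, 9, 8, 3, 2, 1, 4, 3, 2, 5, 4, 3, 6, 7, 8],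
    [7, 6, 5, 4, 3, 2, 1, 0, 8, 3, 2, 1, 4, 3, 9, 8, 3, 2, 1, 4, 3, 2, 5, 4, 6, 8, 3, 2],
    [7, 6, 5, 4, 3, 2, 1, 0, 8, 3, 2, 1, 4, 3, 9, 8, 3, 2, 1, 4, 3, 5, 4, 6, 5, 7, 8, 9],
    [7, 6, 5, 4, 3, 2, 1, 0, 8, 3, 2, 1, 4, 3, 9, 8, 3, 2, 1, 4, 3, 5, 4, 6, 8, 3, 2, 9],
    [7, 6, 5, 4, 3, 2, 1, 0, 8, 3, 2, 1, 4, 3, 9, 8, 3, 2, 1, 4, 3, 5, 4, 8, 3, 2, 1, 0],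
    [7, 6, 5, 4, 3, 2, 1, 0, 8, 3, 2, 1, 4, 3, 9, 8, 3, 2, 4, 3, 5, 4, 6, 5, 7, 8, 3, 4],
    [7, 6, 5, 4, 3, 2, 1, 0, 8, 3, 2, 1, 4, 3, 9, 8, 3, 2, 4, 3, 5, 4, 6, 5, 8, 3, 2, 1],
    [7, 6, 5, 4, 3, 2, 1, 0, 8, 3, 2, 1, 4, 3, 9, 8, 3, 2, 4, 3, 5, 4, 6, 5, 8, 3, 9, 8],
    [7, 6, 5, 4, 3, 2, 1, 0, 8, 3, 2, 1, 4, 5, 6, 7, 9, 8, 3, 2, 1, 0, 4, 3, 5, 6, 7, 8],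
    [7, 6, 5, 4, 3, 2, 1, 0, 8, 3, 2, 1, 4, 5, 6, 7, 9, 8, 3, 2, 4, 3, 5, 4, 6, 5, 7, 8],
    [7, 6, 5, 4, 3, 2, 1, 0, 8, 3, 2, 1, 4, 5, 6, 7, 9, 8, 3, 2, 4, 3, 5, 4, 8, 3, 2, 9],
    [7, 6, 5, 4, 3, 2, 1, 0, 8, 3, 2, 1, 4, 5, 6, 9, 8, 3, 2, 1, 0, 4, 3, 2, 5, 6, 8, 9],
    [7, 6, 5, 4, 3, 2, 1, 0, 8, 3, 2, 1, 4, 5, 6, 9, 8, 3, 2, 1, 4, 3, 2, 5, 4, 6, 8, 9],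
    [7, 6, 5, 4, 3, 2, 1, 0, 8, 3, 2, 1, 4, 5, 6, 9, 8, 3, 2, 1, 4, 3, 2, 5, 8, 3, 4, 9],
    [7, 6, 5, 4, 3, 2, 1, 0, 8, 3, 2, 1, 4, 5, 6, 9, 8, 3, 2, 1, 4, 3, 5, 4, 6, 5, 8, 9],
    [7, 6, 5, 4, 3, 2, 1, 0, 8, 3, 2, 1, 4, 5, 6, 9, 8, 3, 2, 4, 3, 5, 4, 6, 5, 8, 3, 9],
    [7, 6, 5, 4, 3, 2, 1, 0, 8, 3, 2, 1, 4, 5, 6, 9, 8, 3, 2, 4, 3, 5, 4, 8, 3, 2, 1, 0],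
    [7, 6, 5, 4, 3, 2, 1, 0, 8, 3, 2, 1, 4, 5, 9, 8, 3, 2, 1, 0, 4, 3, 5, 4, 6, 5, 8, 3],
    [7, 6, 5, 4, 3, 2, 1, 0, 8, 3, 2, 1, 4, 5, 9, 8, 3, 2, 1, 0, 4, 3, 5, 4, 6, 7, 8, 9],
    [7, 6, 5, 4, 3, 2, 1, 0, 8, 3, 2, 1, 4, 5, 9, 8, 3, 2, 1, 0, 4, 3, 5, 4, 8, 3, 2, 1],
    [7, 6, 5, 4, 3, 2, 1, 0, 8, 3, 2, 1, 4, 5, 9, 8, 3, 2, 1, 0, 4, 3, 5, 4, 8, 3, 2, 9],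
    [7, 6, 5, 4, 3, 2, 1, 0, 8, 3, 2, 1, 4, 5, 9, 8, 3, 2, 1, 4, 3, 2, 5, 4, 6, 5, 7, 8],
    [7, 6, 5, 4, 3, 2, 1, 0, 8, 3, 2, 1, 4, 5, 9, 8, 3, 2, 1, 4, 3, 2, 5, 4, 8, 3, 2, 9],
    [7, 6, 5, 4, 3, 2, 1, 0, 8, 3, 2, 1, 4, 5, 9, 8, 3, 2, 1, 4, 3, 2, 5, 6, 7, 8, 3, 4],
    [7, 6, 5, 4, 3, 2, 1, 0, 8, 3, 2, 1, 4, 5, 9, 8, 3, 2, 1, 4, 3, 2, 8, 3, 4, 5, 6, 7],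
    [7, 6, 5, 4, 3, 2, 1, 0, 8, 3, 2, 1, 4, 5, 9, 8, 3, 2, 1, 4, 3, 5, 4, 6, 5, 8, 3, 4],
    [7, 6, 5, 4, 3, 2, 1, 0, 8, 3, 2, 1, 4, 5, 9, 8, 3, 2, 1, 4, 3, 5, 4, 6, 7, 8, 3, 2],
    [7, 6, 5, 4, 3, 2, 1, 0, 8, 3, 2, 1, 4, 5, 9, 8, 3, 2, 1, 4, 3, 5, 4, 8, 3, 2, 1, 0],
    [7, 6, 5, 4, 3, 2, 1, 0, 8, 3, 2, 1, 4, 5, 9, 8, 3, 2, 4, 3, 5, 4, 6, 5, 8, 3, 9, 8],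
    [7, 6, 5, 4, 3, 2, 1, 0, 8, 3, 2, 1, 4, 5, 9, 8, 3, 2, 4, 3, 5, 4, 6, 7, 8, 3, 2, 1],
    [7, 6, 5, 4, 3, 2, 1, 0, 8, 3, 2, 1, 4, 9, 8, 3, 2, 1, 0, 4, 3, 5, 4, 6, 5, 7, 8, 3],
    [7, 6, 5, 4, 3, 2, 1, 0, 8, 3, 2, 1, 4, 9, 8, 3, 2, 1, 0, 4, 3, 5, 4, 6, 5, 8, 3, 9],
    [7, 6, 5, 4, 3, 2, 1, 0, 8, 3, 2, 1, 4, 9, 8, 3, 2, 1, 0, 4, 3, 5, 4, 6, 8, 3, 2, 1],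
    [7, 6, 5, 4, 3, 2, 1, 0, 8, 3, 2, 1, 4, 9, 8, 3, 2, 1, 0, 4, 3, 5, 4, 6, 8, 3, 9, 8],
    [7, 6, 5, 4, 3, 2, 1, 0, 8, 3, 2, 1, 4, 9, 8, 3, 2, 1, 0, 4, 3, 5, 4, 8, 3, 2, 1, 0],
    [7, 6, 5, 4, 3, 2, 1, 0, 8, 3, 2, 1, 4, 9, 8, 3, 2, 1, 4, 3, 5, 4, 6, 8, 3, 2, 1, 0],
    [7, 6, 5, 4, 3, 2, 1, 0, 8, 3, 2, 4, 3, 5, 4, 6, 9, 8, 3, 2, 1, 4, 3, 2, 5, 8, 3, 4],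
    [7, 6, 5, 4, 3, 2, 1, 0, 8, 3, 2, 4, 3, 5, 4, 8, 9, 8, 3, 2, 1, 4, 3, 2, 5, 4, 3, 6],
    [7, 6, 5, 4, 3, 2, 1, 0, 8, 3, 2, 4, 3, 5, 4, 8, 9, 8, 3, 2, 1, 4, 3, 2, 5, 4, 3, 8],
    [7, 6, 5, 4, 3, 2, 1, 0, 8, 3, 2, 4, 3, 5, 4, 9, 8, 3, 2, 1, 4, 3, 2, 5, 4, 8, 3, 2],
    [7, 6, 5, 4, 3, 2, 1, 0, 8, 3, 2, 4, 3, 5, 6, 8, 9, 8, 3, 2, 1, 4, 3, 2, 5, 4, 3, 6],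
    [7, 6, 5, 4, 3, 2, 1, 0, 8, 3, 2, 4, 3, 5, 8, 9, 8, 3, 2, 1, 4, 3, 2, 5, 4, 3, 6, 5],
    [7, 6, 5, 4, 3, 2, 1, 0, 8, 3, 2, 4, 3, 5, 9, 8, 3, 2, 1, 0, 4, 3, 2, 5, 4, 3, 6, 5],
    [7, 6, 5, 4, 3, 2, 1, 0, 8, 3, 2, 4, 3, 5, 9, 8, 3, 2, 1, 0, 4, 3, 2, 5, 4, 3, 8, 9],
    [7, 6, 5, 4, 3, 2, 1, 0, 8, 3, 2, 4, 3, 5, 9, 8, 3, 2, 1, 4, 3, 2, 5, 4, 3, 8, 3, 9],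
    [7, 6, 5, 4, 3, 2, 1, 0, 8, 3, 2, 4, 3, 5, 9, 8, 3, 2, 1, 4, 3, 2, 5, 6, 7, 8, 3, 4],
    [7, 6, 5, 4, 3, 2, 1, 0, 8, 3, 2, 4, 3, 8, 9, 8, 3, 2, 1, 4, 3, 2, 5, 4, 3, 6, 5, 7],
    [7, 6, 5, 4, 3, 2, 1, 0, 8, 3, 2, 4, 3, 8, 9, 8, 3, 2, 1, 4, 3, 2, 5, 4, 3, 6, 5, 8],
    [7, 6, 5, 4, 3, 2, 1, 0, 8, 3, 2, 4, 3, 8, 9, 8, 3, 2, 1, 4, 3, 2, 5, 4, 3, 6, 7, 8],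
    [7, 6, 5, 4, 3, 2, 1, 0, 8, 3, 2, 4, 3, 8, 9, 8, 3, 2, 1, 4, 3, 2, 5, 4, 3, 6, 8, 9],
    [7, 6, 5, 4, 3, 2, 1, 0, 8, 3, 2, 4, 3, 9, 8, 3, 2, 1, 0, 4, 3, 2, 1, 5, 4, 3, 6, 8],
    [7, 6, 5, 4, 3, 2, 1, 0, 8, 3, 2, 4, 3, 9, 8, 3, 2, 1, 0, 4, 3, 2, 5, 4, 3, 6, 5, 4],
    [7, 6, 5, 4, 3, 2, 1, 0, 8, 3, 2, 4, 3, 9, 8, 3, 2, 1, 4, 3, 2, 5, 4, 3, 6, 5, 4, 7],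
    [7, 6, 5, 4, 3, 2, 1, 0, 8, 3, 2, 4, 3, 9, 8, 3, 2, 1, 4, 3, 2, 5, 4, 3, 6, 5, 8, 9],
    [7, 6, 5, 4, 3, 2, 1, 0, 8, 3, 2, 4, 3, 9, 8, 3, 2, 1, 4, 3, 2, 5, 4, 3, 6, 7, 8, 9],
    [7, 6, 5, 4, 3, 2, 1, 0, 8, 3, 2, 4, 5, 6, 9, 8, 3, 2, 1, 4, 3, 2, 5, 4, 3, 8, 3, 4],
    [7, 6, 5, 4, 3, 2, 1, 0, 8, 3, 2, 4, 5, 6, 9, 8, 3, 2, 1, 4, 3, 2, 5, 4, 3, 8, 3, 9],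
    [7, 6, 5, 4, 3, 2, 1, 0, 8, 3, 2, 1, 4, 3, 2, 5, 4, 3, 6, 9, 8, 3, 2, 1, 4, 3, 2, 8, 3],
    [7, 6, 5, 4, 3, 2, 1, 0, 8, 3, 2, 1, 4, 3, 2, 5, 4, 3, 6, 9, 8, 3, 2, 1, 4, 3, 5, 6, 8],
    [7, 6, 5, 4, 3, 2, 1, 0, 8, 3, 2, 1, 4, 3, 2, 5, 4, 3, 9, 8, 3, 2, 1, 0, 4, 3, 2, 8, 3],
    [7, 6, 5, 4, 3, 2, 1, 0, 8, 3, 2, 1, 4, 3, 2, 5, 4, 3, 9, 8, 3, 2, 1, 4, 3, 2, 8, 3, 4],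
    [7, 6, 5, 4, 3, 2, 1, 0, 8, 3, 2, 1, 4, 3, 2, 5, 4, 3, 9, 8, 3, 2, 1, 4, 3, 5, 6, 8, 9],
    [7, 6, 5, 4, 3, 2, 1, 0, 8, 3, 2, 1, 4, 3, 2, 5, 4, 6, 5, 8, 9, 8, 3, 2, 1, 4, 3, 2, 5],
    [7, 6, 5, 4, 3, 2, 1, 0, 8, 3, 2, 1, 4, 3, 2, 5, 4, 6, 5, 8, 9, 8, 3, 2, 4, 3, 5, 4, 8],
    [7, 6, 5, 4, 3, 2, 1, 0, 8, 3, 2, 1, 4, 3, 2, 5, 4, 6, 5, 9, 8, 3, 2, 1, 4, 3, 5, 4, 8],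
    [7, 6, 5, 4, 3, 2, 1, 0, 8, 3, 2, 1, 4, 3, 2, 5, 4, 6, 5, 9, 8, 3, 2, 1, 4, 3, 5, 6, 7],
    [7, 6, 5, 4, 3, 2, 1, 0, 8, 3, 2, 1, 4, 3, 2, 5, 4, 6, 8, 9, 8, 3, 2, 1, 4, 3, 2, 8, 9],
    [7, 6, 5, 4, 3, 2, 1, 0, 8, 3, 2, 1, 4, 3, 2, 5, 4, 6, 8, 9, 8, 3, 2, 1, 4, 3, 5, 4, 8]]

/-- A part of the representatives. -/
def repsV_19 : List (List ℕ) :=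
  [[7, 6, 5, 4, 3, 2, 1, 0, 8, 3, 2, 1, 4, 3, 2, 5, 4, 6, 8, 9, 8, 3, 2, 1, 4, 3, 5, 8, 9],
    [7, 6, 5, 4, 3, 2, 1, 0, 8, 3, 2, 1, 4, 3, 2, 5, 4, 6, 9, 8, 3, 2, 1, 4, 3, 2, 5, 4, 8],
    [7, 6, 5, 4, 3, 2, 1, 0, 8, 3, 2, 1, 4, 3, 2, 5, 4, 8, 9, 8, 3, 2, 1, 4, 3, 5, 6, 7, 8],
    [7, 6, 5, 4, 3, 2, 1, 0, 8, 3, 2, 1, 4, 3, 2, 5, 4, 8, 9, 8, 3, 2, 4, 3, 5, 6, 7, 8, 9],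
    [7, 6, 5, 4, 3, 2, 1, 0, 8, 3, 2, 1, 4, 3, 2, 5, 4, 9, 8, 3, 2, 1, 0, 4, 3, 2, 1, 5, 6],
    [7, 6, 5, 4, 3, 2, 1, 0, 8, 3, 2, 1, 4, 3, 2, 5, 4, 9, 8, 3, 2, 1, 0, 4, 3, 2, 5, 4, 3],
    [7, 6, 5, 4, 3, 2, 1, 0, 8, 3, 2, 1, 4, 3, 2, 5, 4, 9, 8, 3, 2, 1, 0, 4, 3, 5, 4, 8, 9],
    [7, 6, 5, 4, 3, 2, 1, 0, 8, 3, 2, 1, 4, 3, 2, 5, 4, 9, 8, 3, 2, 1, 0, 4, 3, 5, 6, 7, 8],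
    [7, 6, 5, 4, 3, 2, 1, 0, 8, 3, 2, 1, 4, 3, 2, 5, 4, 9, 8, 3, 2, 1, 4, 3, 5, 4, 6, 7, 8],
    [7, 6, 5, 4, 3, 2, 1, 0, 8, 3, 2, 1, 4, 3, 2, 5, 4, 9, 8, 3, 2, 1, 4, 3, 5, 4, 6, 8, 9],
    [7, 6, 5, 4, 3, 2, 1, 0, 8, 3, 2, 1, 4, 3, 2, 5, 4, 9, 8, 3, 2, 4, 3, 5, 4, 8, 3, 2, 1],
    [7, 6, 5, 4, 3, 2, 1, 0, 8, 3, 2, 1, 4, 3, 2, 5, 6, 7, 9, 8, 3, 2, 4, 3, 5, 4, 6, 5, 7],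
    [7, 6, 5, 4, 3, 2, 1, 0, 8, 3, 2, 1, 4, 3, 2, 5, 6, 8, 3, 9, 8, 3, 2, 1, 4, 3, 5, 4, 6],
    [7, 6, 5, 4, 3, 2, 1, 0, 8, 3, 2, 1, 4, 3, 2, 5, 6, 8, 9, 8, 3, 2, 1, 0, 4, 3, 5, 6, 7],
    [7, 6, 5, 4, 3, 2, 1, 0, 8, 3, 2, 1, 4, 3, 2, 5, 6, 8, 9, 8, 3, 2, 1, 0, 4, 3, 5, 8, 9],
    [7, 6, 5, 4, 3, 2, 1, 0, 8, 3, 2, 1, 4, 3, 2, 5, 6, 8, 9, 8, 3, 2, 1, 4, 3, 5, 6, 8, 9],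
    [7, 6, 5, 4, 3, 2, 1, 0, 8, 3, 2, 1, 4, 3, 2, 5, 6, 9, 8, 3, 2, 1, 0, 4, 3, 2, 5, 6, 7],
    [7, 6, 5, 4, 3, 2, 1, 0, 8, 3, 2, 1, 4, 3, 2, 5, 6, 9, 8, 3, 2, 1, 4, 3, 2, 8, 3, 4, 5],
    [7, 6, 5, 4, 3, 2, 1, 0, 8, 3, 2, 1, 4, 3, 2, 5, 6, 9, 8, 3, 2, 1, 4, 3, 5, 4, 6, 5, 7],
    [7, 6, 5, 4, 3, 2, 1, 0, 8, 3, 2, 1, 4, 3, 2, 5, 8, 3, 9, 8, 3, 2, 1, 0, 4, 3, 2, 8, 3],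
    [7, 6, 5, 4, 3, 2, 1, 0, 8, 3, 2, 1, 4, 3, 2, 5, 8, 3, 9, 8, 3, 2, 1, 0, 4, 3, 2, 8, 9],
    [7, 6, 5, 4, 3, 2, 1, 0, 8, 3, 2, 1, 4, 3, 2, 5, 8, 3, 9, 8, 3, 2, 1, 0, 4, 3, 5, 6, 8],
    [7, 6, 5, 4, 3, 2, 1, 0, 8, 3, 2, 1, 4, 3, 2, 5, 8, 3, 9, 8, 3, 2, 1, 4, 3, 2, 5, 4, 8],
    [7, 6, 5, 4, 3, 2, 1, 0, 8, 3, 2, 1, 4, 3, 2, 5, 8, 3, 9, 8, 3, 2, 1, 4, 3, 2, 5, 6, 7],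
    [7, 6, 5, 4, 3, 2, 1, 0, 8, 3, 2, 1, 4, 3, 2, 5, 8, 3, 9, 8, 3, 2, 4, 3, 5, 4, 6, 5, 7],
    [7, 6, 5, 4, 3, 2, 1, 0, 8, 3, 2, 1, 4, 3, 2, 5, 8, 3, 9, 8, 3, 2, 4, 3, 5, 4, 6, 8, 3],
    [7, 6, 5, 4, 3, 2, 1, 0, 8, 3, 2, 1, 4, 3, 2, 5, 8, 9, 8, 3, 2, 1, 0, 4, 3, 2, 1, 5, 6],
    [7, 6, 5, 4, 3, 2, 1, 0, 8, 3, 2, 1, 4, 3, 2, 5, 8, 9, 8, 3, 2, 1, 0, 4, 3, 2, 1, 5, 8],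
    [7, 6, 5, 4, 3, 2, 1, 0, 8, 3, 2, 1, 4, 3, 2, 5, 8, 9, 8, 3, 2, 1, 0, 4, 3, 2, 5, 8, 9],
    [7, 6, 5, 4, 3, 2, 1, 0, 8, 3, 2, 1, 4, 3, 2, 5, 8, 9, 8, 3, 2, 1, 0, 4, 3, 5, 4, 6, 5],
    [7, 6, 5, 4, 3, 2, 1, 0, 8, 3, 2, 1, 4, 3, 2, 5, 8, 9, 8, 3, 2, 1, 4, 3, 2, 5, 4, 8, 9],
    [7, 6, 5, 4, 3, 2, 1, 0, 8, 3, 2, 1, 4, 3, 2, 5, 8, 9, 8, 3, 2, 1, 4, 3, 2, 5, 6, 7, 8],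
    [7, 6, 5, 4, 3, 2, 1, 0, 8, 3, 2, 1, 4, 3, 2, 5, 8, 9, 8, 3, 2, 4, 3, 5, 4, 8, 3, 2, 9],
    [7, 6, 5, 4, 3, 2, 1, 0, 8, 3, 2, 1, 4, 3, 2, 5, 9, 8, 3, 2, 1, 0, 4, 3, 2, 1, 5, 4, 8],
    [7, 6, 5, 4, 3, 2, 1, 0, 8, 3, 2, 1, 4, 3, 2, 5, 9, 8, 3, 2, 1, 0, 4, 3, 2, 5, 4, 3, 8],
    [7, 6, 5, 4, 3, 2, 1, 0, 8, 3, 2, 1, 4, 3, 2, 5, 9, 8, 3, 2, 1, 0, 4, 3, 2, 5, 4, 6, 7],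
    [7, 6, 5, 4, 3, 2, 1, 0, 8, 3, 2, 1, 4, 3, 2, 5, 9, 8, 3, 2, 1, 0, 4, 3, 2, 5, 4, 8, 9],
    [7, 6, 5, 4, 3, 2, 1, 0, 8, 3, 2, 1, 4, 3, 2, 5, 9, 8, 3, 2, 1, 0, 4, 3, 2, 5, 6, 8, 9],
    [7, 6, 5, 4, 3, 2, 1, 0, 8, 3, 2, 1, 4, 3, 2, 5, 9, 8, 3, 2, 1, 0, 4, 3, 5, 4, 6, 5, 7],
    [7, 6, 5, 4, 3, 2, 1, 0, 8, 3, 2, 1, 4, 3, 2, 5, 9, 8, 3, 2, 1, 0, 4, 3, 5, 4, 6, 8, 3],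
    [7, 6, 5, 4, 3, 2, 1, 0, 8, 3, 2, 1, 4, 3, 2, 5, 9, 8, 3, 2, 1, 4, 3, 2, 5, 6, 7, 8, 9],
    [7, 6, 5, 4, 3, 2, 1, 0, 8, 3, 2, 1, 4, 3, 2, 5, 9, 8, 3, 2, 1, 4, 3, 2, 5, 8, 3, 4, 9],
    [7, 6, 5, 4, 3, 2, 1, 0, 8, 3, 2, 1, 4, 3, 2, 5, 9, 8, 3, 2, 1, 4, 3, 5, 4, 8, 3, 2, 1],
    [7, 6, 5, 4, 3, 2, 1, 0, 8, 3, 2, 1, 4, 3, 2, 5, 9, 8, 3, 2, 1, 4, 3, 5, 4, 8, 3, 2, 9],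
    [7, 6, 5, 4, 3, 2, 1, 0, 8, 3, 2, 1, 4, 3, 2, 5, 9, 8, 3, 2, 4, 3, 5, 4, 6, 5, 7, 8, 9],
    [7, 6, 5, 4, 3, 2, 1, 0, 8, 3, 2, 1, 4, 3, 2, 5, 9, 8, 3, 2, 4, 3, 5, 4, 8, 3, 2, 1, 0],
    [7, 6, 5, 4, 3, 2, 1, 0, 8, 3, 2, 1, 4, 3, 2, 5, 9, 8, 3, 2, 4, 3, 5, 4, 8, 3, 2, 9, 8],
    [7, 6, 5, 4, 3, 2, 1, 0, 8, 3, 2, 1, 4, 3, 2, 8, 9, 8, 3, 2, 1, 4, 3, 5, 4, 6, 5, 7, 8],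
    [7, 6, 5, 4, 3, 2, 1, 0, 8, 3, 2, 1, 4, 3, 2, 8, 9, 8, 3, 2, 4, 3, 5, 4, 6, 5, 7, 8, 3],
    [7, 6, 5, 4, 3, 2, 1, 0, 8, 3, 2, 1, 4, 3, 2, 9, 8, 3, 2, 1, 0, 4, 3, 5, 4, 6, 7, 8, 3],
    [7, 6, 5, 4, 3, 2, 1, 0, 8, 3, 2, 1, 4, 3, 2, 9, 8, 3, 2, 1, 4, 3, 2, 5, 4, 3, 6, 5, 7],
    [7, 6, 5, 4, 3, 2, 1, 0, 8, 3, 2, 1, 4, 3, 2, 9, 8, 3, 2, 1, 4, 3, 2, 5, 4, 3, 6, 8, 3],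
    [7, 6, 5, 4, 3, 2, 1, 0, 8, 3, 2, 1, 4, 3, 2, 9, 8, 3, 2, 4, 3, 5, 4, 6, 8, 3, 2, 1, 9],
    [7, 6, 5, 4, 3, 2, 1, 0, 8, 3, 2, 1, 4, 3, 5, 4, 6, 5, 8, 9, 8, 3, 2, 1, 4, 3, 2, 5, 4],
    [7, 6, 5, 4, 3, 2, 1, 0, 8, 3, 2, 1, 4, 3, 5, 4, 6, 5, 8, 9, 8, 3, 2, 1, 4, 3, 5, 4, 8],
    [7, 6, 5, 4, 3, 2, 1, 0, 8, 3, 2, 1, 4, 3, 5, 4, 6, 5, 8, 9, 8, 3, 2, 4, 3, 5, 4, 6, 5],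
    [7, 6, 5, 4, 3, 2, 1, 0, 8, 3, 2, 1, 4, 3, 5, 4, 6, 5, 8, 9, 8, 3, 2, 4, 3, 5, 4, 8, 9],
    [7, 6, 5, 4, 3, 2, 1, 0, 8, 3, 2, 1, 4, 3, 5, 4, 6, 5, 9, 8, 3, 2, 1, 4, 3, 5, 4, 6, 8],
    [7, 6, 5, 4, 3, 2, 1, 0, 8, 3, 2, 1, 4, 3, 5, 4, 6, 5, 9, 8, 3, 2, 4, 3, 5, 4, 8, 3, 2],
    [7, 6, 5, 4, 3, 2, 1, 0, 8, 3, 2, 1, 4, 3, 5, 4, 6, 9, 8, 3, 2, 1, 0, 4, 3, 5, 4, 6, 5],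
    [7, 6, 5, 4, 3, 2, 1, 0, 8, 3, 2, 1, 4, 3, 5, 4, 6, 9, 8, 3, 2, 1, 0, 4, 3, 5, 4, 6, 7],
    [7, 6, 5, 4, 3, 2, 1, 0, 8, 3, 2, 1, 4, 3, 5, 4, 6, 9, 8, 3, 2, 1, 0, 4, 3, 5, 4, 8, 9],
    [7, 6, 5, 4, 3, 2, 1, 0, 8, 3, 2, 1, 4, 3, 5, 4, 8, 9, 8, 3, 2, 1, 4, 3, 2, 5, 4, 3, 6],
    [7, 6, 5, 4, 3, 2, 1, 0, 8, 3, 2, 1, 4, 3, 5, 4, 8, 9, 8, 3, 2, 1, 4, 3, 2, 5, 4, 8, 9],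
    [7, 6, 5, 4, 3, 2, 1, 0, 8, 3, 2, 1, 4, 3, 5, 4, 8, 9, 8, 3, 2, 1, 4, 3, 5, 4, 6, 5, 7],
    [7, 6, 5, 4, 3, 2, 1, 0, 8, 3, 2, 1, 4, 3, 5, 4, 8, 9, 8, 3, 2, 1, 4, 3, 5, 4, 6, 8, 9],
    [7, 6, 5, 4, 3, 2, 1, 0, 8, 3, 2, 1, 4, 3, 5, 4, 8, 9, 8, 3, 2, 1, 4, 3, 5, 6, 7, 8, 9],
    [7, 6, 5, 4, 3, 2, 1, 0, 8, 3, 2, 1, 4, 3, 5, 4, 8, 9, 8, 3, 2, 4, 3, 5, 4, 6, 5, 7, 8],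
    [7, 6, 5, 4, 3, 2, 1, 0, 8, 3, 2, 1, 4, 3, 5, 4, 9, 8, 3, 2, 1, 0, 4, 3, 2, 1, 5, 4, 6],
    [7, 6, 5, 4, 3, 2, 1, 0, 8, 3, 2, 1, 4, 3, 5, 4, 9, 8, 3, 2, 1, 0, 4, 3, 2, 1, 5, 4, 8],
    [7, 6, 5, 4, 3, 2, 1, 0, 8, 3, 2, 1, 4, 3, 5, 4, 9, 8, 3, 2, 1, 0, 4, 3, 5, 4, 6, 5, 8],
    [7, 6, 5, 4, 3, 2, 1, 0, 8, 3, 2, 1, 4, 3, 5, 4, 9, 8, 3, 2, 1, 0, 4, 3, 5, 6, 7, 8, 9],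
    [7, 6, 5, 4, 3, 2, 1, 0, 8, 3, 2, 1, 4, 3, 5, 4, 9, 8, 3, 2, 1, 4, 3, 2, 5, 4, 3, 6, 7],
    [7, 6, 5, 4, 3, 2, 1, 0, 8, 3, 2, 1, 4, 3, 5, 4, 9, 8, 3, 2, 1, 4, 3, 2, 5, 6, 8, 3, 9],
    [7, 6, 5, 4, 3, 2, 1, 0, 8, 3, 2, 1, 4, 3, 5, 6, 7, 8, 9, 8, 3, 2, 1, 0, 4, 3, 5, 6, 7],
    [7, 6, 5, 4, 3, 2, 1, 0, 8, 3, 2, 1, 4, 3, 5, 6, 7, 9, 8, 3, 2, 1, 4, 3, 5, 4, 6, 5, 7],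
    [7, 6, 5, 4, 3, 2, 1, 0, 8, 3, 2, 1, 4, 3, 5, 6, 8, 9, 8, 3, 2, 1, 0, 4, 3, 2, 5, 4, 6],
    [7, 6, 5, 4, 3, 2, 1, 0, 8, 3, 2, 1, 4, 3, 5, 6, 8, 9, 8, 3, 2, 1, 0, 4, 3, 5, 4, 6, 8],
    [7, 6, 5, 4, 3, 2, 1, 0, 8, 3, 2, 1, 4, 3, 5, 6, 8, 9, 8, 3, 2, 1, 0, 4, 3, 5, 4, 8, 9],
    [7, 6, 5, 4, 3, 2, 1, 0, 8, 3, 2, 1, 4, 3, 5, 6, 8, 9, 8, 3, 2, 1, 4, 3, 2, 5, 4, 3, 6],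
    [7, 6, 5, 4, 3, 2, 1, 0, 8, 3, 2, 1, 4, 3, 5, 6, 8, 9, 8, 3, 2, 1, 4, 3, 5, 4, 6, 5, 8],
    [7, 6, 5, 4, 3, 2, 1, 0, 8, 3, 2, 1, 4, 3, 5, 6, 9, 8, 3, 2, 1, 0, 4, 3, 2, 5, 4, 3, 6],
    [7, 6, 5, 4, 3, 2, 1, 0, 8, 3, 2, 1, 4, 3, 5, 6, 9, 8, 3, 2, 1, 0, 4, 3, 2, 5, 4, 6, 5],
    [7, 6, 5, 4, 3, 2, 1, 0, 8, 3, 2, 1, 4, 3, 5, 6, 9, 8, 3, 2, 1, 0, 4, 3, 2, 5, 4, 8, 9],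
    [7, 6, 5, 4, 3, 2, 1, 0, 8, 3, 2, 1, 4, 3, 5, 6, 9, 8, 3, 2, 1, 4, 3, 2, 5, 4, 3, 6, 7],
    [7, 6, 5, 4, 3, 2, 1, 0, 8, 3, 2, 1, 4, 3, 5, 6, 9, 8, 3, 2, 1, 4, 3, 2, 5, 4, 6, 7, 8],
    [7, 6, 5, 4, 3, 2, 1, 0, 8, 3, 2, 1, 4, 3, 5, 6, 9, 8, 3, 2, 1, 4, 3, 2, 8, 3, 4, 5, 9],
    [7, 6, 5, 4, 3, 2, 1, 0, 8, 3, 2, 1, 4, 3, 5, 8, 9, 8, 3, 2, 1, 0, 4, 3, 2, 5, 4, 8, 9],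
    [7, 6, 5, 4, 3, 2, 1, 0, 8, 3, 2, 1, 4, 3, 5, 8, 9, 8, 3, 2, 1, 0, 4, 3, 5, 4, 6, 5, 8],
    [7, 6, 5, 4, 3, 2, 1, 0, 8, 3, 2, 1, 4, 3, 5, 8, 9, 8, 3, 2, 1, 0, 4, 3, 5, 6, 7, 8, 9],
    [7, 6, 5, 4, 3, 2, 1, 0, 8, 3, 2, 1, 4, 3, 5, 8, 9, 8, 3, 2, 1, 4, 3, 2, 5, 4, 3, 8, 9],
    [7, 6, 5, 4, 3, 2, 1, 0, 8, 3, 2, 1, 4, 3, 5, 8, 9, 8, 3, 2, 1, 4, 3, 2, 5, 6, 8, 3, 9],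
    [7, 6, 5, 4, 3, 2, 1, 0, 8, 3, 2, 1, 4, 3, 5, 8, 9, 8, 3, 2, 1, 4, 3, 5, 4, 8, 3, 2, 9],
    [7, 6, 5, 4, 3, 2, 1, 0, 8, 3, 2, 1, 4, 3, 5, 8, 9, 8, 3, 2, 4, 3, 5, 4, 6, 5, 7, 8, 9],
    [7, 6, 5, 4, 3, 2, 1, 0, 8, 3, 2, 1, 4, 3, 5, 8, 9, 8, 3, 2, 4, 3, 5, 4, 8, 3, 2, 9, 8],
    [7, 6, 5, 4, 3, 2, 1, 0, 8, 3, 2, 1, 4, 3, 5, 9, 8, 3, 2, 1, 0, 4, 3, 2, 1, 5, 4, 6, 5],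
    [7, 6, 5, 4, 3, 2, 1, 0, 8, 3, 2, 1, 4, 3, 5, 9, 8, 3, 2, 1, 0, 4, 3, 5, 4, 6, 5, 7, 6],
    [7, 6, 5, 4, 3, 2, 1, 0, 8, 3, 2, 1, 4, 3, 5, 9, 8, 3, 2, 1, 0, 4, 3, 5, 4, 8, 3, 2, 9],
    [7, 6, 5, 4, 3, 2, 1, 0, 8, 3, 2, 1, 4, 3, 5, 9, 8, 3, 2, 1, 4, 3, 2, 5, 4, 3, 6, 7, 8],
    [7, 6, 5, 4, 3, 2, 1, 0, 8, 3, 2, 1, 4, 3, 5, 9, 8, 3, 2, 1, 4, 3, 2, 5, 4, 6, 5, 7, 8],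
    [7, 6, 5, 4, 3, 2, 1, 0, 8, 3, 2, 1, 4, 3, 5, 9, 8, 3, 2, 1, 4, 3, 2, 5, 6, 7, 8, 3, 4],
    [7, 6, 5, 4, 3, 2, 1, 0, 8, 3, 2, 1, 4, 3, 5, 9, 8, 3, 2, 1, 4, 3, 2, 8, 3, 4, 5, 6, 9],
    [7, 6, 5, 4, 3, 2, 1, 0, 8, 3, 2, 1, 4, 3, 5, 9, 8, 3, 2, 1, 4, 3, 5, 4, 6, 7, 8, 3, 2],
    [7, 6, 5, 4, 3, 2, 1, 0, 8, 3, 2, 1, 4, 3, 5, 9, 8, 3, 2, 4, 3, 5, 4, 6, 5, 7, 8, 3, 2],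
    [7, 6, 5, 4, 3, 2, 1, 0, 8, 3, 2, 1, 4, 3, 5, 9, 8, 3, 2, 4, 3, 5, 4, 6, 5, 8, 3, 2, 9],
    [7, 6, 5, 4, 3, 2, 1, 0, 8, 3, 2, 1, 4, 3, 5, 9, 8, 3, 2, 4, 3, 5, 4, 6, 8, 3, 2, 1, 0],
    [7, 6, 5, 4, 3, 2, 1, 0, 8, 3, 2, 1, 4, 3, 8, 9, 8, 3, 2, 1, 4, 3, 2, 5, 4, 3, 6, 5, 8],
    [7, 6, 5, 4, 3, 2, 1, 0, 8, 3, 2, 1, 4, 3, 8, 9, 8, 3, 2, 1, 4, 3, 2, 5, 4, 3, 6, 8, 9],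
    [7, 6, 5, 4, 3, 2, 1, 0, 8, 3, 2, 1, 4, 3, 8, 9, 8, 3, 2, 1, 4, 3, 5, 4, 6, 5, 7, 8, 3],
    [7, 6, 5, 4, 3, 2, 1, 0, 8, 3, 2, 1, 4, 3, 8, 9, 8, 3, 2, 1, 4, 3, 5, 4, 6, 5, 8, 3, 4],
    [7, 6, 5, 4, 3, 2, 1, 0, 8, 3, 2, 1, 4, 3, 8, 9, 8, 3, 2, 1, 4, 3, 5, 4, 6, 7, 8, 3, 2],
    [7, 6, 5, 4, 3, 2, 1, 0, 8, 3, 2, 1, 4, 3, 8, 9, 8, 3, 2, 4, 3, 5, 4, 6, 5, 7, 6, 8, 3],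
    [7, 6, 5, 4, 3, 2, 1, 0, 8, 3, 2, 1, 4, 3, 8, 9, 8, 3, 2, 4, 3, 5, 4, 6, 8, 3, 2, 1, 9],
    [7, 6, 5, 4, 3, 2, 1, 0, 8, 3, 2, 1, 4, 3, 9, 8, 3, 2, 1, 0, 4, 3, 5, 4, 6, 5, 8, 3, 4],
    [7, 6, 5, 4, 3, 2, 1, 0, 8, 3, 2, 1, 4, 3, 9, 8, 3, 2, 1, 0, 4, 3, 5, 4, 6, 8, 3, 2, 1],
    [7, 6, 5, 4, 3, 2, 1, 0, 8, 3, 2, 1, 4, 3, 9, 8, 3, 2, 1, 4, 3, 2, 5, 4, 3, 6, 5, 4, 8],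
    [7, 6, 5, 4, 3, 2, 1, 0, 8, 3, 2, 1, 4, 3, 9, 8, 3, 2, 1, 4, 3, 2, 5, 4, 6, 5, 8, 3, 4],
    [7, 6, 5, 4, 3, 2, 1, 0, 8, 3, 2, 1, 4, 3, 9, 8, 3, 2, 1, 4, 3, 5, 4, 6, 5, 7, 8, 3, 4],
    [7, 6, 5, 4, 3, 2, 1, 0, 8, 3, 2, 1, 4, 3, 9, 8, 3, 2, 1, 4, 3, 5, 4, 6, 7, 8, 3, 2, 1],
    [7, 6, 5, 4, 3, 2, 1, 0, 8, 3, 2, 1, 4, 3, 9, 8, 3, 2, 1, 4, 3, 5, 4, 6, 8, 3, 2, 1, 0],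
    [7, 6, 5, 4, 3, 2, 1, 0, 8, 3, 2, 1, 4, 3, 9, 8, 3, 2, 1, 4, 3, 5, 4, 6, 8, 3, 2, 1, 9],
    [7, 6, 5, 4, 3, 2, 1, 0, 8, 3, 2, 1, 4, 3, 9, 8, 3, 2, 4, 3, 5, 4, 6, 8, 3, 2, 1, 0, 9],
    [7, 6, 5, 4, 3, 2, 1, 0, 8, 3, 2, 1, 4, 3, 9, 8, 3, 2, 4, 3, 5, 4, 8, 3, 2, 9, 8, 3, 4],
    [7, 6, 5, 4, 3, 2, 1, 0, 8, 3, 2, 1, 4, 5, 6, 7, 9, 8, 3, 2, 1, 4, 3, 2, 8, 3, 4, 5, 9],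
    [7, 6, 5, 4, 3, 2, 1, 0, 8, 3, 2, 1, 4, 5, 6, 9, 8, 3, 2, 1, 0, 4, 3, 2, 5, 4, 8, 3, 2],
    [7, 6, 5, 4, 3, 2, 1, 0, 8, 3, 2, 1, 4, 5, 6, 9, 8, 3, 2, 1, 4, 3, 2, 5, 4, 8, 3, 2, 9],
    [7, 6, 5, 4, 3, 2, 1, 0, 8, 3, 2, 1, 4, 5, 6, 9, 8, 3, 2, 1, 4, 3, 2, 5, 6, 8, 3, 4, 9],
    [7, 6, 5, 4, 3, 2, 1, 0, 8, 3, 2, 1, 4, 5, 6, 9, 8, 3, 2, 1, 4, 3, 2, 8, 3, 4, 5, 6, 7]]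

/-- A part of the representatives. -/
def repsV_20 : List (List ℕ) :=
  [[7, 6, 5, 4, 3, 2, 1, 0, 8, 3, 2, 1, 4, 5, 6, 9, 8, 3, 2, 1, 4, 3, 5, 4, 6, 5, 8, 3, 9],
    [7, 6, 5, 4, 3, 2, 1, 0, 8, 3, 2, 1, 4, 5, 6, 9, 8, 3, 2, 4, 3, 5, 4, 6, 5, 8, 3, 2, 1],
    [7, 6, 5, 4, 3, 2, 1, 0, 8, 3, 2, 1, 4, 5, 6, 9, 8, 3, 2, 4, 3, 5, 4, 6, 7, 8, 3, 2, 9],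
    [7, 6, 5, 4, 3, 2, 1, 0, 8, 3, 2, 1, 4, 5, 6, 9, 8, 3, 2, 4, 3, 5, 4, 6, 8, 3, 2, 1, 9],
    [7, 6, 5, 4, 3, 2, 1, 0, 8, 3, 2, 1, 4, 5, 9, 8, 3, 2, 1, 0, 4, 3, 5, 4, 8, 3, 2, 9, 8],
    [7, 6, 5, 4, 3, 2, 1, 0, 8, 3, 2, 1, 4, 5, 9, 8, 3, 2, 1, 4, 3, 2, 5, 4, 6, 7, 8, 3, 2],
    [7, 6, 5, 4, 3, 2, 1, 0, 8, 3, 2, 1, 4, 5, 9, 8, 3, 2, 1, 4, 3, 2, 5, 4, 6, 8, 3, 2, 9],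
    [7, 6, 5, 4, 3, 2, 1, 0, 8, 3, 2, 1, 4, 5, 9, 8, 3, 2, 1, 4, 3, 2, 5, 4, 8, 3, 2, 4, 9],
    [7, 6, 5, 4, 3, 2, 1, 0, 8, 3, 2, 1, 4, 5, 9, 8, 3, 2, 1, 4, 3, 2, 5, 6, 7, 8, 3, 4, 9],
    [7, 6, 5, 4, 3, 2, 1, 0, 8, 3, 2, 1, 4, 5, 9, 8, 3, 2, 1, 4, 3, 2, 5, 8, 3, 4, 5, 6, 7],
    [7, 6, 5, 4, 3, 2, 1, 0, 8, 3, 2, 1, 4, 5, 9, 8, 3, 2, 1, 4, 3, 5, 4, 6, 8, 3, 2, 1, 9],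
    [7, 6, 5, 4, 3, 2, 1, 0, 8, 3, 2, 1, 4, 5, 9, 8, 3, 2, 1, 4, 3, 5, 4, 8, 3, 2, 1, 0, 9],
    [7, 6, 5, 4, 3, 2, 1, 0, 8, 3, 2, 1, 4, 9, 8, 3, 2, 1, 0, 4, 3, 5, 4, 6, 7, 8, 3, 2, 1],
    [7, 6, 5, 4, 3, 2, 1, 0, 8, 3, 2, 1, 4, 9, 8, 3, 2, 1, 0, 4, 3, 5, 4, 6, 7, 8, 3, 2, 9],
    [7, 6, 5, 4, 3, 2, 1, 0, 8, 3, 2, 1, 4, 9, 8, 3, 2, 1, 0, 4, 3, 5, 4, 8, 3, 2, 1, 9, 8],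
    [7, 6, 5, 4, 3, 2, 1, 0, 8, 3, 2, 1, 4, 9, 8, 3, 2, 1, 4, 3, 5, 4, 6, 8, 3, 2, 9, 8, 3],
    [7, 6, 5, 4, 3, 2, 1, 0, 8, 3, 2, 4, 3, 5, 4, 8, 9, 8, 3, 2, 1, 4, 3, 2, 5, 4, 3, 6, 7],
    [7, 6, 5, 4, 3, 2, 1, 0, 8, 3, 2, 4, 3, 5, 4, 9, 8, 3, 2, 1, 0, 4, 3, 2, 5, 4, 3, 8, 9],
    [7, 6, 5, 4, 3, 2, 1, 0, 8, 3, 2, 4, 3, 5, 4, 9, 8, 3, 2, 1, 4, 3, 2, 5, 4, 3, 6, 8, 3],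
    [7, 6, 5, 4, 3, 2, 1, 0, 8, 3, 2, 4, 3, 5, 4, 9, 8, 3, 2, 1, 4, 3, 2, 5, 4, 3, 8, 3, 2],
    [7, 6, 5, 4, 3, 2, 1, 0, 8, 3, 2, 4, 3, 5, 4, 9, 8, 3, 2, 1, 4, 3, 2, 5, 4, 6, 8, 3, 4],
    [7, 6, 5, 4, 3, 2, 1, 0, 8, 3, 2, 4, 3, 5, 4, 9, 8, 3, 2, 1, 4, 3, 2, 5, 6, 7, 8, 3, 4],
    [7, 6, 5, 4, 3, 2, 1, 0, 8, 3, 2, 4, 3, 5, 6, 9, 8, 3, 2, 1, 0, 4, 3, 2, 5, 4, 3, 8, 9],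
    [7, 6, 5, 4, 3, 2, 1, 0, 8, 3, 2, 4, 3, 5, 6, 9, 8, 3, 2, 1, 4, 3, 2, 5, 4, 8, 3, 4, 5],
    [7, 6, 5, 4, 3, 2, 1, 0, 8, 3, 2, 4, 3, 5, 8, 9, 8, 3, 2, 1, 4, 3, 2, 5, 4, 3, 6, 5, 4],
    [7, 6, 5, 4, 3, 2, 1, 0, 8, 3, 2, 4, 3, 5, 8, 9, 8, 3, 2, 1, 4, 3, 2, 5, 4, 3, 6, 8, 9],
    [7, 6, 5, 4, 3, 2, 1, 0, 8, 3, 2, 4, 3, 5, 8, 9, 8, 3, 2, 1, 4, 3, 2, 5, 4, 6, 8, 3, 2],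
    [7, 6, 5, 4, 3, 2, 1, 0, 8, 3, 2, 4, 3, 5, 9, 8, 3, 2, 1, 0, 4, 3, 2, 5, 4, 3, 6, 5, 4],
    [7, 6, 5, 4, 3, 2, 1, 0, 8, 3, 2, 4, 3, 5, 9, 8, 3, 2, 1, 4, 3, 2, 5, 4, 3, 6, 8, 3, 4],
    [7, 6, 5, 4, 3, 2, 1, 0, 8, 3, 2, 4, 3, 8, 9, 8, 3, 2, 1, 4, 3, 2, 5, 4, 3, 6, 5, 4, 7],
    [7, 6, 5, 4, 3, 2, 1, 0, 8, 3, 2, 4, 3, 9, 8, 3, 2, 1, 0, 4, 3, 2, 5, 4, 3, 6, 5, 4, 8],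
    [7, 6, 5, 4, 3, 2, 1, 0, 8, 3, 2, 4, 3, 9, 8, 3, 2, 1, 4, 3, 2, 5, 4, 3, 6, 5, 7, 8, 9],
    [7, 6, 5, 4, 3, 2, 1, 0, 8, 3, 2, 4, 5, 9, 8, 3, 2, 1, 4, 3, 2, 5, 6, 8, 3, 4, 5, 6, 7],
    [7, 6, 5, 4, 3, 2, 1, 0, 8, 3, 2, 1, 4, 3, 2, 5, 4, 3, 6, 9, 8, 3, 2, 1, 0, 4, 3, 2, 8, 3],
    [7, 6, 5, 4, 3, 2, 1, 0, 8, 3, 2, 1, 4, 3, 2, 5, 4, 3, 6, 9, 8, 3, 2, 1, 0, 4, 3, 2, 8, 9],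
    [7, 6, 5, 4, 3, 2, 1, 0, 8, 3, 2, 1, 4, 3, 2, 5, 4, 3, 9, 8, 3, 2, 1, 4, 3, 2, 8, 3, 4, 9],
    [7, 6, 5, 4, 3, 2, 1, 0, 8, 3, 2, 1, 4, 3, 2, 5, 4, 6, 5, 8, 9, 8, 3, 2, 4, 3, 5, 4, 8, 9],
    [7, 6, 5, 4, 3, 2, 1, 0, 8, 3, 2, 1, 4, 3, 2, 5, 4, 6, 5, 9, 8, 3, 2, 1, 4, 3, 5, 4, 6, 7],
    [7, 6, 5, 4, 3, 2, 1, 0, 8, 3, 2, 1, 4, 3, 2, 5, 4, 6, 8, 9, 8, 3, 2, 1, 4, 3, 2, 5, 4, 8],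
    [7, 6, 5, 4, 3, 2, 1, 0, 8, 3, 2, 1, 4, 3, 2, 5, 4, 6, 8, 9, 8, 3, 2, 4, 3, 5, 4, 6, 5, 7],
    [7, 6, 5, 4, 3, 2, 1, 0, 8, 3, 2, 1, 4, 3, 2, 5, 4, 6, 9, 8, 3, 2, 1, 0, 4, 3, 2, 1, 5, 8],
    [7, 6, 5, 4, 3, 2, 1, 0, 8, 3, 2, 1, 4, 3, 2, 5, 4, 6, 9, 8, 3, 2, 4, 3, 5, 4, 8, 3, 2, 9],
    [7, 6, 5, 4, 3, 2, 1, 0, 8, 3, 2, 1, 4, 3, 2, 5, 4, 8, 9, 8, 3, 2, 1, 4, 3, 2, 5, 4, 6, 7],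
    [7, 6, 5, 4, 3, 2, 1, 0, 8, 3, 2, 1, 4, 3, 2, 5, 4, 8, 9, 8, 3, 2, 4, 3, 5, 4, 6, 5, 7, 8],
    [7, 6, 5, 4, 3, 2, 1, 0, 8, 3, 2, 1, 4, 3, 2, 5, 4, 9, 8, 3, 2, 1, 0, 4, 3, 2, 1, 5, 4, 6],
    [7, 6, 5, 4, 3, 2, 1, 0, 8, 3, 2, 1, 4, 3, 2, 5, 4, 9, 8, 3, 2, 1, 0, 4, 3, 2, 5, 4, 6, 5],
    [7, 6, 5, 4, 3, 2, 1, 0, 8, 3, 2, 1, 4, 3, 2, 5, 4, 9, 8, 3, 2, 1, 0, 4, 3, 5, 4, 6, 5, 7],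
    [7, 6, 5, 4, 3, 2, 1, 0, 8, 3, 2, 1, 4, 3, 2, 5, 4, 9, 8, 3, 2, 1, 4, 3, 2, 5, 4, 6, 8, 3],
    [7, 6, 5, 4, 3, 2, 1, 0, 8, 3, 2, 1, 4, 3, 2, 5, 4, 9, 8, 3, 2, 1, 4, 3, 2, 5, 4, 8, 3, 2],
    [7, 6, 5, 4, 3, 2, 1, 0, 8, 3, 2, 1, 4, 3, 2, 5, 6, 7, 8, 9, 8, 3, 2, 4, 3, 5, 4, 6, 5, 7],
    [7, 6, 5, 4, 3, 2, 1, 0, 8, 3, 2, 1, 4, 3, 2, 5, 6, 8, 3, 9, 8, 3, 2, 1, 0, 4, 3, 2, 8, 3],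
    [7, 6, 5, 4, 3, 2, 1, 0, 8, 3, 2, 1, 4, 3, 2, 5, 6, 8, 3, 9, 8, 3, 2, 1, 4, 3, 2, 5, 8, 9],
    [7, 6, 5, 4, 3, 2, 1, 0, 8, 3, 2, 1, 4, 3, 2, 5, 6, 8, 3, 9, 8, 3, 2, 1, 4, 3, 2, 8, 3, 4],
    [7, 6, 5, 4, 3, 2, 1, 0, 8, 3, 2, 1, 4, 3, 2, 5, 6, 8, 3, 9, 8, 3, 2, 4, 3, 5, 4, 6, 5, 7],
    [7, 6, 5, 4, 3, 2, 1, 0, 8, 3, 2, 1, 4, 3, 2, 5, 6, 8, 9, 8, 3, 2, 1, 0, 4, 3, 2, 1, 5, 6],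
    [7, 6, 5, 4, 3, 2, 1, 0, 8, 3, 2, 1, 4, 3, 2, 5, 6, 8, 9, 8, 3, 2, 1, 0, 4, 3, 5, 4, 6, 7],
    [7, 6, 5, 4, 3, 2, 1, 0, 8, 3, 2, 1, 4, 3, 2, 5, 6, 8, 9, 8, 3, 2, 1, 4, 3, 2, 5, 4, 6, 7],
    [7, 6, 5, 4, 3, 2, 1, 0, 8, 3, 2, 1, 4, 3, 2, 5, 6, 8, 9, 8, 3, 2, 1, 4, 3, 5, 4, 6, 5, 7],
    [7, 6, 5, 4, 3, 2, 1, 0, 8, 3, 2, 1, 4, 3, 2, 5, 6, 8, 9, 8, 3, 2, 1, 4, 3, 5, 4, 6, 8, 9],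
    [7, 6, 5, 4, 3, 2, 1, 0, 8, 3, 2, 1, 4, 3, 2, 5, 6, 8, 9, 8, 3, 2, 1, 4, 3, 5, 6, 7, 8, 9],
    [7, 6, 5, 4, 3, 2, 1, 0, 8, 3, 2, 1, 4, 3, 2, 5, 6, 9, 8, 3, 2, 1, 0, 4, 3, 2, 5, 6, 7, 8],
    [7, 6, 5, 4, 3, 2, 1, 0, 8, 3, 2, 1, 4, 3, 2, 5, 6, 9, 8, 3, 2, 1, 0, 4, 3, 5, 4, 6, 7, 8],
    [7, 6, 5, 4, 3, 2, 1, 0, 8, 3, 2, 1, 4, 3, 2, 5, 6, 9, 8, 3, 2, 1, 0, 4, 3, 5, 6, 7, 8, 9],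
    [7, 6, 5, 4, 3, 2, 1, 0, 8, 3, 2, 1, 4, 3, 2, 5, 6, 9, 8, 3, 2, 1, 4, 3, 2, 5, 4, 6, 5, 7],
    [7, 6, 5, 4, 3, 2, 1, 0, 8, 3, 2, 1, 4, 3, 2, 5, 8, 3, 9, 8, 3, 2, 1, 4, 3, 2, 5, 6, 7, 8],
    [7, 6, 5, 4, 3, 2, 1, 0, 8, 3, 2, 1, 4, 3, 2, 5, 8, 3, 9, 8, 3, 2, 1, 4, 3, 2, 8, 3, 4, 5],
    [7, 6, 5, 4, 3, 2, 1, 0, 8, 3, 2, 1, 4, 3, 2, 5, 8, 9, 8, 3, 2, 1, 0, 4, 3, 2, 1, 5, 6, 7],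
    [7, 6, 5, 4, 3, 2, 1, 0, 8, 3, 2, 1, 4, 3, 2, 5, 8, 9, 8, 3, 2, 1, 0, 4, 3, 2, 5, 6, 8, 3],
    [7, 6, 5, 4, 3, 2, 1, 0, 8, 3, 2, 1, 4, 3, 2, 5, 8, 9, 8, 3, 2, 1, 0, 4, 3, 5, 4, 6, 5, 7],
    [7, 6, 5, 4, 3, 2, 1, 0, 8, 3, 2, 1, 4, 3, 2, 5, 8, 9, 8, 3, 2, 1, 4, 3, 2, 5, 4, 6, 7, 8],
    [7, 6, 5, 4, 3, 2, 1, 0, 8, 3, 2, 1, 4, 3, 2, 5, 8, 9, 8, 3, 2, 4, 3, 5, 4, 6, 5, 8, 3, 4],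
    [7, 6, 5, 4, 3, 2, 1, 0, 8, 3, 2, 1, 4, 3, 2, 5, 8, 9, 8, 3, 2, 4, 3, 5, 4, 6, 7, 8, 3, 9],
    [7, 6, 5, 4, 3, 2, 1, 0, 8, 3, 2, 1, 4, 3, 2, 5, 9, 8, 3, 2, 1, 0, 4, 3, 2, 5, 4, 6, 5, 7],
    [7, 6, 5, 4, 3, 2, 1, 0, 8, 3, 2, 1, 4, 3, 2, 5, 9, 8, 3, 2, 1, 0, 4, 3, 2, 5, 4, 6, 7, 8],
    [7, 6, 5, 4, 3, 2, 1, 0, 8, 3, 2, 1, 4, 3, 2, 5, 9, 8, 3, 2, 1, 0, 4, 3, 2, 5, 4, 8, 3, 2],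
    [7, 6, 5, 4, 3, 2, 1, 0, 8, 3, 2, 1, 4, 3, 2, 5, 9, 8, 3, 2, 1, 0, 4, 3, 2, 5, 8, 3, 4, 9],
    [7, 6, 5, 4, 3, 2, 1, 0, 8, 3, 2, 1, 4, 3, 2, 5, 9, 8, 3, 2, 1, 0, 4, 3, 2, 5, 8, 3, 9, 8],
    [7, 6, 5, 4, 3, 2, 1, 0, 8, 3, 2, 1, 4, 3, 2, 5, 9, 8, 3, 2, 1, 0, 4, 3, 5, 4, 8, 3, 2, 9],
    [7, 6, 5, 4, 3, 2, 1, 0, 8, 3, 2, 1, 4, 3, 2, 5, 9, 8, 3, 2, 1, 4, 3, 2, 5, 4, 3, 6, 8, 3],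
    [7, 6, 5, 4, 3, 2, 1, 0, 8, 3, 2, 1, 4, 3, 2, 5, 9, 8, 3, 2, 1, 4, 3, 2, 5, 4, 6, 7, 8, 9],
    [7, 6, 5, 4, 3, 2, 1, 0, 8, 3, 2, 1, 4, 3, 2, 5, 9, 8, 3, 2, 1, 4, 3, 2, 5, 8, 3, 4, 9, 8],
    [7, 6, 5, 4, 3, 2, 1, 0, 8, 3, 2, 1, 4, 3, 2, 5, 9, 8, 3, 2, 4, 3, 5, 4, 6, 8, 3, 2, 1, 0],
    [7, 6, 5, 4, 3, 2, 1, 0, 8, 3, 2, 1, 4, 3, 2, 8, 9, 8, 3, 2, 4, 3, 5, 4, 6, 8, 3, 2, 1, 9],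
    [7, 6, 5, 4, 3, 2, 1, 0, 8, 3, 2, 1, 4, 3, 2, 9, 8, 3, 2, 1, 0, 4, 3, 5, 4, 6, 5, 7, 8, 3],
    [7, 6, 5, 4, 3, 2, 1, 0, 8, 3, 2, 1, 4, 3, 2, 9, 8, 3, 2, 1, 4, 3, 2, 5, 4, 6, 5, 7, 8, 3],
    [7, 6, 5, 4, 3, 2, 1, 0, 8, 3, 2, 1, 4, 3, 2, 9, 8, 3, 2, 1, 4, 3, 2, 5, 4, 6, 7, 8, 3, 2],
    [7, 6, 5, 4, 3, 2, 1, 0, 8, 3, 2, 1, 4, 3, 2, 9, 8, 3, 2, 1, 4, 3, 5, 4, 6, 5, 7, 8, 3, 9],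
    [7, 6, 5, 4, 3, 2, 1, 0, 8, 3, 2, 1, 4, 3, 2, 9, 8, 3, 2, 4, 3, 5, 4, 6, 5, 7, 6, 8, 3, 9],
    [7, 6, 5, 4, 3, 2, 1, 0, 8, 3, 2, 1, 4, 3, 5, 4, 6, 9, 8, 3, 2, 1, 0, 4, 3, 2, 5, 4, 8, 9],
    [7, 6, 5, 4, 3, 2, 1, 0, 8, 3, 2, 1, 4, 3, 5, 4, 6, 9, 8, 3, 2, 1, 0, 4, 3, 5, 4, 6, 5, 8],
    [7, 6, 5, 4, 3, 2, 1, 0, 8, 3, 2, 1, 4, 3, 5, 4, 6, 9, 8, 3, 2, 1, 4, 3, 2, 5, 4, 3, 8, 9],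
    [7, 6, 5, 4, 3, 2, 1, 0, 8, 3, 2, 1, 4, 3, 5, 4, 6, 9, 8, 3, 2, 1, 4, 3, 2, 5, 6, 8, 3, 9],
    [7, 6, 5, 4, 3, 2, 1, 0, 8, 3, 2, 1, 4, 3, 5, 4, 6, 9, 8, 3, 2, 1, 4, 3, 5, 4, 8, 3, 2, 9],
    [7, 6, 5, 4, 3, 2, 1, 0, 8, 3, 2, 1, 4, 3, 5, 4, 6, 9, 8, 3, 2, 4, 3, 5, 4, 8, 3, 2, 1, 9],
    [7, 6, 5, 4, 3, 2, 1, 0, 8, 3, 2, 1, 4, 3, 5, 4, 6, 9, 8, 3, 2, 4, 3, 5, 4, 8, 3, 2, 9, 8],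
    [7, 6, 5, 4, 3, 2, 1, 0, 8, 3, 2, 1, 4, 3, 5, 4, 8, 9, 8, 3, 2, 1, 4, 3, 5, 4, 6, 5, 7, 6],
    [7, 6, 5, 4, 3, 2, 1, 0, 8, 3, 2, 1, 4, 3, 5, 4, 9, 8, 3, 2, 1, 0, 4, 3, 2, 1, 5, 6, 8, 9],
    [7, 6, 5, 4, 3, 2, 1, 0, 8, 3, 2, 1, 4, 3, 5, 4, 9, 8, 3, 2, 1, 0, 4, 3, 2, 5, 4, 3, 6, 7],
    [7, 6, 5, 4, 3, 2, 1, 0, 8, 3, 2, 1, 4, 3, 5, 4, 9, 8, 3, 2, 1, 0, 4, 3, 2, 5, 6, 8, 3, 9],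
    [7, 6, 5, 4, 3, 2, 1, 0, 8, 3, 2, 1, 4, 3, 5, 4, 9, 8, 3, 2, 1, 0, 4, 3, 5, 4, 8, 3, 2, 9],
    [7, 6, 5, 4, 3, 2, 1, 0, 8, 3, 2, 1, 4, 3, 5, 4, 9, 8, 3, 2, 1, 4, 3, 2, 5, 4, 3, 6, 8, 9],
    [7, 6, 5, 4, 3, 2, 1, 0, 8, 3, 2, 1, 4, 3, 5, 4, 9, 8, 3, 2, 1, 4, 3, 2, 5, 4, 8, 3, 2, 1],
    [7, 6, 5, 4, 3, 2, 1, 0, 8, 3, 2, 1, 4, 3, 5, 4, 9, 8, 3, 2, 1, 4, 3, 2, 5, 4, 8, 3, 2, 4],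
    [7, 6, 5, 4, 3, 2, 1, 0, 8, 3, 2, 1, 4, 3, 5, 4, 9, 8, 3, 2, 1, 4, 3, 2, 5, 4, 8, 3, 2, 9],
    [7, 6, 5, 4, 3, 2, 1, 0, 8, 3, 2, 1, 4, 3, 5, 4, 9, 8, 3, 2, 1, 4, 3, 2, 8, 3, 4, 5, 6, 9],
    [7, 6, 5, 4, 3, 2, 1, 0, 8, 3, 2, 1, 4, 3, 5, 6, 8, 9, 8, 3, 2, 1, 0, 4, 3, 2, 5, 4, 6, 7],
    [7, 6, 5, 4, 3, 2, 1, 0, 8, 3, 2, 1, 4, 3, 5, 6, 8, 9, 8, 3, 2, 1, 0, 4, 3, 2, 5, 6, 7, 8],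
    [7, 6, 5, 4, 3, 2, 1, 0, 8, 3, 2, 1, 4, 3, 5, 6, 8, 9, 8, 3, 2, 1, 0, 4, 3, 5, 4, 6, 5, 8],
    [7, 6, 5, 4, 3, 2, 1, 0, 8, 3, 2, 1, 4, 3, 5, 6, 8, 9, 8, 3, 2, 1, 4, 3, 2, 5, 6, 7, 8, 9],
    [7, 6, 5, 4, 3, 2, 1, 0, 8, 3, 2, 1, 4, 3, 5, 6, 9, 8, 3, 2, 1, 0, 4, 3, 5, 4, 6, 7, 8, 9],
    [7, 6, 5, 4, 3, 2, 1, 0, 8, 3, 2, 1, 4, 3, 5, 6, 9, 8, 3, 2, 1, 4, 3, 2, 5, 4, 3, 6, 5, 7],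
    [7, 6, 5, 4, 3, 2, 1, 0, 8, 3, 2, 1, 4, 3, 5, 8, 9, 8, 3, 2, 1, 4, 3, 2, 5, 4, 6, 7, 8, 9],
    [7, 6, 5, 4, 3, 2, 1, 0, 8, 3, 2, 1, 4, 3, 5, 8, 9, 8, 3, 2, 4, 3, 5, 4, 6, 5, 7, 8, 3, 2],
    [7, 6, 5, 4, 3, 2, 1, 0, 8, 3, 2, 1, 4, 3, 5, 8, 9, 8, 3, 2, 4, 3, 5, 4, 6, 5, 8, 3, 2, 9],
    [7, 6, 5, 4, 3, 2, 1, 0, 8, 3, 2, 1, 4, 3, 5, 9, 8, 3, 2, 1, 0, 4, 3, 2, 5, 4, 6, 5, 7, 8],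
    [7, 6, 5, 4, 3, 2, 1, 0, 8, 3, 2, 1, 4, 3, 5, 9, 8, 3, 2, 1, 0, 4, 3, 5, 4, 6, 5, 8, 3, 9],
    [7, 6, 5, 4, 3, 2, 1, 0, 8, 3, 2, 1, 4, 3, 5, 9, 8, 3, 2, 1, 4, 3, 2, 5, 4, 6, 5, 8, 3, 4],
    [7, 6, 5, 4, 3, 2, 1, 0, 8, 3, 2, 1, 4, 3, 5, 9, 8, 3, 2, 1, 4, 3, 2, 5, 4, 8, 3, 2, 1, 9],
    [7, 6, 5, 4, 3, 2, 1, 0, 8, 3, 2, 1, 4, 3, 5, 9, 8, 3, 2, 1, 4, 3, 5, 4, 6, 5, 7, 8, 3, 2],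
    [7, 6, 5, 4, 3, 2, 1, 0, 8, 3, 2, 1, 4, 3, 5, 9, 8, 3, 2, 1, 4, 3, 5, 4, 6, 5, 8, 3, 2, 1],
    [7, 6, 5, 4, 3, 2, 1, 0, 8, 3, 2, 1, 4, 3, 5, 9, 8, 3, 2, 4, 3, 5, 4, 6, 7, 8, 3, 2, 1, 0],
    [7, 6, 5, 4, 3, 2, 1, 0, 8, 3, 2, 1, 4, 3, 5, 9, 8, 3, 2, 4, 3, 5, 4, 6, 8, 3, 2, 1, 9, 8],
    [7, 6, 5, 4, 3, 2, 1, 0, 8, 3, 2, 1, 4, 3, 8, 9, 8, 3, 2, 1, 4, 3, 5, 4, 6, 5, 7, 8, 3, 4],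
    [7, 6, 5, 4, 3, 2, 1, 0, 8, 3, 2, 1, 4, 3, 8, 9, 8, 3, 2, 4, 3, 5, 4, 6, 8, 3, 2, 1, 0, 9],
    [7, 6, 5, 4, 3, 2, 1, 0, 8, 3, 2, 1, 4, 3, 9, 8, 3, 2, 1, 0, 4, 3, 5, 4, 6, 5, 7, 6, 8, 3],
    [7, 6, 5, 4, 3, 2, 1, 0, 8, 3, 2, 1, 4, 3, 9, 8, 3, 2, 1, 4, 3, 2, 5, 4, 3, 6, 5, 8, 3, 4],
    [7, 6, 5, 4, 3, 2, 1, 0, 8, 3, 2, 1, 4, 3, 9, 8, 3, 2, 1, 4, 3, 2, 5, 4, 3, 8, 3, 2, 1, 9],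
    [7, 6, 5, 4, 3, 2, 1, 0, 8, 3, 2, 1, 4, 3, 9, 8, 3, 2, 1, 4, 3, 2, 5, 4, 6, 5, 7, 6, 8, 3]]

/-- A part of the representatives. -/
def repsV_21 : List (List ℕ) :=
  [[7, 6, 5, 4, 3, 2, 1, 0, 8, 3, 2, 1, 4, 3, 9, 8, 3, 2, 1, 4, 3, 5, 4, 6, 5, 8, 3, 2, 1, 0],
    [7, 6, 5, 4, 3, 2, 1, 0, 8, 3, 2, 1, 4, 5, 6, 9, 8, 3, 2, 1, 0, 4, 3, 2, 5, 4, 8, 3, 2, 9],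
    [7, 6, 5, 4, 3, 2, 1, 0, 8, 3, 2, 1, 4, 5, 6, 9, 8, 3, 2, 1, 4, 3, 2, 5, 4, 3, 8, 3, 2, 1],
    [7, 6, 5, 4, 3, 2, 1, 0, 8, 3, 2, 1, 4, 5, 6, 9, 8, 3, 2, 1, 4, 3, 2, 5, 4, 3, 8, 3, 2, 9],
    [7, 6, 5, 4, 3, 2, 1, 0, 8, 3, 2, 1, 4, 5, 6, 9, 8, 3, 2, 1, 4, 3, 2, 5, 4, 8, 3, 2, 4, 9],
    [7, 6, 5, 4, 3, 2, 1, 0, 8, 3, 2, 1, 4, 5, 9, 8, 3, 2, 1, 0, 4, 3, 5, 4, 6, 7, 8, 3, 2, 9],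
    [7, 6, 5, 4, 3, 2, 1, 0, 8, 3, 2, 1, 4, 5, 9, 8, 3, 2, 1, 4, 3, 2, 5, 4, 6, 5, 8, 3, 9, 8],
    [7, 6, 5, 4, 3, 2, 1, 0, 8, 3, 2, 1, 4, 5, 9, 8, 3, 2, 1, 4, 3, 2, 5, 4, 8, 3, 2, 1, 4, 5],
    [7, 6, 5, 4, 3, 2, 1, 0, 8, 3, 2, 1, 4, 5, 9, 8, 3, 2, 1, 4, 3, 5, 4, 6, 5, 8, 3, 2, 1, 9],
    [7, 6, 5, 4, 3, 2, 1, 0, 8, 3, 2, 1, 4, 5, 9, 8, 3, 2, 1, 4, 3, 5, 4, 6, 8, 3, 2, 9, 8, 3],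
    [7, 6, 5, 4, 3, 2, 1, 0, 8, 3, 2, 1, 4, 9, 8, 3, 2, 1, 0, 4, 3, 5, 4, 6, 5, 8, 3, 2, 1, 4],
    [7, 6, 5, 4, 3, 2, 1, 0, 8, 3, 2, 1, 4, 9, 8, 3, 2, 1, 0, 4, 3, 5, 4, 6, 8, 3, 2, 9, 8, 3],
    [7, 6, 5, 4, 3, 2, 1, 0, 8, 3, 2, 4, 3, 5, 4, 9, 8, 3, 2, 1, 4, 3, 2, 5, 8, 3, 4, 5, 6, 7],
    [7, 6, 5, 4, 3, 2, 1, 0, 8, 3, 2, 4, 3, 5, 6, 8, 9, 8, 3, 2, 1, 0, 4, 3, 2, 5, 4, 3, 8, 9],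
    [7, 6, 5, 4, 3, 2, 1, 0, 8, 3, 2, 4, 3, 8, 9, 8, 3, 2, 1, 4, 3, 2, 5, 4, 3, 6, 5, 4, 8, 9],
    [7, 6, 5, 4, 3, 2, 1, 0, 8, 3, 2, 4, 3, 9, 8, 3, 2, 1, 4, 3, 2, 5, 4, 3, 6, 5, 4, 7, 8, 9],
    [7, 6, 5, 4, 3, 2, 1, 0, 8, 3, 2, 4, 5, 9, 8, 3, 2, 1, 4, 3, 2, 5, 6, 7, 8, 3, 4, 5, 6, 7],
    [7, 6, 5, 4, 3, 2, 1, 0, 8, 3, 2, 1, 4, 3, 2, 5, 4, 3, 6, 9, 8, 3, 2, 1, 4, 3, 2, 8, 3, 4,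
      5],
    [7, 6, 5, 4, 3, 2, 1, 0, 8, 3, 2, 1, 4, 3, 2, 5, 4, 3, 6, 9, 8, 3, 2, 1, 4, 3, 2, 8, 3, 9,
      8],
    [7, 6, 5, 4, 3, 2, 1, 0, 8, 3, 2, 1, 4, 3, 2, 5, 4, 3, 9, 8, 3, 2, 1, 0, 4, 3, 2, 8, 3, 4,
      9],
    [7, 6, 5, 4, 3, 2, 1, 0, 8, 3, 2, 1, 4, 3, 2, 5, 4, 3, 9, 8, 3, 2, 1, 4, 3, 2, 8, 3, 4, 9,
      8],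
    [7, 6, 5, 4, 3, 2, 1, 0, 8, 3, 2, 1, 4, 3, 2, 5, 4, 3, 9, 8, 3, 2, 4, 3, 5, 4, 6, 8, 3, 2,
      1],
    [7, 6, 5, 4, 3, 2, 1, 0, 8, 3, 2, 1, 4, 3, 2, 5, 4, 3, 9, 8, 3, 2, 4, 3, 5, 4, 8, 3, 2, 1,
      0],
    [7, 6, 5, 4, 3, 2, 1, 0, 8, 3, 2, 1, 4, 3, 2, 5, 4, 6, 8, 9, 8, 3, 2, 4, 3, 5, 4, 6, 5, 7,
      8],
    [7, 6, 5, 4, 3, 2, 1, 0, 8, 3, 2, 1, 4, 3, 2, 5, 4, 6, 9, 8, 3, 2, 1, 0, 4, 3, 2, 1, 5, 6,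
      7],
    [7, 6, 5, 4, 3, 2, 1, 0, 8, 3, 2, 1, 4, 3, 2, 5, 4, 9, 8, 3, 2, 1, 0, 4, 3, 2, 1, 5, 4, 6,
      5],
    [7, 6, 5, 4, 3, 2, 1, 0, 8, 3, 2, 1, 4, 3, 2, 5, 4, 9, 8, 3, 2, 1, 0, 4, 3, 2, 1, 5, 4, 6,
      7],
    [7, 6, 5, 4, 3, 2, 1, 0, 8, 3, 2, 1, 4, 3, 2, 5, 4, 9, 8, 3, 2, 1, 4, 3, 2, 5, 4, 3, 6, 8,
      9],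
    [7, 6, 5, 4, 3, 2, 1, 0, 8, 3, 2, 1, 4, 3, 2, 5, 4, 9, 8, 3, 2, 1, 4, 3, 2, 5, 4, 6, 5, 8,
      3],
    [7, 6, 5, 4, 3, 2, 1, 0, 8, 3, 2, 1, 4, 3, 2, 5, 4, 9, 8, 3, 2, 1, 4, 3, 2, 5, 4, 8, 3, 4,
      9],
    [7, 6, 5, 4, 3, 2, 1, 0, 8, 3, 2, 1, 4, 3, 2, 5, 4, 9, 8, 3, 2, 1, 4, 3, 5, 4, 6, 5, 8, 3,
      9],
    [7, 6, 5, 4, 3, 2, 1, 0, 8, 3, 2, 1, 4, 3, 2, 5, 6, 7, 9, 8, 3, 2, 1, 0, 4, 3, 2, 1, 5, 6,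
      7],
    [7, 6, 5, 4, 3, 2, 1, 0, 8, 3, 2, 1, 4, 3, 2, 5, 6, 8, 9, 8, 3, 2, 1, 0, 4, 3, 2, 1, 5, 4,
      6],
    [7, 6, 5, 4, 3, 2, 1, 0, 8, 3, 2, 1, 4, 3, 2, 5, 6, 8, 9, 8, 3, 2, 1, 0, 4, 3, 5, 4, 6, 5,
      7],
    [7, 6, 5, 4, 3, 2, 1, 0, 8, 3, 2, 1, 4, 3, 2, 5, 6, 8, 9, 8, 3, 2, 1, 4, 3, 2, 5, 4, 8, 3,
      2],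
    [7, 6, 5, 4, 3, 2, 1, 0, 8, 3, 2, 1, 4, 3, 2, 5, 6, 8, 9, 8, 3, 2, 1, 4, 3, 5, 4, 6, 7, 8,
      9],
    [7, 6, 5, 4, 3, 2, 1, 0, 8, 3, 2, 1, 4, 3, 2, 5, 6, 9, 8, 3, 2, 1, 0, 4, 3, 2, 1, 5, 4, 3,
      2],
    [7, 6, 5, 4, 3, 2, 1, 0, 8, 3, 2, 1, 4, 3, 2, 5, 6, 9, 8, 3, 2, 1, 0, 4, 3, 2, 1, 5, 6, 8,
      9],
    [7, 6, 5, 4, 3, 2, 1, 0, 8, 3, 2, 1, 4, 3, 2, 5, 6, 9, 8, 3, 2, 1, 0, 4, 3, 2, 5, 4, 6, 5,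
      7],
    [7, 6, 5, 4, 3, 2, 1, 0, 8, 3, 2, 1, 4, 3, 2, 5, 6, 9, 8, 3, 2, 1, 0, 4, 3, 5, 4, 8, 3, 2,
      1],
    [7, 6, 5, 4, 3, 2, 1, 0, 8, 3, 2, 1, 4, 3, 2, 5, 6, 9, 8, 3, 2, 1, 4, 3, 2, 5, 8, 3, 4, 5,
      9],
    [7, 6, 5, 4, 3, 2, 1, 0, 8, 3, 2, 1, 4, 3, 2, 5, 6, 9, 8, 3, 2, 1, 4, 3, 2, 8, 3, 4, 5, 9,
      8],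
    [7, 6, 5, 4, 3, 2, 1, 0, 8, 3, 2, 1, 4, 3, 2, 5, 8, 3, 9, 8, 3, 2, 1, 4, 3, 2, 8, 3, 4, 5,
      9],
    [7, 6, 5, 4, 3, 2, 1, 0, 8, 3, 2, 1, 4, 3, 2, 5, 8, 9, 8, 3, 2, 1, 0, 4, 3, 2, 1, 5, 4, 6,
      5],
    [7, 6, 5, 4, 3, 2, 1, 0, 8, 3, 2, 1, 4, 3, 2, 5, 8, 9, 8, 3, 2, 1, 0, 4, 3, 2, 5, 6, 7, 8,
      9],
    [7, 6, 5, 4, 3, 2, 1, 0, 8, 3, 2, 1, 4, 3, 2, 5, 8, 9, 8, 3, 2, 1, 4, 3, 2, 5, 4, 3, 8, 3,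
      9],
    [7, 6, 5, 4, 3, 2, 1, 0, 8, 3, 2, 1, 4, 3, 2, 5, 8, 9, 8, 3, 2, 1, 4, 3, 2, 5, 4, 6, 5, 7,
      8],
    [7, 6, 5, 4, 3, 2, 1, 0, 8, 3, 2, 1, 4, 3, 2, 5, 8, 9, 8, 3, 2, 1, 4, 3, 2, 5, 6, 8, 3, 9,
      8],
    [7, 6, 5, 4, 3, 2, 1, 0, 8, 3, 2, 1, 4, 3, 2, 5, 9, 8, 3, 2, 1, 0, 4, 3, 5, 4, 6, 5, 7, 6,
      8],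
    [7, 6, 5, 4, 3, 2, 1, 0, 8, 3, 2, 1, 4, 3, 2, 5, 9, 8, 3, 2, 1, 4, 3, 2, 5, 4, 3, 6, 8, 3,
      4],
    [7, 6, 5, 4, 3, 2, 1, 0, 8, 3, 2, 1, 4, 3, 2, 5, 9, 8, 3, 2, 1, 4, 3, 2, 5, 4, 3, 8, 3, 2,
      4],
    [7, 6, 5, 4, 3, 2, 1, 0, 8, 3, 2, 1, 4, 3, 2, 5, 9, 8, 3, 2, 1, 4, 3, 2, 5, 4, 6, 7, 8, 3,
      2],
    [7, 6, 5, 4, 3, 2, 1, 0, 8, 3, 2, 1, 4, 3, 2, 9, 8, 3, 2, 1, 4, 3, 2, 5, 4, 3, 6, 7, 8, 3,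
      2],
    [7, 6, 5, 4, 3, 2, 1, 0, 8, 3, 2, 1, 4, 3, 2, 9, 8, 3, 2, 1, 4, 3, 2, 5, 4, 6, 5, 7, 8, 3,
      2],
    [7, 6, 5, 4, 3, 2, 1, 0, 8, 3, 2, 1, 4, 3, 2, 9, 8, 3, 2, 1, 4, 3, 2, 5, 4, 6, 5, 8, 3, 2,
      1],
    [7, 6, 5, 4, 3, 2, 1, 0, 8, 3, 2, 1, 4, 3, 2, 9, 8, 3, 2, 1, 4, 3, 5, 4, 6, 5, 7, 8, 3, 4,
      9],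
    [7, 6, 5, 4, 3, 2, 1, 0, 8, 3, 2, 1, 4, 3, 2, 9, 8, 3, 2, 4, 3, 5, 4, 6, 5, 7, 8, 3, 2, 1,
      0],
    [7, 6, 5, 4, 3, 2, 1, 0, 8, 3, 2, 1, 4, 3, 5, 4, 6, 9, 8, 3, 2, 1, 0, 4, 3, 2, 1, 5, 6, 8,
      9],
    [7, 6, 5, 4, 3, 2, 1, 0, 8, 3, 2, 1, 4, 3, 5, 4, 9, 8, 3, 2, 1, 0, 4, 3, 2, 5, 4, 8, 3, 2,
      4],
    [7, 6, 5, 4, 3, 2, 1, 0, 8, 3, 2, 1, 4, 3, 5, 4, 9, 8, 3, 2, 1, 4, 3, 2, 5, 4, 3, 8, 3, 2,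
      4],
    [7, 6, 5, 4, 3, 2, 1, 0, 8, 3, 2, 1, 4, 3, 5, 4, 9, 8, 3, 2, 1, 4, 3, 2, 5, 4, 8, 3, 2, 1,
      0],
    [7, 6, 5, 4, 3, 2, 1, 0, 8, 3, 2, 1, 4, 3, 5, 4, 9, 8, 3, 2, 1, 4, 3, 2, 5, 6, 7, 8, 3, 4,
      9],
    [7, 6, 5, 4, 3, 2, 1, 0, 8, 3, 2, 1, 4, 3, 5, 4, 9, 8, 3, 2, 1, 4, 3, 2, 5, 6, 8, 3, 4, 5,
      9],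
    [7, 6, 5, 4, 3, 2, 1, 0, 8, 3, 2, 1, 4, 3, 5, 6, 7, 9, 8, 3, 2, 1, 0, 4, 3, 5, 4, 6, 5, 7,
      6],
    [7, 6, 5, 4, 3, 2, 1, 0, 8, 3, 2, 1, 4, 3, 5, 6, 8, 9, 8, 3, 2, 1, 0, 4, 3, 5, 4, 6, 7, 8,
      9],
    [7, 6, 5, 4, 3, 2, 1, 0, 8, 3, 2, 1, 4, 3, 5, 6, 8, 9, 8, 3, 2, 1, 4, 3, 2, 5, 4, 3, 6, 8,
      9],
    [7, 6, 5, 4, 3, 2, 1, 0, 8, 3, 2, 1, 4, 3, 5, 6, 8, 9, 8, 3, 2, 1, 4, 3, 2, 5, 4, 6, 7, 8,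
      9],
    [7, 6, 5, 4, 3, 2, 1, 0, 8, 3, 2, 1, 4, 3, 5, 6, 8, 9, 8, 3, 2, 1, 4, 3, 2, 5, 4, 8, 3, 2,
      1],
    [7, 6, 5, 4, 3, 2, 1, 0, 8, 3, 2, 1, 4, 3, 5, 6, 8, 9, 8, 3, 2, 1, 4, 3, 2, 5, 4, 8, 3, 2,
      4],
    [7, 6, 5, 4, 3, 2, 1, 0, 8, 3, 2, 1, 4, 3, 5, 6, 8, 9, 8, 3, 2, 1, 4, 3, 2, 5, 4, 8, 3, 2,
      9],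
    [7, 6, 5, 4, 3, 2, 1, 0, 8, 3, 2, 1, 4, 3, 5, 6, 9, 8, 3, 2, 1, 0, 4, 3, 2, 5, 4, 6, 7, 8,
      9],
    [7, 6, 5, 4, 3, 2, 1, 0, 8, 3, 2, 1, 4, 3, 5, 6, 9, 8, 3, 2, 1, 4, 3, 2, 5, 4, 6, 5, 8, 3,
      2],
    [7, 6, 5, 4, 3, 2, 1, 0, 8, 3, 2, 1, 4, 3, 5, 6, 9, 8, 3, 2, 1, 4, 3, 2, 5, 4, 8, 3, 2, 1,
      9],
    [7, 6, 5, 4, 3, 2, 1, 0, 8, 3, 2, 1, 4, 3, 5, 8, 9, 8, 3, 2, 1, 4, 3, 2, 5, 6, 8, 3, 4, 5,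
      9],
    [7, 6, 5, 4, 3, 2, 1, 0, 8, 3, 2, 1, 4, 3, 5, 9, 8, 3, 2, 1, 0, 4, 3, 5, 4, 6, 5, 8, 3, 4,
      9],
    [7, 6, 5, 4, 3, 2, 1, 0, 8, 3, 2, 1, 4, 3, 5, 9, 8, 3, 2, 1, 0, 4, 3, 5, 4, 6, 8, 3, 2, 1,
      0],
    [7, 6, 5, 4, 3, 2, 1, 0, 8, 3, 2, 1, 4, 3, 5, 9, 8, 3, 2, 1, 4, 3, 2, 5, 4, 6, 8, 3, 2, 4,
      5],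
    [7, 6, 5, 4, 3, 2, 1, 0, 8, 3, 2, 1, 4, 3, 5, 9, 8, 3, 2, 1, 4, 3, 2, 5, 4, 8, 3, 2, 1, 9,
      8],
    [7, 6, 5, 4, 3, 2, 1, 0, 8, 3, 2, 1, 4, 3, 5, 9, 8, 3, 2, 1, 4, 3, 2, 5, 6, 7, 8, 3, 4, 5,
      9],
    [7, 6, 5, 4, 3, 2, 1, 0, 8, 3, 2, 1, 4, 3, 5, 9, 8, 3, 2, 1, 4, 3, 5, 4, 8, 3, 2, 9, 8, 3,
      4],
    [7, 6, 5, 4, 3, 2, 1, 0, 8, 3, 2, 1, 4, 3, 9, 8, 3, 2, 1, 0, 4, 3, 5, 4, 6, 7, 8, 3, 2, 1,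
      0],
    [7, 6, 5, 4, 3, 2, 1, 0, 8, 3, 2, 1, 4, 5, 6, 9, 8, 3, 2, 1, 0, 4, 3, 5, 4, 6, 5, 8, 3, 9,
      8],
    [7, 6, 5, 4, 3, 2, 1, 0, 8, 3, 2, 1, 4, 5, 6, 9, 8, 3, 2, 1, 4, 3, 2, 5, 4, 3, 8, 3, 2, 1,
      4],
    [7, 6, 5, 4, 3, 2, 1, 0, 8, 3, 2, 1, 4, 5, 6, 9, 8, 3, 2, 1, 4, 3, 2, 5, 4, 3, 8, 3, 2, 4,
      9],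
    [7, 6, 5, 4, 3, 2, 1, 0, 8, 3, 2, 1, 4, 5, 6, 9, 8, 3, 2, 1, 4, 3, 2, 5, 4, 6, 8, 3, 4, 5,
      9],
    [7, 6, 5, 4, 3, 2, 1, 0, 8, 3, 2, 1, 4, 5, 6, 9, 8, 3, 2, 1, 4, 3, 2, 5, 4, 8, 3, 2, 4, 5,
      9],
    [7, 6, 5, 4, 3, 2, 1, 0, 8, 3, 2, 1, 4, 5, 9, 8, 3, 2, 1, 0, 4, 3, 5, 4, 6, 5, 7, 8, 3, 2,
      1],
    [7, 6, 5, 4, 3, 2, 1, 0, 8, 3, 2, 1, 4, 5, 9, 8, 3, 2, 1, 0, 4, 3, 5, 4, 6, 5, 8, 3, 2, 1,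
      4],
    [7, 6, 5, 4, 3, 2, 1, 0, 8, 3, 2, 1, 4, 5, 9, 8, 3, 2, 1, 0, 4, 3, 5, 4, 6, 5, 8, 3, 2, 1,
      9],
    [7, 6, 5, 4, 3, 2, 1, 0, 8, 3, 2, 1, 4, 5, 9, 8, 3, 2, 1, 0, 4, 3, 5, 4, 6, 5, 8, 3, 2, 4,
      9],
    [7, 6, 5, 4, 3, 2, 1, 0, 8, 3, 2, 1, 4, 5, 9, 8, 3, 2, 1, 0, 4, 3, 5, 4, 6, 8, 3, 2, 1, 9,
      8],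
    [7, 6, 5, 4, 3, 2, 1, 0, 8, 3, 2, 1, 4, 5, 9, 8, 3, 2, 1, 4, 3, 2, 5, 4, 6, 8, 3, 2, 9, 8,
      3],
    [7, 6, 5, 4, 3, 2, 1, 0, 8, 3, 2, 1, 4, 5, 9, 8, 3, 2, 1, 4, 3, 2, 5, 4, 8, 3, 2, 1, 0, 9,
      8],
    [7, 6, 5, 4, 3, 2, 1, 0, 8, 3, 2, 1, 4, 5, 9, 8, 3, 2, 1, 4, 3, 2, 5, 6, 7, 8, 3, 4, 5, 6,
      7],
    [7, 6, 5, 4, 3, 2, 1, 0, 8, 3, 2, 4, 3, 5, 4, 9, 8, 3, 2, 1, 0, 4, 3, 2, 5, 4, 3, 6, 8, 3,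
      9],
    [7, 6, 5, 4, 3, 2, 1, 0, 8, 3, 2, 1, 4, 3, 2, 5, 4, 6, 8, 9, 8, 3, 2, 1, 4, 3, 2, 5, 8, 3,
      4, 9],
    [7, 6, 5, 4, 3, 2, 1, 0, 8, 3, 2, 1, 4, 3, 2, 5, 4, 6, 8, 9, 8, 3, 2, 1, 4, 3, 5, 4, 8, 3,
      2, 1],
    [7, 6, 5, 4, 3, 2, 1, 0, 8, 3, 2, 1, 4, 3, 2, 5, 4, 6, 9, 8, 3, 2, 1, 0, 4, 3, 2, 1, 5, 4,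
      6, 5],
    [7, 6, 5, 4, 3, 2, 1, 0, 8, 3, 2, 1, 4, 3, 2, 5, 4, 9, 8, 3, 2, 1, 0, 4, 3, 2, 1, 5, 6, 7,
      8, 9],
    [7, 6, 5, 4, 3, 2, 1, 0, 8, 3, 2, 1, 4, 3, 2, 5, 4, 9, 8, 3, 2, 1, 4, 3, 2, 5, 4, 3, 8, 3,
      4, 9],
    [7, 6, 5, 4, 3, 2, 1, 0, 8, 3, 2, 1, 4, 3, 2, 5, 4, 9, 8, 3, 2, 1, 4, 3, 2, 5, 4, 6, 5, 8,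
      3, 4],
    [7, 6, 5, 4, 3, 2, 1, 0, 8, 3, 2, 1, 4, 3, 2, 5, 4, 9, 8, 3, 2, 1, 4, 3, 2, 5, 6, 8, 3, 4,
      5, 9],
    [7, 6, 5, 4, 3, 2, 1, 0, 8, 3, 2, 1, 4, 3, 2, 5, 6, 8, 3, 9, 8, 3, 2, 1, 4, 3, 2, 8, 3, 4,
      9, 8],
    [7, 6, 5, 4, 3, 2, 1, 0, 8, 3, 2, 1, 4, 3, 2, 5, 6, 8, 9, 8, 3, 2, 1, 0, 4, 3, 2, 1, 5, 4,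
      6, 5],
    [7, 6, 5, 4, 3, 2, 1, 0, 8, 3, 2, 1, 4, 3, 2, 5, 6, 9, 8, 3, 2, 1, 4, 3, 2, 5, 4, 3, 6, 5,
      7, 6],
    [7, 6, 5, 4, 3, 2, 1, 0, 8, 3, 2, 1, 4, 3, 2, 5, 6, 9, 8, 3, 2, 1, 4, 3, 2, 5, 4, 3, 8, 3,
      2, 1],
    [7, 6, 5, 4, 3, 2, 1, 0, 8, 3, 2, 1, 4, 3, 2, 5, 8, 9, 8, 3, 2, 1, 4, 3, 5, 4, 6, 5, 7, 8,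
      3, 2],
    [7, 6, 5, 4, 3, 2, 1, 0, 8, 3, 2, 1, 4, 3, 2, 5, 9, 8, 3, 2, 1, 0, 4, 3, 2, 1, 5, 4, 3, 8,
      3, 9],
    [7, 6, 5, 4, 3, 2, 1, 0, 8, 3, 2, 1, 4, 3, 2, 5, 9, 8, 3, 2, 1, 0, 4, 3, 2, 1, 5, 4, 6, 5,
      8, 9],
    [7, 6, 5, 4, 3, 2, 1, 0, 8, 3, 2, 1, 4, 3, 2, 5, 9, 8, 3, 2, 1, 0, 4, 3, 2, 5, 4, 3, 6, 7,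
      8, 3],
    [7, 6, 5, 4, 3, 2, 1, 0, 8, 3, 2, 1, 4, 3, 2, 5, 9, 8, 3, 2, 1, 0, 4, 3, 2, 5, 6, 7, 8, 3,
      4, 5],
    [7, 6, 5, 4, 3, 2, 1, 0, 8, 3, 2, 1, 4, 3, 2, 5, 9, 8, 3, 2, 1, 4, 3, 2, 5, 4, 3, 6, 5, 4,
      7, 8],
    [7, 6, 5, 4, 3, 2, 1, 0, 8, 3, 2, 1, 4, 3, 2, 5, 9, 8, 3, 2, 1, 4, 3, 2, 5, 4, 3, 8, 3, 2,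
      4, 9],
    [7, 6, 5, 4, 3, 2, 1, 0, 8, 3, 2, 1, 4, 3, 2, 5, 9, 8, 3, 2, 1, 4, 3, 2, 5, 4, 6, 7, 8, 3,
      4, 9],
    [7, 6, 5, 4, 3, 2, 1, 0, 8, 3, 2, 1, 4, 3, 2, 5, 9, 8, 3, 2, 1, 4, 3, 2, 5, 6, 8, 3, 4, 5,
      9, 8],
    [7, 6, 5, 4, 3, 2, 1, 0, 8, 3, 2, 1, 4, 3, 2, 5, 9, 8, 3, 2, 1, 4, 3, 5, 4, 6, 5, 7, 8, 3,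
      4, 9],
    [7, 6, 5, 4, 3, 2, 1, 0, 8, 3, 2, 1, 4, 3, 2, 5, 9, 8, 3, 2, 4, 3, 5, 4, 6, 5, 8, 3, 2, 1,
      0, 4],
    [7, 6, 5, 4, 3, 2, 1, 0, 8, 3, 2, 1, 4, 3, 5, 4, 6, 7, 9, 8, 3, 2, 1, 4, 3, 2, 8, 3, 4, 5,
      6, 7],
    [7, 6, 5, 4, 3, 2, 1, 0, 8, 3, 2, 1, 4, 3, 5, 4, 6, 9, 8, 3, 2, 1, 4, 3, 2, 5, 6, 8, 3, 4,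
      5, 9],
    [7, 6, 5, 4, 3, 2, 1, 0, 8, 3, 2, 1, 4, 3, 5, 4, 6, 9, 8, 3, 2, 1, 4, 3, 2, 8, 3, 4, 5, 6,
      7, 9],
    [7, 6, 5, 4, 3, 2, 1, 0, 8, 3, 2, 1, 4, 3, 5, 4, 8, 9, 8, 3, 2, 1, 4, 3, 2, 5, 4, 6, 5, 8,
      3, 2],
    [7, 6, 5, 4, 3, 2, 1, 0, 8, 3, 2, 1, 4, 3, 5, 4, 8, 9, 8, 3, 2, 1, 4, 3, 2, 5, 4, 8, 3, 2,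
      1, 9],
    [7, 6, 5, 4, 3, 2, 1, 0, 8, 3, 2, 1, 4, 3, 5, 4, 9, 8, 3, 2, 1, 0, 4, 3, 2, 1, 5, 4, 6, 5,
      8, 9],
    [7, 6, 5, 4, 3, 2, 1, 0, 8, 3, 2, 1, 4, 3, 5, 4, 9, 8, 3, 2, 1, 0, 4, 3, 2, 5, 4, 6, 5, 8,
      3, 2],
    [7, 6, 5, 4, 3, 2, 1, 0, 8, 3, 2, 1, 4, 3, 5, 4, 9, 8, 3, 2, 1, 0, 4, 3, 2, 5, 4, 8, 3, 2,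
      4, 9],
    [7, 6, 5, 4, 3, 2, 1, 0, 8, 3, 2, 1, 4, 3, 5, 4, 9, 8, 3, 2, 1, 4, 3, 2, 5, 4, 3, 8, 3, 2,
      4, 9],
    [7, 6, 5, 4, 3, 2, 1, 0, 8, 3, 2, 1, 4, 3, 5, 4, 9, 8, 3, 2, 1, 4, 3, 2, 5, 4, 6, 7, 8, 3,
      2, 1],
    [7, 6, 5, 4, 3, 2, 1, 0, 8, 3, 2, 1, 4, 3, 5, 6, 8, 9, 8, 3, 2, 1, 4, 3, 2, 5, 6, 8, 3, 4,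
      5, 9]]

/-- A part of the representatives. -/
def repsV_22 : List (List ℕ) :=
  [[7, 6, 5, 4, 3, 2, 1, 0, 8, 3, 2, 1, 4, 3, 5, 8, 9, 8, 3, 2, 1, 4, 3, 2, 5, 4, 3, 6, 5, 4,
      8, 9],
    [7, 6, 5, 4, 3, 2, 1, 0, 8, 3, 2, 1, 4, 3, 5, 8, 9, 8, 3, 2, 1, 4, 3, 2, 5, 4, 6, 7, 8, 3,
      2, 9],
    [7, 6, 5, 4, 3, 2, 1, 0, 8, 3, 2, 1, 4, 3, 5, 9, 8, 3, 2, 1, 0, 4, 3, 5, 4, 6, 5, 8, 3, 2,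
      1, 0],
    [7, 6, 5, 4, 3, 2, 1, 0, 8, 3, 2, 1, 4, 3, 5, 9, 8, 3, 2, 1, 4, 3, 2, 5, 4, 3, 6, 5, 7, 8,
      3, 9],
    [7, 6, 5, 4, 3, 2, 1, 0, 8, 3, 2, 1, 4, 3, 5, 9, 8, 3, 2, 1, 4, 3, 2, 5, 4, 6, 5, 8, 3, 2,
      4, 5],
    [7, 6, 5, 4, 3, 2, 1, 0, 8, 3, 2, 1, 4, 3, 5, 9, 8, 3, 2, 1, 4, 3, 2, 5, 4, 6, 8, 3, 2, 4,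
      5, 9],
    [7, 6, 5, 4, 3, 2, 1, 0, 8, 3, 2, 1, 4, 3, 5, 9, 8, 3, 2, 1, 4, 3, 2, 5, 4, 6, 8, 3, 4, 5,
      9, 8],
    [7, 6, 5, 4, 3, 2, 1, 0, 8, 3, 2, 1, 4, 3, 9, 8, 3, 2, 1, 4, 3, 2, 5, 4, 3, 6, 5, 7, 8, 3,
      2, 4],
    [7, 6, 5, 4, 3, 2, 1, 0, 8, 3, 2, 1, 4, 5, 6, 9, 8, 3, 2, 1, 0, 4, 3, 5, 4, 6, 8, 3, 2, 9,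
      8, 3],
    [7, 6, 5, 4, 3, 2, 1, 0, 8, 3, 2, 1, 4, 3, 2, 5, 4, 6, 8, 9, 8, 3, 2, 1, 4, 3, 2, 5, 6, 7,
      8, 3, 9],
    [7, 6, 5, 4, 3, 2, 1, 0, 8, 3, 2, 1, 4, 3, 2, 5, 4, 6, 8, 9, 8, 3, 2, 4, 3, 5, 4, 6, 8, 3,
      2, 1, 0],
    [7, 6, 5, 4, 3, 2, 1, 0, 8, 3, 2, 1, 4, 3, 2, 5, 4, 8, 9, 8, 3, 2, 1, 4, 3, 2, 5, 4, 6, 7,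
      8, 3, 2],
    [7, 6, 5, 4, 3, 2, 1, 0, 8, 3, 2, 1, 4, 3, 2, 5, 4, 9, 8, 3, 2, 1, 4, 3, 2, 5, 4, 6, 8, 3,
      2, 1, 9],
    [7, 6, 5, 4, 3, 2, 1, 0, 8, 3, 2, 1, 4, 3, 2, 5, 6, 9, 8, 3, 2, 1, 0, 4, 3, 2, 1, 5, 4, 6,
      5, 7, 8],
    [7, 6, 5, 4, 3, 2, 1, 0, 8, 3, 2, 1, 4, 3, 2, 5, 6, 9, 8, 3, 2, 1, 4, 3, 2, 5, 4, 3, 6, 8,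
      3, 2, 1],
    [7, 6, 5, 4, 3, 2, 1, 0, 8, 3, 2, 1, 4, 3, 2, 5, 6, 9, 8, 3, 2, 1, 4, 3, 2, 5, 4, 3, 8, 3,
      2, 1, 9],
    [7, 6, 5, 4, 3, 2, 1, 0, 8, 3, 2, 1, 4, 3, 2, 5, 6, 9, 8, 3, 2, 1, 4, 3, 2, 5, 4, 8, 3, 2,
      1, 0, 9],
    [7, 6, 5, 4, 3, 2, 1, 0, 8, 3, 2, 1, 4, 3, 2, 5, 8, 9, 8, 3, 2, 1, 4, 3, 2, 5, 4, 3, 6, 5,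
      4, 7, 8],
    [7, 6, 5, 4, 3, 2, 1, 0, 8, 3, 2, 1, 4, 3, 2, 5, 9, 8, 3, 2, 1, 0, 4, 3, 5, 4, 6, 5, 7, 8,
      3, 2, 4],
    [7, 6, 5, 4, 3, 2, 1, 0, 8, 3, 2, 1, 4, 3, 2, 5, 9, 8, 3, 2, 1, 4, 3, 2, 5, 4, 3, 6, 5, 4,
      8, 3, 9],
    [7, 6, 5, 4, 3, 2, 1, 0, 8, 3, 2, 1, 4, 3, 2, 5, 9, 8, 3, 2, 1, 4, 3, 2, 5, 4, 3, 6, 5, 8,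
      3, 4, 5],
    [7, 6, 5, 4, 3, 2, 1, 0, 8, 3, 2, 1, 4, 3, 2, 5, 9, 8, 3, 2, 1, 4, 3, 2, 5, 6, 7, 8, 3, 4,
      5, 6, 9],
    [7, 6, 5, 4, 3, 2, 1, 0, 8, 3, 2, 1, 4, 3, 2, 9, 8, 3, 2, 1, 0, 4, 3, 2, 5, 4, 3, 6, 5, 4,
      7, 8, 9],
    [7, 6, 5, 4, 3, 2, 1, 0, 8, 3, 2, 1, 4, 3, 2, 9, 8, 3, 2, 1, 4, 3, 2, 5, 4, 3, 6, 5, 8, 3,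
      2, 4, 9],
    [7, 6, 5, 4, 3, 2, 1, 0, 8, 3, 2, 1, 4, 3, 5, 4, 6, 9, 8, 3, 2, 1, 0, 4, 3, 2, 5, 6, 8, 3,
      4, 5, 9],
    [7, 6, 5, 4, 3, 2, 1, 0, 8, 3, 2, 1, 4, 3, 5, 4, 6, 9, 8, 3, 2, 1, 4, 3, 2, 5, 6, 8, 3, 4,
      5, 6, 9],
    [7, 6, 5, 4, 3, 2, 1, 0, 8, 3, 2, 1, 4, 3, 5, 4, 9, 8, 3, 2, 1, 0, 4, 3, 2, 5, 4, 6, 5, 8,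
      3, 2, 4],
    [7, 6, 5, 4, 3, 2, 1, 0, 8, 3, 2, 1, 4, 3, 5, 4, 9, 8, 3, 2, 1, 4, 3, 2, 5, 4, 6, 5, 7, 6,
      8, 3, 4],
    [7, 6, 5, 4, 3, 2, 1, 0, 8, 3, 2, 1, 4, 3, 5, 4, 9, 8, 3, 2, 1, 4, 3, 2, 5, 4, 6, 5, 7, 8,
      3, 2, 9],
    [7, 6, 5, 4, 3, 2, 1, 0, 8, 3, 2, 1, 4, 3, 5, 4, 9, 8, 3, 2, 1, 4, 3, 2, 5, 4, 6, 5, 8, 3,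
      2, 4, 9],
    [7, 6, 5, 4, 3, 2, 1, 0, 8, 3, 2, 1, 4, 3, 5, 4, 9, 8, 3, 2, 1, 4, 3, 2, 5, 4, 6, 7, 8, 3,
      2, 9, 8],
    [7, 6, 5, 4, 3, 2, 1, 0, 8, 3, 2, 1, 4, 3, 5, 4, 9, 8, 3, 2, 1, 4, 3, 2, 5, 4, 6, 8, 3, 2,
      1, 4, 5],
    [7, 6, 5, 4, 3, 2, 1, 0, 8, 3, 2, 1, 4, 3, 5, 6, 7, 8, 9, 8, 3, 2, 1, 4, 3, 2, 5, 4, 8, 3,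
      2, 4, 9],
    [7, 6, 5, 4, 3, 2, 1, 0, 8, 3, 2, 1, 4, 3, 5, 6, 8, 9, 8, 3, 2, 1, 0, 4, 3, 2, 5, 4, 6, 5,
      8, 3, 2],
    [7, 6, 5, 4, 3, 2, 1, 0, 8, 3, 2, 1, 4, 3, 5, 6, 9, 8, 3, 2, 1, 0, 4, 3, 2, 5, 4, 6, 5, 8,
      3, 2, 4],
    [7, 6, 5, 4, 3, 2, 1, 0, 8, 3, 2, 1, 4, 3, 5, 6, 9, 8, 3, 2, 1, 0, 4, 3, 2, 5, 4, 6, 5, 8,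
      3, 2, 9],
    [7, 6, 5, 4, 3, 2, 1, 0, 8, 3, 2, 1, 4, 3, 5, 6, 9, 8, 3, 2, 1, 0, 4, 3, 2, 5, 4, 6, 5, 8,
      3, 9, 8],
    [7, 6, 5, 4, 3, 2, 1, 0, 8, 3, 2, 1, 4, 3, 5, 8, 9, 8, 3, 2, 1, 0, 4, 3, 2, 5, 4, 6, 5, 7,
      8, 3, 9],
    [7, 6, 5, 4, 3, 2, 1, 0, 8, 3, 2, 1, 4, 3, 5, 9, 8, 3, 2, 1, 4, 3, 5, 4, 6, 7, 8, 3, 2, 9,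
      8, 3, 4],
    [7, 6, 5, 4, 3, 2, 1, 0, 8, 3, 2, 1, 4, 5, 9, 8, 3, 2, 1, 4, 3, 2, 5, 4, 6, 8, 3, 2, 1, 0,
      4, 5, 9],
    [7, 6, 5, 4, 3, 2, 1, 0, 8, 3, 2, 1, 4, 3, 2, 5, 4, 9, 8, 3, 2, 1, 4, 3, 2, 5, 4, 3, 6, 5,
      8, 3, 9, 8],
    [7, 6, 5, 4, 3, 2, 1, 0, 8, 3, 2, 1, 4, 3, 2, 5, 6, 9, 8, 3, 2, 1, 0, 4, 3, 2, 5, 6, 7, 8,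
      3, 4, 5, 9],
    [7, 6, 5, 4, 3, 2, 1, 0, 8, 3, 2, 1, 4, 3, 2, 5, 6, 9, 8, 3, 2, 1, 4, 3, 2, 5, 4, 3, 6, 8,
      3, 4, 5, 9],
    [7, 6, 5, 4, 3, 2, 1, 0, 8, 3, 2, 1, 4, 3, 2, 5, 6, 9, 8, 3, 2, 1, 4, 3, 2, 5, 4, 6, 7, 8,
      3, 2, 4, 5],
    [7, 6, 5, 4, 3, 2, 1, 0, 8, 3, 2, 1, 4, 3, 5, 4, 9, 8, 3, 2, 1, 4, 3, 2, 5, 4, 3, 6, 5, 8,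
      3, 2, 1, 4],
    [7, 6, 5, 4, 3, 2, 1, 0, 8, 3, 2, 1, 4, 3, 5, 4, 9, 8, 3, 2, 1, 4, 3, 2, 5, 4, 6, 7, 8, 3,
      2, 4, 5, 9],
    [7, 6, 5, 4, 3, 2, 1, 0, 8, 3, 2, 1, 4, 3, 5, 8, 9, 8, 3, 2, 1, 4, 3, 2, 5, 4, 6, 5, 7, 6,
      8, 3, 9, 8],
    [7, 6, 5, 4, 3, 2, 1, 0, 8, 3, 2, 1, 4, 3, 5, 9, 8, 3, 2, 1, 0, 4, 3, 2, 5, 4, 3, 6, 5, 4,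
      8, 3, 2, 9],
    [7, 6, 5, 4, 3, 2, 1, 0, 8, 3, 2, 1, 4, 3, 5, 9, 8, 3, 2, 1, 4, 3, 2, 5, 4, 3, 6, 5, 4, 8,
      3, 2, 1, 9],
    [7, 6, 5, 4, 3, 2, 1, 0, 8, 3, 2, 1, 4, 3, 5, 9, 8, 3, 2, 1, 4, 3, 2, 5, 4, 6, 5, 8, 3, 2,
      4, 3, 5, 6],
    [7, 6, 5, 4, 3, 2, 1, 0, 8, 3, 2, 1, 4, 5, 9, 8, 3, 2, 1, 4, 3, 2, 5, 4, 6, 5, 8, 3, 2, 1,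
      4, 5, 6, 9],
    [7, 6, 5, 4, 3, 2, 1, 0, 8, 3, 2, 1, 4, 3, 2, 5, 4, 9, 8, 3, 2, 1, 4, 3, 2, 5, 4, 3, 6, 5,
      7, 8, 3, 4, 9],
    [7, 6, 5, 4, 3, 2, 1, 0, 8, 3, 2, 1, 4, 3, 2, 5, 6, 9, 8, 3, 2, 1, 4, 3, 2, 5, 4, 6, 5, 8,
      3, 2, 1, 4, 9],
    [7, 6, 5, 4, 3, 2, 1, 0, 8, 3, 2, 1, 4, 3, 2, 5, 9, 8, 3, 2, 1, 4, 3, 2, 5, 4, 6, 8, 3, 2,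
      1, 4, 5, 6, 9],
    [7, 6, 5, 4, 3, 2, 1, 0, 8, 3, 2, 1, 4, 3, 5, 4, 9, 8, 3, 2, 1, 4, 3, 2, 5, 4, 3, 6, 5, 7,
      8, 3, 2, 4, 9],
    [7, 6, 5, 4, 3, 2, 1, 0, 8, 3, 2, 1, 4, 3, 5, 4, 9, 8, 3, 2, 1, 4, 3, 2, 5, 4, 3, 6, 7, 8,
      3, 2, 1, 9, 8],
    [7, 6, 5, 4, 3, 2, 1, 0, 8, 3, 2, 1, 4, 3, 5, 4, 9, 8, 3, 2, 1, 4, 3, 2, 5, 4, 6, 5, 7, 8,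
      3, 2, 4, 5, 9],
    [7, 6, 5, 4, 3, 2, 1, 0, 8, 3, 2, 1, 4, 3, 2, 5, 4, 8, 9, 8, 3, 2, 1, 4, 3, 2, 5, 4, 3, 6,
      7, 8, 3, 2, 9, 8],
    [7, 6, 5, 4, 3, 2, 1, 0, 8, 3, 2, 1, 4, 3, 2, 5, 4, 8, 9, 8, 3, 2, 1, 4, 3, 2, 5, 4, 6, 5,
      8, 3, 2, 1, 4, 9],
    [7, 6, 5, 4, 3, 2, 1, 0, 8, 3, 2, 1, 4, 3, 5, 4, 8, 9, 8, 3, 2, 1, 4, 3, 2, 5, 4, 3, 6, 5,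
      4, 8, 3, 2, 4, 9],
    [7, 6, 5, 4, 3, 2, 1, 0, 8, 3, 2, 1, 4, 3, 5, 4, 9, 8, 3, 2, 1, 0, 4, 3, 2, 5, 4, 3, 6, 5,
      8, 3, 2, 4, 9, 8],
    [7, 6, 5, 4, 3, 2, 1, 0, 8, 3, 2, 1, 4, 3, 5, 4, 9, 8, 3, 2, 1, 0, 4, 3, 2, 5, 4, 6, 5, 7,
      8, 3, 2, 4, 5, 9],
    [7, 6, 5, 4, 3, 2, 1, 0, 8, 3, 2, 1, 4, 3, 2, 5, 6, 9, 8, 3, 2, 1, 4, 3, 2, 5, 4, 6, 5, 8,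
      3, 2, 1, 4, 5, 9, 8],
    [7, 6, 5, 4, 3, 2, 1, 0, 8, 3, 2, 1, 4, 3, 5, 9, 8, 3, 2, 1, 0, 4, 3, 2, 5, 4, 6, 5, 8, 3,
      2, 1, 4, 9, 8, 3, 2, 1, 0],
    [7, 6, 5, 4, 3, 2, 1, 0, 8, 3, 2, 1, 4, 3, 2, 5, 6, 9, 8, 3, 2, 1, 0, 4, 3, 2, 5, 4, 6, 5,
      7, 8, 3, 4, 5, 9, 8, 3, 2, 1]]

/-- The representatives. -/
def repsV : List (List ℕ) :=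
  repsV_0 ++
    repsV_1 ++
    repsV_2 ++
    repsV_3 ++
    repsV_4 ++
    repsV_5 ++
    repsV_6 ++
    repsV_7 ++
    repsV_8 ++
    repsV_9 ++
    repsV_10 ++
    repsV_11 ++
    repsV_12 ++
    repsV_13 ++
    repsV_14 ++
    repsV_15 ++
    repsV_16 ++
    repsV_17 ++
    repsV_18 ++
    repsV_19 ++
    repsV_20 ++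
    repsV_21 ++
    repsV_22

end CfsgLib.Fi24Out
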