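import Cfsg.Agent.Lib.Fi24Out.Defs
import Cfsg.Agent.Lib.Fi24Out.DataRepsV

/-!
# Kernel checks: the element of order 11
-/

set_option autoImplicit false
set_option maxRecDepth 100000

namespace CfsgLib.Fi24Out

open CfsgLib.PresCert

theorem chk_coverV : Fi23P.coverOk wV 11 repsV = true := by decide +kernel

theorem chk_scanV : Fi23P.scanOk wV pxV patV goodV sepsV repsV = true := by decide +kernel

theorem chk_seedV : Fi23P.seedOk wV patV goodV sWords pxV = true := by decide +kernel

theorem chk_reachV : Fi23P.genReach wV pxV esV (List.range 10) = true := by decide +kernel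

theorem chk_fixV : Fi23P.fixScan wV [0, ptB] repsV = true := by decide +kernel

end CfsgLib.Fi24Out
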