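import Cfsg.Agent.Lib.Fi24Out.CheckU
import Cfsg.Agent.Lib.Fi24Out.CheckV
import Cfsg.Agent.Lib.Fi24Out.CheckSmall
import Cfsg.Agent.Lib.Fi24Out.CheckGen
import Cfsg.Agent.Lib.Fi24Out.CheckCand

/-!
# All checks
-/

set_option autoImplicit false
set_option maxRecDepth 100000

namespace CfsgLib.Fi24Out

theorem cand_checks (minus : Bool) {k : ℕ} {m : List ℕ} (hk : k < 11) (hm : m ∈ mWords) :
    (rejected minus k m || (centWord k m).isEmpty || bif minus then false
      else sameW (centWord k m) wW || sameW (centWord k m) ([0] ++ wW ++ [0])) = true := by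
  have h := cand_all
  simp only [List.all_eq_true, List.mem_range] at h
  exact h minus (by cases minus <;> simp) m hm k hk

end CfsgLib.Fi24Out
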