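import Cfsg.Agent.Lib.Fi24Out.Lift
import Cfsg.Agent.Lib.Fi24Out.Checks
import Cfsg.Agent.Lib.MathieuOut.Abstract
import Cfsg.Prelude.Def_KGroupFacts

/-!
# The automorphisms of the commutator subgroup

The normaliser of a group of order 23 fixes a single point, so every automorphism can be normalised
to fix an element of order 11 and to send one of order 23 to itself or its inverse. The centraliser
of the former has 264 elements, and among them only two candidates remain for the image of a
third generator.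
-/

set_option autoImplicit false
set_option maxRecDepth 100000

namespace CfsgLib.Fi24Out

open CfsgLib.PresCert Cfsg.Spor CfsgLib.Fi24P

attribute [local irreducible] wUs wV wH pxU pxV qPath patU patV repsU repsV goodU goodV sWords
  tWords wW relList genWord esU esV esK testPt

theorem prime_23 : Nat.Prime 23 := by norm_num
theorem prime_11 : Nat.Prime 11 := by norm_num

/-! ### The smaller group -/

theorem lt_small : (∀ g ∈ wUs, g < 10) ∧ (∀ g ∈ wV, g < 10) ∧ (∀ g ∈ wH, g < 10) ∧
    (∀ g ∈ pxU, g < 10) ∧ (∀ g ∈ pxV, g < 10) ∧ (∀ g ∈ qPath, g < 10) := by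
  have h := chk_letters
  simp only [List.all_cons, List.all_nil, Bool.and_true, Bool.and_eq_true, List.all_eq_true,
    Nat.blt_eq] at h
  exact h

theorem lt_u : ∀ g ∈ wU, g < 10 := by
  intro g hg
  simp only [wU, List.mem_append, List.mem_reverse] at hg
  rcases hg with (hg | hg) | hg
  exacts [lt_small.2.2.1 g hg, lt_small.1 g hg, lt_small.2.2.1 g hg]

/-- The short element of order 23. -/
noncomputable def zUs : Cfsg.Spor.Fi23 := act Fi23P.fiGen wUs
/-- The element of order 23. -/
noncomputable def zU : Cfsg.Spor.Fi23 := act Fi23P.fiGen wU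
/-- The element of order 11. -/
noncomputable def zV : Cfsg.Spor.Fi23 := act Fi23P.fiGen wV
/-- The conjugating element. -/
noncomputable def zH : Cfsg.Spor.Fi23 := act Fi23P.fiGen wH

theorem zU_eq : zU = zH * zUs * zH⁻¹ := by
  rw [zU, wU, act_append, act_append, act_reverse (ng := 10) Fi23P.fiGen_sq lt_small.2.2.1,
    ← mul_assoc]
  rfl

theorem act_pow_word {M : Type*} [Group M] (gen : ℕ → M) (w : List ℕ) :
    ∀ k : ℕ, act gen (powWord k w) = act gen w ^ k
  | 0 => by simp [powWord, act_nil]
  | k + 1 => by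
    rw [powWord, List.replicate_succ, List.flatten_cons, act_append, pow_succ, ← powWord,
      act_pow_word gen w k]

theorem order_of_prime {w : List ℕ} {p q : ℕ} (hp : p.Prime) (hw : ∀ g ∈ w, g < 10)
    (h : Fi23P.sameBase (powWord p w) [] = true)
    (hq : (Nat.blt q 31671 && !(Nat.beq (Fi23P.fwalk w q) q)) = true) :
    orderOf (act Fi23P.fiGen w) = p := by
  have := Fact.mk hp
  refine orderOf_eq_prime ?_ fun e => ?_
  · rw [← act_pow_word, Fi23P.eq_of_base h, act_nil]
  · simp only [Bool.and_eq_true, Nat.blt_eq, Bool.not_eq_true'] at hq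
    have := Fi23P.phi_act hw ⟨q, hq.1⟩
    rw [e, map_one, Equiv.Perm.one_apply] at this
    have hb : Nat.beq (Fi23P.fwalk w q) q = true := Nat.beq_eq.mpr this.symm
    rw [hb] at hq
    exact Bool.noConfusion hq.2

theorem order_zUs : orderOf zUs = 23 :=
  order_of_prime prime_23 lt_small.1 chk_orders.1 chk_orders.2.1

theorem order_zV : orderOf zV = 11 :=
  order_of_prime prime_11 lt_small.2.1 chk_orders.2.2.1 chk_orders.2.2.2

theorem order_zU : orderOf zU = 23 := by
  rw [zU_eq, ← order_zUs]
  exact MulEquiv.orderOf_eq (MulAut.conj zH) zUs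

theorem norm_V : zV * zU * zV⁻¹ = zU ^ kk := by
  have h := Fi23P.eq_of_base chk_norm
  rwa [act_pow_word, act_append, act_append, act_reverse (ng := 10) Fi23P.fiGen_sq lt_small.2.1,
    ← mul_assoc] at h

theorem norm_V_inv : zV⁻¹ * zU * zV = zU ^ kkInv := by
  have h := chk_exponent
  have e : (zV⁻¹ * zU * zV) = (zV⁻¹ * zU * zV) ^ 1 := (pow_one _).symm
  have hb : zV⁻¹ * zU ^ kk * zV = zU := by rw [← norm_V]; group
  have hb' : (zV⁻¹ * zU * zV) ^ kk = zU := by
    conv_lhs => rw [show zV⁻¹ * zU * zV = zV⁻¹ * zU * (zV⁻¹)⁻¹ by group]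
    rw [conj_pow, inv_inv, hb]
  have ho : orderOf (zV⁻¹ * zU * zV) = 23 := by
    rw [← order_zU, show zV⁻¹ * zU * zV = MulAut.conj zV⁻¹ zU by simp]
    exact MulEquiv.orderOf_eq _ _
  conv_rhs => rw [← hb', ← pow_mul]
  rw [← pow_mod_orderOf (zV⁻¹ * zU * zV) (kk * kkInv), ho, h, pow_one]

theorem center_U {c : Cfsg.Spor.Fi23} (hc : c * zUs = zUs * c) : ∃ k, c = zUs ^ k := by
  obtain ⟨k, -, l, hl, s, e, hs, hx⟩ := Fi23P.cent_cases chk_coverU chk_scanU chk_seedU hc
  obtain rfl := List.mem_singleton.1 hl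
  refine ⟨k, ?_⟩
  have : s = 1 := Fi23P.center_trivial fun i hi => by
    refine Fi23P.genReach_spec lt_small.1 lt_small.2.2.2.1 chk_reachU
      (Q := fun p => Fi23P.phi s p = p) rfl hx ?_ ?_ i (List.mem_range.2 hi)
    · intro p hp
      rw [← Equiv.Perm.mul_apply, ← map_mul, hs, map_mul, Equiv.Perm.mul_apply, hp]
    · intro p hp
      rw [← Equiv.Perm.mul_apply, ← map_mul, Fi23P.commute_refl.2 hx, map_mul,
        Equiv.Perm.mul_apply, hp]
  rw [e, this, act_nil, mul_one, mul_one]
  rfl

theorem center_U' {c : Cfsg.Spor.Fi23} (hc : c * zU = zU * c) : ∃ k, c = zU ^ k := by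
  rw [zU_eq] at hc ⊢
  obtain ⟨k, e⟩ := center_U (c := zH⁻¹ * c * zH) (by
    calc zH⁻¹ * c * zH * zUs = zH⁻¹ * (c * (zH * zUs * zH⁻¹)) * zH := by group
      _ = zH⁻¹ * (zH * zUs * zH⁻¹ * c) * zH := by rw [hc]
      _ = _ := by group)
  refine ⟨k, ?_⟩
  rw [conj_pow, ← e]
  group

/-- The centraliser of the element of order 11. -/
theorem center_V {c : Cfsg.Spor.Fi23} (hc : c * zV = zV * c) :
    ∃ k, k < 11 ∧ ∃ s ∈ sWords, c = zV ^ k * act Fi23P.fiGen s := by
  obtain ⟨k, hk, l, hl, s, e, hs, hx⟩ := Fi23P.cent_cases chk_coverV chk_scanV chk_seedV hc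
  refine ⟨k, hk, l, hl, ?_⟩
  have : s = 1 := Fi23P.center_trivial fun i hi => by
    refine Fi23P.genReach_spec lt_small.2.1 lt_small.2.2.2.2.1 chk_reachV
      (Q := fun p => Fi23P.phi s p = p) rfl hx ?_ ?_ i (List.mem_range.2 hi)
    · intro p hp
      rw [← Equiv.Perm.mul_apply, ← map_mul, hs, map_mul, Equiv.Perm.mul_apply, hp]
    · intro p hp
      rw [← Equiv.Perm.mul_apply, ← map_mul, Fi23P.commute_refl.2 hx, map_mul,
        Equiv.Perm.mul_apply, hp]
  rw [e, this, mul_one]
  rfl

/-! ### The larger group -/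

/-- The element of order 23. -/
noncomputable def gU : comG := psiCom zU
/-- The element of order 11. -/
noncomputable def gV : comG := psiCom zV

theorem wW_spec : (∀ g ∈ wW, g < 12) ∧ signHom (act ftGen wW) = 1 := by
  have h := chk_third
  simp only [Bool.and_eq_true, List.all_eq_true, Nat.blt_eq, Nat.beq_eq] at h
  refine ⟨h.1, ?_⟩
  rw [sign_act, ← Nat.div_add_mod wW.length 2, h.2, pow_add, pow_mul]
  simp

/-- The third generator. -/
noncomputable def gW : comG := ⟨act ftGen wW, mem_com wW_spec.2⟩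

theorem coe_gU : (gU : Cfsg.Spor.Fi24) = psi zU := rfl
theorem coe_gV : (gV : Cfsg.Spor.Fi24) = psi zV := rfl

theorem up_U : act ftGen (upWord wU) = psi zU := act_lift lt_u
theorem up_V : act ftGen (upWord wV) = psi zV := act_lift lt_small.2.1

theorem phi_up {w : List ℕ} (hw : ∀ g ∈ w, g < 12) (i : Fin tab.n) :
    ((phi (act ftGen w) i : Fin tab.n) : ℕ) = tab.walk i.val w := realised.act_apply hw i

theorem fix_U {p : Fin tab.n} (h : phi (psi zU) p = p) : p = pt0 := by
  by_cases hp : p.val < 31672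
  · rcases small_cases p hp with e | ⟨i, rfl⟩
    · exact e
    exfalso
    rw [phi_psi_up] at h
    have hi : Fi23P.phi zU i = i := Fin.ext (Nat.succ.inj (congrArg Fin.val h))
    obtain ⟨k, e⟩ := center_U' (Fi23P.commute_refl.2 hi).symm
    refine Fi23P.refl_ne_one i ?_
    have h2 : zU ^ (2 * k) = 1 := by
      rw [mul_comm, pow_mul, ← e, pow_two, Fi23P.refl_sq]
    have h23 := orderOf_dvd_of_pow_eq_one h2
    rw [order_zU] at h23
    obtain ⟨j, rfl⟩ := ((Nat.Coprime.dvd_mul_left (by norm_num)).1 h23)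
    rw [e, pow_mul, ← order_zU, pow_orderOf_eq_one, one_pow]
  · exact absurd h (big_free prime_23 (Or.inl rfl) order_zU hp)

theorem fix_V {p : Fin tab.n} (h : phi (psi zV) p = p) :
    p.val = 0 ∨ p.val = 1 ∨ p.val = ptB + 1 := by
  by_cases hp : p.val < 31672
  · rcases small_cases p hp with e | ⟨i, rfl⟩
    · exact Or.inl (congrArg Fin.val e)
    rw [phi_psi_up] at h
    have hi : Fi23P.phi zV i = i := Fin.ext (Nat.succ.inj (congrArg Fin.val h))
    have := Fi23P.fix_cases lt_small.2.1 chk_coverV chk_fixV hi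
    simp only [List.mem_cons, List.not_mem_nil, or_false] at this
    rcases this with e | e
    · exact Or.inr (Or.inl (congrArg (· + 1) e))
    · exact Or.inr (Or.inr (congrArg (· + 1) e))
  · exact absurd h (big_free prime_11 (Or.inr rfl) order_zV hp)

theorem t_spec {t : List ℕ} (ht : t ∈ tWords) : (∀ g ∈ t, g < 12) ∧
    signHom (act ftGen t) = 1 ∧ act ftGen t * psi zV = psi zV * act ftGen t := by
  have h := chk_transversal.1
  simp only [List.all_eq_true, Bool.and_eq_true, Nat.beq_eq, Nat.blt_eq] at h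
  obtain ⟨⟨h1, h2⟩, h3⟩ := h t ht
  refine ⟨h1, ?_, ?_⟩
  · rw [sign_act, ← Nat.div_add_mod t.length 2, h2, pow_add, pow_mul]
    simp
  · have e := eq_of_sameW h3
    rw [act_append, act_append, up_V] at e
    exact e.symm

theorem t_exists {p : Fin tab.n} (h : p.val = 0 ∨ p.val = 1 ∨ p.val = ptB + 1) :
    ∃ t ∈ tWords, phi (act ftGen t) pt0 = p := by
  have hc := chk_transversal.2
  simp only [Bool.and_eq_true, List.any_eq_true, Nat.beq_eq] at hc
  obtain ⟨⟨⟨t0, m0, e0⟩, ⟨t1, m1, e1⟩⟩, ⟨t2, m2, e2⟩⟩ := hc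
  rcases h with h | h | h
  exacts [⟨t0, m0, Fin.ext ((phi_up (t_spec m0).1 _).trans (e0.trans h.symm))⟩,
    ⟨t1, m1, Fin.ext ((phi_up (t_spec m1).1 _).trans (e1.trans h.symm))⟩,
    ⟨t2, m2, Fin.ext ((phi_up (t_spec m2).1 _).trans (e2.trans h.symm))⟩]

theorem s_lt {s : List ℕ} (hs : s ∈ sWords) : ∀ g ∈ s, g < 10 := by
  have h := chk_seedV
  simp only [Fi23P.seedOk, Bool.and_eq_true, List.all_eq_true, Nat.blt_eq] at h
  exact (h.1.2 s hs).1

theorem cent_gV {c : comG} (hc : c * gV = gV * c) :
    ∃ k, k < 11 ∧ ∃ m ∈ mWords, (c : Cfsg.Spor.Fi24) = act ftGen (centWord k m) := by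
  have hc' : Commute (c : Cfsg.Spor.Fi24) (psi zV) := congrArg Subtype.val hc
  set q := phi (c : Cfsg.Spor.Fi24) pt0
  have hq : phi (psi zV) q = q := by
    rw [← Equiv.Perm.mul_apply, ← map_mul, ← hc'.eq, map_mul, Equiv.Perm.mul_apply, phi_psi_zero]
  obtain ⟨t, ht, et⟩ := t_exists (fix_V hq)
  obtain ⟨htl, hts, htc⟩ := t_spec ht
  set T := act ftGen t
  have hsign : signHom (T⁻¹ * (c : Cfsg.Spor.Fi24)) = 1 := by
    rw [map_mul, map_inv, hts, inv_one, one_mul]
    exact com_le_ker c.2
  obtain ⟨z, hz⟩ := com_stab hsign (by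
    rw [map_mul, Equiv.Perm.mul_apply, map_inv, Equiv.Perm.inv_def, Equiv.symm_apply_eq, et])
  have hzc : z * zV = zV * z := psi_injective (by
    rw [map_mul, map_mul, ← hz]
    exact ((show Commute T (psi zV) from htc).inv_left.mul_left hc').eq)
  obtain ⟨k, hk, s, hs, hze⟩ := center_V hzc
  refine ⟨k, hk, upWord s ++ t, ?_, ?_⟩
  · simp only [mWords, List.mem_flatMap, List.mem_map]
    exact ⟨t, ht, s, hs, rfl⟩
  · rw [centWord, act_append, act_append, act_pow_word, up_V, act_lift (s_lt hs),
      show (c : Cfsg.Spor.Fi24) = T * psi z by rw [← hz, mul_inv_cancel_left], hze, map_mul,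
      map_pow]
    have hcomm : Commute T (psi zV ^ k) := (show Commute T (psi zV) from htc).pow_right k
    rw [← mul_assoc, hcomm.eq, mul_assoc]

/-! ### Generation -/

/-- The values of the symbols as elements. -/
noncomputable def symVal (minus : Bool) (c : comG) : ℕ → comG :=
  fun i => ([bif minus then gU⁻¹ else gU, gV, c, bif minus then gU else gU⁻¹] : List comG).getD i 1

theorem act_sym (minus : Bool) {c : comG} {w : List ℕ}
    (hc : (c : Cfsg.Spor.Fi24) = act ftGen w) : ∀ R : List ℕ,
    act ftGen (witWord (symWords minus w) R) = ((act (symVal minus c) R : comG) : Cfsg.Spor.Fi24)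
  | [] => by simp [witWord, act_nil]
  | i :: R => by
    have e : witWord (symWords minus w) (i :: R) =
        (symWords minus w).getD i [] ++ witWord (symWords minus w) R := by simp [witWord]
    rw [e, act_append, act_cons, Subgroup.coe_mul, act_sym minus hc R]
    congr 1
    have hrev : act ftGen (upWord wU).reverse = (psi zU)⁻¹ := by
      rw [act_reverse (ng := 12) ftGen_sq (lift_lt lt_u), up_U]
    rcases i with _ | _ | _ | _ | i <;> cases minus <;>
      simp [symWords, symVal, act_nil, hrev, up_U, up_V, hc, coe_gU, coe_gV]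

theorem lt_sym (minus : Bool) {w : List ℕ} (hw : ∀ g ∈ w, g < 12) (R : List ℕ) :
    ∀ g ∈ witWord (symWords minus w) R, g < 12 := by
  intro g hg
  simp only [witWord, List.mem_flatMap] at hg
  obtain ⟨i, -, hg⟩ := hg
  rcases i with _ | _ | _ | _ | i <;> cases minus <;> simp [symWords] at hg <;>
    first
      | exact hw g hg
      | exact lift_lt lt_u g hg
      | exact lift_lt lt_small.2.1 g hg

theorem gen_top : Subgroup.closure ({gU, gV, gW} : Set comG) = ⊤ := by
  set H := Subgroup.closure ({gU, gV, gW} : Set comG) with hH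
  have hU : gU ∈ H := Subgroup.subset_closure (by simp)
  have hV : gV ∈ H := Subgroup.subset_closure (by simp)
  have hW : gW ∈ H := Subgroup.subset_closure (by simp)
  have hact : ∀ R : List ℕ, act (symVal false gW) R ∈ H := by
    intro R
    induction R with
    | nil => exact Subgroup.one_mem _
    | cons i R ih =>
      rw [act_cons]
      refine Subgroup.mul_mem _ ih ?_
      rcases i with _ | _ | _ | _ | i <;>
        simp [symVal, hU, hV, hW]
  have hpsi : ∀ z, psiCom z ∈ H := by
    set q := Fi23P.phi (act Fi23P.fiGen qPath) Fi23P.origin with hq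
    have hqv : Fi23P.fwalk qPath 0 = q.val :=
      (Fi23P.phi_act lt_small.2.2.2.2.2 Fi23P.origin).symm
    obtain ⟨hrl, hre⟩ := Fi23P.reflWord_spec lt_small.2.2.2.2.2 hqv
    have h0 : Fi23P.refl q ∈ H.comap psiCom := by
      rw [Subgroup.mem_comap]
      convert hact genWord using 1
      refine Subtype.ext ?_
      have e := eq_of_sameW chk_gen.1
      rw [act_sym false (c := gW) rfl, act_lift hrl, hre] at e
      exact e.symm
    have key : ∀ p, Fi23P.refl p ∈ H.comap psiCom → ∀ h ∈ H.comap psiCom,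
        Fi23P.refl (Fi23P.phi h p) ∈ H.comap psiCom := fun p hp h hh => by
      rw [← Fi23P.refl_conj]
      exact mul_mem (mul_mem hh hp) (inv_mem hh)
    have hall := Fi23P.genReach_spec lt_u lt_small.2.2.2.2.2 chk_gen.2
      (Q := fun p => Fi23P.refl p ∈ H.comap psiCom) rfl h0
      (fun p hp => key p hp _ hU) (fun p hp => key p hp _ h0)
    intro z
    have hz : z ∈ genGrp ((List.range 10).map fun g => [g]) Fi23P.fiGen := by
      rw [Fi23P.closure_all]; exact Subgroup.mem_top z
    refine (Subgroup.closure_le (H.comap psiCom)).2 ?_ hz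
    rintro _ ⟨w, hw, rfl⟩
    obtain ⟨g, hg, rfl⟩ := List.mem_map.1 hw
    rw [act_cons, act_nil, one_mul, Fi23P.gen_refl g (List.mem_range.1 hg)]
    exact hall g hg
  have hor : ∀ p, ∃ h ∈ H, phi (h : Cfsg.Spor.Fi24) pt0 = p := by
    obtain ⟨hb, hw0, hw1⟩ : (1 ≤ midPt ∧ midPt ≤ 31671) ∧ ¬ tab.walk 0 wW < 1 ∧
        tab.walk 0 wW < 31672 ∧ ¬ tab.walk midPt wW < 31672 := by
      have h := chk_orbit
      simp only [Bool.and_eq_true, Nat.ble_eq] at h
      omega
    set a := phi (gW : Cfsg.Spor.Fi24) pt0 with ha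
    have hav : a.val = tab.walk 0 wW := phi_up wW_spec.1 _
    obtain ⟨i, hi⟩ : ∃ i, a = up i := (small_cases a (by omega)).resolve_left fun e => by
      rw [e] at hav
      have : (pt0 : Fin tab.n).val = 0 := rfl
      omega
    have hsmall : ∀ j, ∃ h ∈ H, phi (h : Cfsg.Spor.Fi24) pt0 = up j := by
      intro j
      refine ⟨psiCom (Fi23P.toPoint j * (Fi23P.toPoint i)⁻¹) * gW, mul_mem (hpsi _) hW, ?_⟩
      rw [Subgroup.coe_mul, map_mul, Equiv.Perm.mul_apply, ← ha, hi]
      show phi (psi (Fi23P.toPoint j * (Fi23P.toPoint i)⁻¹)) (up i) = up j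
      rw [phi_psi_up, map_mul, Equiv.Perm.mul_apply, map_inv, Equiv.Perm.inv_def]
      rw [show (Fi23P.phi (Fi23P.toPoint i)).symm i = Fi23P.origin from
        (Equiv.symm_apply_eq _).2 (Fi23P.phi_toPoint i).symm, Fi23P.phi_toPoint]
    obtain ⟨h1, hh1, e1⟩ := hsmall ⟨midPt - 1, by show midPt - 1 < 31671; omega⟩
    set b := phi ((gW * h1 : comG) : Cfsg.Spor.Fi24) pt0 with hbdef
    have hbv : ¬ b.val < 31672 := by
      rw [hbdef, Subgroup.coe_mul, map_mul, Equiv.Perm.mul_apply, e1]
      show ¬ ((phi (act ftGen wW) _ : Fin tab.n) : ℕ) < 31672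
      rw [phi_up wW_spec.1]
      show ¬ tab.walk (midPt - 1 + 1) wW < 31672
      rw [Nat.sub_add_cancel hb.1]
      exact hw1.2
    intro p
    by_cases hp : p.val < 31672
    · rcases small_cases p hp with rfl | ⟨j, rfl⟩
      · exact ⟨1, Subgroup.one_mem _, by simp⟩
      · exact hsmall j
    · obtain ⟨z, hz⟩ := big_reach hp
      obtain ⟨y, hy⟩ := big_reach hbv
      refine ⟨psiCom (z * y⁻¹) * (gW * h1), mul_mem (hpsi _) (mul_mem hW hh1), ?_⟩
      rw [Subgroup.coe_mul, map_mul, Equiv.Perm.mul_apply, ← hbdef]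
      show phi (psi (z * y⁻¹)) b = p
      rw [← hy, map_mul, map_mul, Equiv.Perm.mul_apply, map_inv, map_inv, Equiv.Perm.inv_def,
        Equiv.symm_apply_apply, hz]
  refine eq_top_iff.2 fun c _ => ?_
  obtain ⟨h, hh, e⟩ := hor (phi (c : Cfsg.Spor.Fi24) pt0)
  obtain ⟨z, hz⟩ := com_stab (m := (h : Cfsg.Spor.Fi24)⁻¹ * c) (by
    rw [map_mul, map_inv, show signHom (h : Cfsg.Spor.Fi24) = 1 from com_le_ker h.2,
      show signHom (c : Cfsg.Spor.Fi24) = 1 from com_le_ker c.2, inv_one, one_mul]) (by
    rw [map_mul, Equiv.Perm.mul_apply, map_inv, Equiv.Perm.inv_def, Equiv.symm_apply_eq, e])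
  have : c = h * psiCom z := Subtype.ext (by
    show (c : Cfsg.Spor.Fi24) = (h : Cfsg.Spor.Fi24) * psi z
    rw [← hz, mul_inv_cancel_left])
  rw [this]
  exact mul_mem hh (hpsi z)

/-! ### Normalising an automorphism -/

/-- An automorphism given by conjugation inside the whole group. -/
def IsConjAut (f : MulAut comG) : Prop :=
  ∃ m : Cfsg.Spor.Fi24, ∀ x : comG, (f x : Cfsg.Spor.Fi24) = m * x * m⁻¹

theorem conj_reduce {f : MulAut comG} (g : comG) (h : IsConjAut (MulAut.conj g * f)) :
    IsConjAut f := by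
  obtain ⟨m, hm⟩ := h
  refine ⟨(g : Cfsg.Spor.Fi24)⁻¹ * m, fun x => ?_⟩
  have := hm x
  rw [MulAut.mul_apply, MulAut.conj_apply] at this
  simp only [Subgroup.coe_mul, Subgroup.coe_inv] at this
  calc (f x : Cfsg.Spor.Fi24)
      = (g : Cfsg.Spor.Fi24)⁻¹ * (g * (f x : Cfsg.Spor.Fi24) * (g : Cfsg.Spor.Fi24)⁻¹) * g := by
        group
    _ = _ := by rw [this]; group

theorem final_cases {f : MulAut comG} (minus : Bool) (hu : f gU = bif minus then gU⁻¹ else gU)
    (hv : f gV = gV) : IsConjAut f := by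
  have hc : f gW * gV = gV * f gW := by
    have e : gW * gV = gV * gW := by
      refine Subtype.ext ?_
      have e' := eq_of_sameW chk_relations.2
      rw [act_append, act_append, up_V] at e'
      exact e'.symm
    have := congrArg f e
    rwa [map_mul, map_mul, hv] at this
  obtain ⟨k, hk, m, hm, hw⟩ := cent_gV hc
  have hall := cand_checks minus hk hm
  rw [Bool.or_eq_true] at hall
  have hS : ∀ R, f (act (symVal false gW) R) = act (symVal minus (f gW)) R := by
    intro R
    induction R with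
    | nil => exact map_one f
    | cons i R ih =>
      rw [act_cons, act_cons, map_mul, ih]
      congr 1
      rcases i with _ | _ | _ | _ | i <;> cases minus <;> simp_all [symVal]
  have hlt : ∀ g ∈ centWord k m, g < 12 := by
    intro g hg
    simp only [centWord, powWord, List.mem_append, List.mem_flatten, List.mem_replicate] at hg
    rcases hg with hg | ⟨v, ⟨-, rfl⟩, hg⟩
    · simp only [mWords, List.mem_flatMap, List.mem_map] at hm
      obtain ⟨t, ht, s, hs, rfl⟩ := hm
      simp only [List.mem_append] at hg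
      rcases hg with hg | hg
      · exact lift_lt (s_lt hs) g hg
      · exact (t_spec ht).1 g hg
    · exact lift_lt lt_small.2.1 g hg
  rw [Bool.or_eq_true] at hall
  rcases hall with (hall | hall) | hall
  rotate_left
  · exfalso
    rw [List.isEmpty_iff] at hall
    have e1 : f gW = 1 := Subtype.ext (by rw [hw, hall, act_nil]; rfl)
    rw [EmbeddingLike.map_eq_one_iff] at e1
    have h := chk_orbit
    simp only [Bool.and_eq_true, Nat.ble_eq] at h
    have h2 := phi_up wW_spec.1 pt0
    rw [show act ftGen wW = 1 from congrArg Subtype.val e1, map_one, Equiv.Perm.one_apply] at h2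
    rw [show (pt0 : Fin tab.n).val = 0 from rfl] at h2
    omega
  rotate_left
  · exfalso
    simp only [rejected, Bool.or_eq_true, Bool.not_eq_true', List.any_eq_true] at hall
    have hnot : ∀ {w : List ℕ} {p : ℕ}, act ftGen w = 1 → (∀ g ∈ w, g < 12) → p < 306936 →
        Nat.beq (tab.walk p w) p = false → False := fun {w p} e hl hp hb => by
      have h' := phi_up hl ⟨p, hp⟩
      rw [e, map_one, Equiv.Perm.one_apply] at h'
      rw [← h', Nat.beq_refl] at hb
      exact Bool.noConfusion hb
    have hpts := chk_points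
    simp only [Bool.and_eq_true, List.all_eq_true, Nat.blt_eq] at hpts
    rcases hall with hall | ⟨⟨R, p⟩, hR, hall⟩
    · refine hnot ?_ ?_ hpts.1 hall
      · rw [act_pow_word, ← hw]
        have e3 : gW ^ 3 = 1 := Subtype.ext (by
          show act ftGen wW ^ 3 = 1
          rw [← act_pow_word, eq_of_sameW chk_relations.1.1, act_nil])
        show ((f gW ^ 3 : comG) : Cfsg.Spor.Fi24) = 1
        rw [← map_pow, e3, map_one]; rfl
      · intro g hg
        simp only [powWord, List.mem_flatten, List.mem_replicate] at hg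
        obtain ⟨v, ⟨-, rfl⟩, hg⟩ := hg
        exact hlt g hg
    · refine hnot ?_ (lt_sym minus hlt R) (hpts.2 _ hR) hall
      rw [act_sym minus hw, ← hS]
      have e1 : act (symVal false gW) R = 1 := Subtype.ext (by
        have hr := chk_relations.1.2
        simp only [List.all_eq_true] at hr
        rw [← act_sym false (c := gW) rfl, eq_of_sameW (hr _ hR), act_nil]
        rfl)
      rw [e1, map_one]; rfl
  · cases minus
    · simp only [cond_false, Bool.or_eq_true] at hall hu
      rcases hall with hall | hall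
      · refine ⟨1, fun x => ?_⟩
        have : (MonoidHom.id comG) = f.toMonoidHom := by
          refine MonoidHom.eq_of_eqOn_dense gen_top ?_
          rintro y (rfl | rfl | rfl)
          · exact hu.symm
          · exact hv.symm
          · exact Subtype.ext ((eq_of_sameW hall).symm.trans hw.symm)
        rw [← show x = f x from congrArg (fun F => F x) this]
        group
      · refine ⟨eltL, fun x => ?_⟩
        have : (MulAut.conjNormal (H := comG) eltL).toMonoidHom = f.toMonoidHom := by
          refine MonoidHom.eq_of_eqOn_dense gen_top ?_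
          rintro y (rfl | rfl | rfl) <;> refine Subtype.ext ?_
          · show ((MulAut.conjNormal eltL gU : comG) : Cfsg.Spor.Fi24) = (f gU : Cfsg.Spor.Fi24)
            rw [hu, MulAut.conjNormal_apply, coe_gU, psi_comm, mul_inv_cancel_right]
          · show ((MulAut.conjNormal eltL gV : comG) : Cfsg.Spor.Fi24) = (f gV : Cfsg.Spor.Fi24)
            rw [hv, MulAut.conjNormal_apply, coe_gV, psi_comm, mul_inv_cancel_right]
          · show ((MulAut.conjNormal eltL gW : comG) : Cfsg.Spor.Fi24) = (f gW : Cfsg.Spor.Fi24)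
            have e := eq_of_sameW hall
            rw [MulAut.conjNormal_apply, hw, e, act_append, act_append,
              inv_eq_of_mul_eq_one_right eltL_sq, mul_assoc]
            show eltL * (act ftGen wW * eltL) = act ftGen [0] * (act ftGen wW * act ftGen [0])
            simp [act_cons, act_nil]
        rw [← show MulAut.conjNormal eltL x = f x from congrArg (fun F => F x) this,
          MulAut.conjNormal_apply]
    · simp at hall

theorem card_com_split : Nat.card comG = 23 * 54574161269159205273600 := by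
  rw [card_com]

theorem aut_cases (f : MulAut comG) : IsConjAut f := by
  have : Finite comG := Nat.finite_of_card_ne_zero (by rw [card_com]; norm_num)
  have := Fact.mk prime_23
  have hfac : (Nat.card comG).factorization 23 = 1 := by
    rw [card_com_split, Nat.factorization_mul (by norm_num) (by norm_num), Finsupp.add_apply,
      prime_23.factorization_self,
      Nat.factorization_eq_zero_of_not_dvd (by norm_num : ¬ 23 ∣ 54574161269159205273600)]
  have hgU : orderOf gU = 23 := by
    rw [← Subgroup.orderOf_coe, coe_gU, orderOf_injective psi psi_injective, order_zU]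
  have hfU : orderOf (f gU) = 23 := by rw [MulEquiv.orderOf_eq, hgU]
  let P : Sylow 23 comG :=
    Sylow.ofCard (Subgroup.zpowers gU) (by rw [Nat.card_zpowers, hgU, hfac, pow_one])
  let Q : Sylow 23 comG :=
    Sylow.ofCard (Subgroup.zpowers (f gU)) (by rw [Nat.card_zpowers, hfU, hfac, pow_one])
  obtain ⟨g, hg⟩ := MulAction.exists_smul_eq comG Q P
  have hmem : g * f gU * g⁻¹ ∈ Subgroup.zpowers gU := by
    have h : g * f gU * g⁻¹ ∈ ((g • Q : Sylow 23 comG) : Subgroup comG) := by
      rw [Sylow.coe_subgroup_smul]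
      exact ⟨f gU, Subgroup.mem_zpowers _, rfl⟩
    rw [hg] at h
    exact h
  refine conj_reduce g ?_
  set f₁ := MulAut.conj g * f with hf₁
  have h1 : f₁ gU ∈ Subgroup.zpowers gU := hmem
  obtain ⟨a, ha⟩ := (mem_powers_iff_mem_zpowers.2 h1)
  have ha' : f₁ gU = gU ^ a := ha.symm
  clear_value f₁
  have hord : orderOf (f₁ gU) = 23 := by rw [MulEquiv.orderOf_eq, hgU]
  have hgen : ∀ x, x ∈ Subgroup.zpowers gU → x ∈ Subgroup.zpowers (f₁ gU) := by
    intro x hx
    have : Subgroup.zpowers (f₁ gU) = Subgroup.zpowers gU :=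
      Subgroup.eq_of_le_of_card_ge (Subgroup.zpowers_le.2 h1)
        (by rw [Nat.card_zpowers, Nat.card_zpowers, hgU, hord])
    rw [this]; exact hx
  -- the image of the element of order 11 acts as that element
  have hnorm : gV * gU * gV⁻¹ = gU ^ kk :=
    Subtype.ext (by
      show psi zV * psi zU * (psi zV)⁻¹ = ((gU ^ kk : comG) : Cfsg.Spor.Fi24)
      rw [Subgroup.coe_pow, coe_gU, ← map_pow, ← norm_V, map_mul, map_mul, map_inv])
  have hact : f₁ gV * gU * (f₁ gV)⁻¹ = gU ^ kk := by
    obtain ⟨b, hb⟩ := mem_powers_iff_mem_zpowers.2 (hgen gU (Subgroup.mem_zpowers _))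
    have hb' : f₁ gU ^ b = gU := hb
    have e := congrArg f₁ hnorm
    rw [map_mul, map_mul, map_inv, map_pow] at e
    calc f₁ gV * gU * (f₁ gV)⁻¹ = f₁ gV * f₁ gU ^ b * (f₁ gV)⁻¹ := by rw [hb']
      _ = (f₁ gV * f₁ gU * (f₁ gV)⁻¹) ^ b := (conj_pow).symm
      _ = _ := by rw [e, ← pow_mul, mul_comm, pow_mul, hb']
  set F : Cfsg.Spor.Fi24 := ((f₁ gV : comG) : Cfsg.Spor.Fi24) with hF
  have hactG : F * psi zU * F⁻¹ = psi zU ^ kk := congrArg Subtype.val hact
  have h0 : phi F pt0 = pt0 := by
    refine fix_U ?_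
    have hk0 : phi (psi zU ^ kk) (phi F pt0) = phi F pt0 := by
      rw [← hactG, map_mul, map_mul, Equiv.Perm.mul_apply, Equiv.Perm.mul_apply, map_inv,
        Equiv.Perm.inv_def, Equiv.symm_apply_apply, phi_psi_zero]
    have e : psi zU = (psi zU ^ kk) ^ kkInv := by
      rw [← map_pow, ← map_pow, ← pow_mul, ← pow_mod_orderOf, order_zU, chk_exponent, pow_one]
    rw [e]
    generalize psi zU ^ kk = y at hk0
    induction kkInv with
    | zero => simp
    | succ j ih => rw [pow_succ, map_mul, Equiv.Perm.mul_apply, hk0, ih]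
  obtain ⟨z, hz⟩ := com_stab (com_le_ker (f₁ gV).2) h0
  have hzU : z * zU * z⁻¹ = zU ^ kk := psi_injective (by
    rw [map_mul, map_mul, map_inv, map_pow, ← hz]; exact hactG)
  obtain ⟨j, hj⟩ := center_U' (c := zV⁻¹ * z) (by
    calc zV⁻¹ * z * zU = zV⁻¹ * (z * zU * z⁻¹) * z := by group
      _ = zV⁻¹ * (zV * zU * zV⁻¹) * z := by rw [hzU, norm_V]
      _ = _ := by group)
  have hfv : f₁ gV = gV * gU ^ j := Subtype.ext (by
    show F = psi zV * ((gU ^ j : comG) : Cfsg.Spor.Fi24)
    rw [show F = psi z from hz, Subgroup.coe_pow, coe_gU, ← map_pow, ← hj, map_mul, map_inv, mul_inv_cancel_left])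
  -- remove the power
  obtain ⟨i, hi⟩ : ∃ i, (i * kkInv + j) % 23 = i % 23 := by
    obtain ⟨i, -, hi⟩ := shift_exists (j % 23) (Nat.mod_lt _ (by norm_num))
    exact ⟨i, by omega⟩
  refine conj_reduce (gU ^ i) ?_
  set f₂ := MulAut.conj (gU ^ i) * f₁ with hf₂
  have h2u : f₂ gU = gU ^ a := by
    rw [hf₂, MulAut.mul_apply, MulAut.conj_apply, ha', ← pow_add, mul_inv_eq_iff_eq_mul, ← pow_add,
      add_comm]
  have h2v : f₂ gV = gV := by
    rw [hf₂, MulAut.mul_apply, MulAut.conj_apply, hfv, mul_inv_eq_iff_eq_mul]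
    have e : gU ^ i * gV = gV * gU ^ (i * kkInv) := Subtype.ext (by
      simp only [Subgroup.coe_mul, Subgroup.coe_pow, coe_gU, coe_gV]
      rw [← map_pow, ← map_pow, ← map_mul, ← map_mul, mul_comm i, pow_mul, ← norm_V_inv]
      congr 1
      conv_rhs => rw [show zV⁻¹ * zU * zV = zV⁻¹ * zU * (zV⁻¹)⁻¹ by group, conj_pow]
      group)
    rw [← mul_assoc, e, mul_assoc, ← pow_add, ← pow_mod_orderOf, hgU, hi,
      ← hgU, pow_mod_orderOf]
  clear_value f₂
  -- make the exponent one or minus one
  have ha23 : a % 23 ≠ 0 := by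
    intro h
    rw [ha', ← pow_mod_orderOf, hgU, h, pow_zero] at hord
    rw [orderOf_one] at hord
    omega
  obtain ⟨⟨r, _hlt⟩, hr⟩ := exponent_cases (a % 23) (Nat.mod_lt _ (by norm_num)) ha23
  refine conj_reduce (gV ^ r) ?_
  have hpow : ∀ r : ℕ, gV ^ r * gU * (gV ^ r)⁻¹ = gU ^ kk ^ r := by
    intro r
    induction r with
    | zero => simp
    | succ r ih =>
      calc gV ^ (r + 1) * gU * (gV ^ (r + 1))⁻¹ = gV * (gV ^ r * gU * (gV ^ r)⁻¹) * gV⁻¹ := by
            rw [pow_succ']; group
        _ = (gV * gU * gV⁻¹) ^ kk ^ r := by rw [ih, conj_pow]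
        _ = _ := by rw [hnorm, ← pow_mul, ← pow_succ']
  have e : (MulAut.conj (gV ^ r) * f₂) gU = gU ^ (kk ^ r * a) := by
    rw [MulAut.mul_apply, MulAut.conj_apply, h2u, ← conj_pow, hpow, ← pow_mul]
  have ev : (MulAut.conj (gV ^ r) * f₂) gV = gV := by
    rw [MulAut.mul_apply, MulAut.conj_apply, h2v, (Commute.pow_self gV r).eq, mul_inv_cancel_right]
  have hm : (kk ^ r * a) % 23 = 1 ∨ (kk ^ r * a) % 23 = 22 := by
    have he : kk ^ r * (a % 23) % 23 = kk ^ r * a % 23 := (Nat.mod_modEq a 23).mul_left _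
    rwa [he] at hr
  rcases hm with h | h
  · refine final_cases false ?_ ev
    rw [e, ← pow_mod_orderOf, hgU, h, pow_one]; rfl
  · refine final_cases true ?_ ev
    rw [e, ← pow_mod_orderOf, hgU, h]
    show gU ^ 22 = gU⁻¹
    refine eq_inv_of_mul_eq_one_left ?_
    rw [← pow_succ, show 22 + 1 = orderOf gU from hgU.symm, pow_orderOf_eq_one]

/-- Conjugation by the transposition is not inner. -/
theorem outer (g : comG) : MulAut.conj g ≠ MulAut.conjNormal (H := comG) eltL := by
  intro h
  set d : Cfsg.Spor.Fi24 := (g : Cfsg.Spor.Fi24)⁻¹ * eltL with hd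
  have hc : ∀ x : comG, d * x = x * d := by
    intro x
    have e := congrArg (fun F : MulAut comG => ((F x : comG) : Cfsg.Spor.Fi24)) h
    simp only [MulAut.conj_apply, MulAut.conjNormal_apply, Subgroup.coe_mul, Subgroup.coe_inv] at e
    calc d * x = (g : Cfsg.Spor.Fi24)⁻¹ * (eltL * x * eltL⁻¹) * eltL := by rw [hd]; group
      _ = _ := by rw [← e, hd]; group
  have hU : phi (psi zU) (phi d pt0) = phi d pt0 := by
    rw [← Equiv.Perm.mul_apply, ← map_mul, ← coe_gU, ← hc gU, coe_gU, map_mul,
      Equiv.Perm.mul_apply, phi_psi_zero]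
  obtain ⟨z, hz | hz⟩ := subgH_cases (stab_zero (fix_U hU))
  · have : signHom d = -1 := by
      rw [hd, map_mul, map_inv, show signHom (g : Cfsg.Spor.Fi24) = 1 from com_le_ker g.2, inv_one,
        one_mul]
      exact signHom_gen 0
    rw [hz, psi_sign] at this
    exact absurd this (by decide)
  · have hzc : ∀ y, z * y = y * z := fun y => psi_injective (mul_right_cancel (b := eltL) (by
      calc psi (z * y) * eltL = psi z * eltL * psi y := by
            rw [map_mul, mul_assoc, ← psi_comm, ← mul_assoc]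
        _ = d * psi y := by rw [hz]
        _ = psi y * d := hc (psiCom y)
        _ = psi (y * z) * eltL := by rw [hz, map_mul, mul_assoc]))
    have hz1 : z = 1 := Fi23P.center_trivial fun i hi => Fi23P.commute_refl.1 (hzc _)
    rw [hz1, map_one, one_mul] at hz
    have e := congrArg (fun x : Cfsg.Spor.Fi24 => x) (hc gW)
    rw [hz] at e
    have hno := chk_outer
    simp only [Bool.and_eq_true, Bool.not_eq_true', Nat.blt_eq] at hno
    have l0 : ∀ g ∈ ([0] ++ wW : List ℕ), g < 12 := by
      simp only [List.mem_append, List.mem_singleton]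
      rintro g (rfl | hg)
      exacts [by norm_num, wW_spec.1 g hg]
    have l1 : ∀ g ∈ (wW ++ [0] : List ℕ), g < 12 := by
      simp only [List.mem_append, List.mem_singleton]
      rintro g (hg | rfl)
      exacts [wW_spec.1 g hg, by norm_num]
    have a0 := phi_up l0 ⟨outerPt, hno.1⟩
    have a1 := phi_up l1 ⟨outerPt, hno.1⟩
    have e0 : act ftGen ([0] ++ wW) = act ftGen (wW ++ [0]) := by
      rw [act_append, act_append]
      simp only [act_cons, act_nil, one_mul]
      exact e.symm
    rw [e0] at a0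
    rw [Nat.beq_eq.mpr (a0.symm.trans a1)] at hno
    exact Bool.noConfusion hno.2

theorem card_out : Nat.card (Cfsg.Out comG) = 2 := by
  have : Finite comG := Nat.finite_of_card_ne_zero (by rw [card_com]; norm_num)
  classical
  refine le_antisymm ?_ (MathieuOut.two_le_card_out (MulAut.conjNormal (H := comG) eltL) outer)
  have hin : ∀ g : comG, (QuotientGroup.mk (MulAut.conj g) : Cfsg.Out comG) = 1 := fun g =>
    (QuotientGroup.eq_one_iff (N := Cfsg.Inn comG) _).2 (MonoidHom.mem_range.2 ⟨g, rfl⟩)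
  refine le_trans (Nat.card_le_card_of_surjective
    (fun b : Bool => if b then (QuotientGroup.mk (MulAut.conjNormal (H := comG) eltL) :
      Cfsg.Out comG) else 1) fun z => ?_) (by simp)
  obtain ⟨f, rfl⟩ := QuotientGroup.mk_surjective z
  obtain ⟨m, hm⟩ := aut_cases f
  rcases coset_cases m with h | h
  · refine ⟨false, ?_⟩
    rw [show f = MulAut.conj (⟨m, h⟩ : comG) from MulEquiv.ext fun x => Subtype.ext (hm x), hin]
    rfl
  · refine ⟨true, ?_⟩
    rw [show f = MulAut.conj (⟨m * eltL, h⟩ : comG) * MulAut.conjNormal (H := comG) eltL from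
      MulEquiv.ext fun x => Subtype.ext (by
        rw [hm x, MulAut.mul_apply, MulAut.conj_apply]
        simp only [Subgroup.coe_mul, Subgroup.coe_inv, MulAut.conjNormal_apply]
        group
        simp [eltL_sq, mul_assoc, pow_two]), QuotientGroup.mk_mul, hin, one_mul]
    rfl

end CfsgLib.Fi24Out
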