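import Cfsg.Agent.Lib.PresCert.Fast

/-!
# Orbit representatives as paths from the first point (generated)
-/

set_option autoImplicit false
set_option maxRecDepth 100000

namespace CfsgLib.Fi24Out

/-- A part of the representatives. -/
def repsU_0 : List (List ℕ) :=
  [[],
    [7],
    [7, 6, 5, 4, 3],
    [7, 6, 5, 4, 3, 8],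
    [7, 6, 5, 4, 3, 8, 9],
    [7, 6, 5, 4, 3, 2, 1, 0],
    [7, 6, 5, 4, 3, 2, 1, 8],
    [7, 6, 5, 4, 3, 2, 8, 3],
    [7, 6, 5, 4, 3, 2, 8, 9],
    [7, 6, 5, 4, 3, 2, 1, 0, 8],
    [7, 6, 5, 4, 3, 2, 8, 3, 9],
    [7, 6, 5, 4, 3, 2, 1, 0, 8, 3],
    [7, 6, 5, 4, 3, 2, 1, 8, 3, 2],
    [7, 6, 5, 4, 3, 2, 1, 8, 3, 4],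
    [7, 6, 5, 4, 3, 2, 8, 3, 4, 9],
    [7, 6, 5, 4, 3, 2, 8, 3, 9, 8],
    [7, 6, 5, 4, 3, 2, 1, 0, 8, 3, 2],
    [7, 6, 5, 4, 3, 2, 1, 0, 8, 3, 4],
    [7, 6, 5, 4, 3, 2, 1, 0, 8, 3, 9],
    [7, 6, 5, 4, 3, 2, 1, 8, 3, 4, 5],
    [7, 6, 5, 4, 3, 2, 1, 8, 3, 4, 9],
    [7, 6, 5, 4, 3, 2, 1, 8, 3, 9, 8],
    [7, 6, 5, 4, 3, 2, 8, 3, 4, 5, 9],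
    [7, 6, 5, 4, 3, 2, 1, 0, 8, 3, 2, 1],
    [7, 6, 5, 4, 3, 2, 1, 0, 8, 3, 2, 9],
    [7, 6, 5, 4, 3, 2, 1, 0, 8, 3, 4, 5],
    [7, 6, 5, 4, 3, 2, 1, 0, 8, 3, 9, 8],
    [7, 6, 5, 4, 3, 2, 1, 8, 3, 2, 4, 3],
    [7, 6, 5, 4, 3, 2, 1, 8, 3, 2, 4, 9],
    [7, 6, 5, 4, 3, 2, 1, 8, 3, 2, 9, 8],
    [7, 6, 5, 4, 3, 2, 1, 8, 3, 4, 5, 9],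
    [7, 6, 5, 4, 3, 2, 1, 8, 3, 4, 9, 8],
    [7, 6, 5, 4, 3, 2, 8, 3, 4, 5, 6, 9],
    [7, 6, 5, 4, 3, 2, 8, 3, 4, 9, 8, 3],
    [7, 6, 5, 4, 3, 2, 1, 0, 8, 3, 2, 1, 4],
    [7, 6, 5, 4, 3, 2, 1, 0, 8, 3, 2, 4, 3],
    [7, 6, 5, 4, 3, 2, 1, 0, 8, 3, 2, 4, 9],
    [7, 6, 5, 4, 3, 2, 1, 0, 8, 3, 4, 5, 6],
    [7, 6, 5, 4, 3, 2, 1, 0, 8, 3, 4, 9, 8],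
    [7, 6, 5, 4, 3, 2, 1, 8, 3, 2, 4, 3, 5],
    [7, 6, 5, 4, 3, 2, 1, 8, 3, 2, 4, 3, 8],
    [7, 6, 5, 4, 3, 2, 1, 8, 3, 2, 4, 3, 9],
    [7, 6, 5, 4, 3, 2, 1, 8, 3, 2, 4, 5, 6],
    [7, 6, 5, 4, 3, 2, 1, 8, 3, 2, 4, 5, 9],
    [7, 6, 5, 4, 3, 2, 1, 8, 3, 2, 9, 8, 3],
    [7, 6, 5, 4, 3, 2, 1, 8, 3, 4, 5, 6, 7],
    [7, 6, 5, 4, 3, 2, 1, 8, 3, 4, 5, 9, 8],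
    [7, 6, 5, 4, 3, 2, 1, 8, 3, 4, 9, 8, 3],
    [7, 6, 5, 4, 3, 2, 8, 3, 4, 5, 6, 7, 9],
    [7, 6, 5, 4, 3, 2, 8, 3, 4, 5, 6, 9, 8],
    [7, 6, 5, 4, 3, 2, 8, 3, 4, 5, 9, 8, 3],
    [7, 6, 5, 4, 3, 2, 1, 0, 8, 3, 2, 1, 4, 3],
    [7, 6, 5, 4, 3, 2, 1, 0, 8, 3, 2, 1, 4, 5],
    [7, 6, 5, 4, 3, 2, 1, 0, 8, 3, 2, 1, 4, 9],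
    [7, 6, 5, 4, 3, 2, 1, 0, 8, 3, 2, 1, 9, 8],
    [7, 6, 5, 4, 3, 2, 1, 0, 8, 3, 2, 4, 3, 8],
    [7, 6, 5, 4, 3, 2, 1, 0, 8, 3, 2, 4, 3, 9],
    [7, 6, 5, 4, 3, 2, 1, 0, 8, 3, 2, 9, 8, 3],
    [7, 6, 5, 4, 3, 2, 1, 0, 8, 3, 4, 5, 6, 7],
    [7, 6, 5, 4, 3, 2, 1, 0, 8, 3, 4, 5, 6, 9],
    [7, 6, 5, 4, 3, 2, 1, 0, 8, 3, 4, 5, 9, 8],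
    [7, 6, 5, 4, 3, 2, 1, 0, 8, 3, 4, 9, 8, 3],
    [7, 6, 5, 4, 3, 2, 1, 8, 3, 2, 4, 3, 5, 8],
    [7, 6, 5, 4, 3, 2, 1, 8, 3, 2, 4, 3, 5, 9],
    [7, 6, 5, 4, 3, 2, 1, 8, 3, 2, 4, 3, 8, 9],
    [7, 6, 5, 4, 3, 2, 1, 8, 3, 2, 4, 3, 9, 8],
    [7, 6, 5, 4, 3, 2, 1, 8, 3, 2, 4, 5, 6, 7],
    [7, 6, 5, 4, 3, 2, 1, 8, 3, 2, 4, 5, 9, 8],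
    [7, 6, 5, 4, 3, 2, 1, 8, 3, 2, 4, 9, 8, 3],
    [7, 6, 5, 4, 3, 2, 1, 8, 3, 2, 9, 8, 3, 4],
    [7, 6, 5, 4, 3, 2, 1, 8, 3, 4, 5, 6, 9, 8],
    [7, 6, 5, 4, 3, 2, 1, 8, 3, 4, 5, 9, 8, 3],
    [7, 6, 5, 4, 3, 2, 1, 8, 3, 4, 9, 8, 3, 2],
    [7, 6, 5, 4, 3, 2, 8, 3, 4, 5, 6, 7, 9, 8],
    [7, 6, 5, 4, 3, 2, 8, 3, 4, 5, 6, 9, 8, 3],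
    [7, 6, 5, 4, 3, 2, 8, 3, 4, 5, 9, 8, 3, 2],
    [7, 6, 5, 4, 3, 2, 1, 0, 8, 3, 2, 1, 4, 3, 2],
    [7, 6, 5, 4, 3, 2, 1, 0, 8, 3, 2, 1, 4, 3, 8],
    [7, 6, 5, 4, 3, 2, 1, 0, 8, 3, 2, 1, 4, 5, 9],
    [7, 6, 5, 4, 3, 2, 1, 0, 8, 3, 2, 1, 4, 9, 8],
    [7, 6, 5, 4, 3, 2, 1, 0, 8, 3, 2, 4, 3, 5, 6],
    [7, 6, 5, 4, 3, 2, 1, 0, 8, 3, 2, 4, 3, 5, 8],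
    [7, 6, 5, 4, 3, 2, 1, 0, 8, 3, 2, 4, 3, 8, 9],
    [7, 6, 5, 4, 3, 2, 1, 0, 8, 3, 2, 4, 3, 9, 8],
    [7, 6, 5, 4, 3, 2, 1, 0, 8, 3, 2, 4, 5, 6, 9],
    [7, 6, 5, 4, 3, 2, 1, 0, 8, 3, 2, 4, 9, 8, 3],
    [7, 6, 5, 4, 3, 2, 1, 0, 8, 3, 4, 5, 6, 7, 9],
    [7, 6, 5, 4, 3, 2, 1, 0, 8, 3, 4, 5, 6, 9, 8],
    [7, 6, 5, 4, 3, 2, 1, 0, 8, 3, 4, 5, 9, 8, 3],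
    [7, 6, 5, 4, 3, 2, 1, 0, 8, 3, 4, 9, 8, 3, 2],
    [7, 6, 5, 4, 3, 2, 1, 8, 3, 2, 4, 3, 5, 4, 6],
    [7, 6, 5, 4, 3, 2, 1, 8, 3, 2, 4, 3, 5, 6, 8],
    [7, 6, 5, 4, 3, 2, 1, 8, 3, 2, 4, 3, 5, 8, 9],
    [7, 6, 5, 4, 3, 2, 1, 8, 3, 2, 4, 3, 5, 9, 8],
    [7, 6, 5, 4, 3, 2, 1, 8, 3, 2, 4, 3, 8, 9, 8],
    [7, 6, 5, 4, 3, 2, 1, 8, 3, 2, 4, 3, 9, 8, 3],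
    [7, 6, 5, 4, 3, 2, 1, 8, 3, 2, 4, 5, 6, 9, 8],
    [7, 6, 5, 4, 3, 2, 1, 8, 3, 2, 4, 5, 9, 8, 3],
    [7, 6, 5, 4, 3, 2, 1, 8, 3, 2, 4, 9, 8, 3, 2],
    [7, 6, 5, 4, 3, 2, 1, 8, 3, 2, 9, 8, 3, 4, 5],
    [7, 6, 5, 4, 3, 2, 1, 8, 3, 4, 5, 6, 7, 9, 8],
    [7, 6, 5, 4, 3, 2, 1, 8, 3, 4, 5, 9, 8, 3, 2],
    [7, 6, 5, 4, 3, 2, 1, 8, 3, 4, 5, 9, 8, 3, 4],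
    [7, 6, 5, 4, 3, 2, 1, 8, 3, 4, 9, 8, 3, 2, 1],
    [7, 6, 5, 4, 3, 2, 8, 3, 4, 5, 6, 7, 9, 8, 3],
    [7, 6, 5, 4, 3, 2, 8, 3, 4, 5, 6, 9, 8, 3, 4],
    [7, 6, 5, 4, 3, 2, 8, 3, 4, 9, 8, 3, 2, 1, 0],
    [7, 6, 5, 4, 3, 2, 1, 0, 8, 3, 2, 1, 4, 3, 2, 5],
    [7, 6, 5, 4, 3, 2, 1, 0, 8, 3, 2, 1, 4, 3, 2, 8],
    [7, 6, 5, 4, 3, 2, 1, 0, 8, 3, 2, 1, 4, 3, 2, 9],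
    [7, 6, 5, 4, 3, 2, 1, 0, 8, 3, 2, 1, 4, 3, 5, 4],
    [7, 6, 5, 4, 3, 2, 1, 0, 8, 3, 2, 1, 4, 3, 5, 8],
    [7, 6, 5, 4, 3, 2, 1, 0, 8, 3, 2, 1, 4, 3, 9, 8],
    [7, 6, 5, 4, 3, 2, 1, 0, 8, 3, 2, 1, 4, 5, 6, 7],
    [7, 6, 5, 4, 3, 2, 1, 0, 8, 3, 2, 1, 4, 5, 9, 8],
    [7, 6, 5, 4, 3, 2, 1, 0, 8, 3, 2, 1, 4, 9, 8, 3],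
    [7, 6, 5, 4, 3, 2, 1, 0, 8, 3, 2, 1, 9, 8, 3, 2],
    [7, 6, 5, 4, 3, 2, 1, 0, 8, 3, 2, 1, 9, 8, 3, 4],
    [7, 6, 5, 4, 3, 2, 1, 0, 8, 3, 2, 4, 3, 5, 4, 6],
    [7, 6, 5, 4, 3, 2, 1, 0, 8, 3, 2, 4, 3, 5, 4, 9],
    [7, 6, 5, 4, 3, 2, 1, 0, 8, 3, 2, 4, 3, 5, 8, 9],
    [7, 6, 5, 4, 3, 2, 1, 0, 8, 3, 2, 4, 3, 5, 9, 8],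
    [7, 6, 5, 4, 3, 2, 1, 0, 8, 3, 2, 4, 3, 8, 9, 8],
    [7, 6, 5, 4, 3, 2, 1, 0, 8, 3, 2, 4, 3, 9, 8, 3],
    [7, 6, 5, 4, 3, 2, 1, 0, 8, 3, 2, 4, 5, 6, 9, 8],
    [7, 6, 5, 4, 3, 2, 1, 0, 8, 3, 2, 4, 5, 9, 8, 3],
    [7, 6, 5, 4, 3, 2, 1, 0, 8, 3, 2, 4, 9, 8, 3, 2],
    [7, 6, 5, 4, 3, 2, 1, 0, 8, 3, 2, 4, 9, 8, 3, 4]]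

/-- A part of the representatives. -/
def repsU_1 : List (List ℕ) :=
  [[7, 6, 5, 4, 3, 2, 1, 0, 8, 3, 2, 9, 8, 3, 4, 5],
    [7, 6, 5, 4, 3, 2, 1, 0, 8, 3, 4, 5, 6, 7, 9, 8],
    [7, 6, 5, 4, 3, 2, 1, 0, 8, 3, 4, 5, 6, 9, 8, 3],
    [7, 6, 5, 4, 3, 2, 1, 0, 8, 3, 4, 5, 9, 8, 3, 4],
    [7, 6, 5, 4, 3, 2, 1, 0, 8, 3, 4, 9, 8, 3, 2, 1],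
    [7, 6, 5, 4, 3, 2, 1, 8, 3, 2, 4, 3, 5, 4, 6, 5],
    [7, 6, 5, 4, 3, 2, 1, 8, 3, 2, 4, 3, 5, 4, 6, 7],
    [7, 6, 5, 4, 3, 2, 1, 8, 3, 2, 4, 3, 5, 4, 8, 3],
    [7, 6, 5, 4, 3, 2, 1, 8, 3, 2, 4, 3, 5, 6, 7, 8],
    [7, 6, 5, 4, 3, 2, 1, 8, 3, 2, 4, 3, 5, 6, 9, 8],
    [7, 6, 5, 4, 3, 2, 1, 8, 3, 2, 4, 3, 5, 8, 9, 8],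
    [7, 6, 5, 4, 3, 2, 1, 8, 3, 2, 4, 3, 5, 9, 8, 3],
    [7, 6, 5, 4, 3, 2, 1, 8, 3, 2, 4, 5, 6, 7, 9, 8],
    [7, 6, 5, 4, 3, 2, 1, 8, 3, 2, 4, 5, 9, 8, 3, 2],
    [7, 6, 5, 4, 3, 2, 1, 8, 3, 2, 4, 5, 9, 8, 3, 4],
    [7, 6, 5, 4, 3, 2, 1, 8, 3, 2, 4, 9, 8, 3, 4, 5],
    [7, 6, 5, 4, 3, 2, 1, 8, 3, 2, 9, 8, 3, 4, 5, 6],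
    [7, 6, 5, 4, 3, 2, 1, 8, 3, 4, 5, 6, 9, 8, 3, 2],
    [7, 6, 5, 4, 3, 2, 1, 8, 3, 4, 5, 6, 9, 8, 3, 4],
    [7, 6, 5, 4, 3, 2, 1, 8, 3, 4, 5, 9, 8, 3, 2, 1],
    [7, 6, 5, 4, 3, 2, 8, 3, 4, 5, 6, 7, 9, 8, 3, 2],
    [7, 6, 5, 4, 3, 2, 8, 3, 4, 5, 6, 7, 9, 8, 3, 4],
    [7, 6, 5, 4, 3, 2, 8, 3, 4, 5, 6, 9, 8, 3, 4, 5],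
    [7, 6, 5, 4, 3, 2, 8, 3, 4, 5, 9, 8, 3, 2, 1, 0],
    [7, 6, 5, 4, 3, 2, 8, 3, 4, 5, 9, 8, 3, 2, 1, 4],
    [7, 6, 5, 4, 3, 2, 8, 3, 4, 5, 9, 8, 3, 2, 4, 3],
    [7, 6, 5, 4, 3, 2, 1, 0, 8, 3, 2, 1, 4, 3, 2, 5, 6],
    [7, 6, 5, 4, 3, 2, 1, 0, 8, 3, 2, 1, 4, 3, 2, 5, 8],
    [7, 6, 5, 4, 3, 2, 1, 0, 8, 3, 2, 1, 4, 3, 2, 5, 9],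
    [7, 6, 5, 4, 3, 2, 1, 0, 8, 3, 2, 1, 4, 3, 2, 8, 3],
    [7, 6, 5, 4, 3, 2, 1, 0, 8, 3, 2, 1, 4, 3, 2, 8, 9],
    [7, 6, 5, 4, 3, 2, 1, 0, 8, 3, 2, 1, 4, 3, 2, 9, 8],
    [7, 6, 5, 4, 3, 2, 1, 0, 8, 3, 2, 1, 4, 3, 5, 4, 8],
    [7, 6, 5, 4, 3, 2, 1, 0, 8, 3, 2, 1, 4, 3, 5, 4, 9],
    [7, 6, 5, 4, 3, 2, 1, 0, 8, 3, 2, 1, 4, 3, 5, 6, 8],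
    [7, 6, 5, 4, 3, 2, 1, 0, 8, 3, 2, 1, 4, 3, 5, 8, 9],
    [7, 6, 5, 4, 3, 2, 1, 0, 8, 3, 2, 1, 4, 3, 5, 9, 8],
    [7, 6, 5, 4, 3, 2, 1, 0, 8, 3, 2, 1, 4, 3, 8, 9, 8],
    [7, 6, 5, 4, 3, 2, 1, 0, 8, 3, 2, 1, 4, 3, 9, 8, 3],
    [7, 6, 5, 4, 3, 2, 1, 0, 8, 3, 2, 1, 4, 5, 6, 9, 8],
    [7, 6, 5, 4, 3, 2, 1, 0, 8, 3, 2, 1, 4, 5, 9, 8, 3],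
    [7, 6, 5, 4, 3, 2, 1, 0, 8, 3, 2, 1, 4, 9, 8, 3, 4],
    [7, 6, 5, 4, 3, 2, 1, 0, 8, 3, 2, 1, 9, 8, 3, 4, 5],
    [7, 6, 5, 4, 3, 2, 1, 0, 8, 3, 2, 4, 3, 5, 4, 6, 5],
    [7, 6, 5, 4, 3, 2, 1, 0, 8, 3, 2, 4, 3, 5, 4, 6, 7],
    [7, 6, 5, 4, 3, 2, 1, 0, 8, 3, 2, 4, 3, 5, 4, 6, 9],
    [7, 6, 5, 4, 3, 2, 1, 0, 8, 3, 2, 4, 3, 5, 4, 8, 3],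
    [7, 6, 5, 4, 3, 2, 1, 0, 8, 3, 2, 4, 3, 5, 4, 8, 9],
    [7, 6, 5, 4, 3, 2, 1, 0, 8, 3, 2, 4, 3, 5, 6, 7, 8],
    [7, 6, 5, 4, 3, 2, 1, 0, 8, 3, 2, 4, 3, 5, 6, 9, 8],
    [7, 6, 5, 4, 3, 2, 1, 0, 8, 3, 2, 4, 3, 5, 8, 9, 8],
    [7, 6, 5, 4, 3, 2, 1, 0, 8, 3, 2, 4, 3, 5, 9, 8, 3],
    [7, 6, 5, 4, 3, 2, 1, 0, 8, 3, 2, 4, 3, 9, 8, 3, 2],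
    [7, 6, 5, 4, 3, 2, 1, 0, 8, 3, 2, 4, 5, 6, 7, 9, 8],
    [7, 6, 5, 4, 3, 2, 1, 0, 8, 3, 2, 4, 5, 6, 9, 8, 3],
    [7, 6, 5, 4, 3, 2, 1, 0, 8, 3, 2, 4, 5, 9, 8, 3, 2],
    [7, 6, 5, 4, 3, 2, 1, 0, 8, 3, 2, 4, 9, 8, 3, 2, 4],
    [7, 6, 5, 4, 3, 2, 1, 0, 8, 3, 2, 9, 8, 3, 4, 5, 6],
    [7, 6, 5, 4, 3, 2, 1, 0, 8, 3, 4, 5, 6, 7, 9, 8, 3],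
    [7, 6, 5, 4, 3, 2, 1, 0, 8, 3, 4, 5, 6, 9, 8, 3, 2],
    [7, 6, 5, 4, 3, 2, 1, 0, 8, 3, 4, 5, 9, 8, 3, 2, 1],
    [7, 6, 5, 4, 3, 2, 1, 8, 3, 2, 4, 3, 5, 4, 6, 5, 7],
    [7, 6, 5, 4, 3, 2, 1, 8, 3, 2, 4, 3, 5, 4, 6, 7, 9],
    [7, 6, 5, 4, 3, 2, 1, 8, 3, 2, 4, 3, 5, 4, 6, 8, 3],
    [7, 6, 5, 4, 3, 2, 1, 8, 3, 2, 4, 3, 5, 4, 6, 8, 9],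
    [7, 6, 5, 4, 3, 2, 1, 8, 3, 2, 4, 3, 5, 4, 8, 9, 8],
    [7, 6, 5, 4, 3, 2, 1, 8, 3, 2, 4, 3, 5, 4, 9, 8, 3],
    [7, 6, 5, 4, 3, 2, 1, 8, 3, 2, 4, 3, 5, 6, 7, 9, 8],
    [7, 6, 5, 4, 3, 2, 1, 8, 3, 2, 4, 3, 5, 6, 9, 8, 3],
    [7, 6, 5, 4, 3, 2, 1, 8, 3, 2, 4, 3, 5, 8, 9, 8, 3],
    [7, 6, 5, 4, 3, 2, 1, 8, 3, 2, 4, 3, 8, 9, 8, 3, 2],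
    [7, 6, 5, 4, 3, 2, 1, 8, 3, 2, 4, 3, 8, 9, 8, 3, 4],
    [7, 6, 5, 4, 3, 2, 1, 8, 3, 2, 4, 3, 9, 8, 3, 2, 1],
    [7, 6, 5, 4, 3, 2, 1, 8, 3, 2, 4, 3, 9, 8, 3, 4, 5],
    [7, 6, 5, 4, 3, 2, 1, 8, 3, 2, 4, 5, 6, 9, 8, 3, 2],
    [7, 6, 5, 4, 3, 2, 1, 8, 3, 2, 4, 5, 9, 8, 3, 4, 5],
    [7, 6, 5, 4, 3, 2, 1, 8, 3, 2, 4, 9, 8, 3, 2, 1, 4],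
    [7, 6, 5, 4, 3, 2, 1, 8, 3, 2, 4, 9, 8, 3, 2, 4, 5],
    [7, 6, 5, 4, 3, 2, 1, 8, 3, 2, 9, 8, 3, 4, 5, 6, 7],
    [7, 6, 5, 4, 3, 2, 1, 8, 3, 4, 5, 6, 7, 9, 8, 3, 2],
    [7, 6, 5, 4, 3, 2, 1, 8, 3, 4, 5, 6, 7, 9, 8, 3, 4],
    [7, 6, 5, 4, 3, 2, 1, 8, 3, 4, 5, 6, 9, 8, 3, 4, 5],
    [7, 6, 5, 4, 3, 2, 1, 8, 3, 4, 5, 9, 8, 3, 2, 1, 0],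
    [7, 6, 5, 4, 3, 2, 1, 8, 3, 4, 5, 9, 8, 3, 2, 4, 3],
    [7, 6, 5, 4, 3, 2, 8, 3, 4, 5, 6, 7, 9, 8, 3, 4, 5],
    [7, 6, 5, 4, 3, 2, 8, 3, 4, 5, 6, 9, 8, 3, 2, 4, 3],
    [7, 6, 5, 4, 3, 2, 8, 3, 4, 5, 9, 8, 3, 2, 1, 0, 4],
    [7, 6, 5, 4, 3, 2, 8, 3, 4, 5, 9, 8, 3, 2, 1, 4, 3],
    [7, 6, 5, 4, 3, 2, 1, 0, 8, 3, 2, 1, 4, 3, 2, 5, 4, 3],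
    [7, 6, 5, 4, 3, 2, 1, 0, 8, 3, 2, 1, 4, 3, 2, 5, 4, 6],
    [7, 6, 5, 4, 3, 2, 1, 0, 8, 3, 2, 1, 4, 3, 2, 5, 6, 8],
    [7, 6, 5, 4, 3, 2, 1, 0, 8, 3, 2, 1, 4, 3, 2, 5, 8, 9],
    [7, 6, 5, 4, 3, 2, 1, 0, 8, 3, 2, 1, 4, 3, 2, 5, 9, 8],
    [7, 6, 5, 4, 3, 2, 1, 0, 8, 3, 2, 1, 4, 3, 2, 8, 3, 4],
    [7, 6, 5, 4, 3, 2, 1, 0, 8, 3, 2, 1, 4, 3, 2, 8, 9, 8],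
    [7, 6, 5, 4, 3, 2, 1, 0, 8, 3, 2, 1, 4, 3, 2, 9, 8, 3],
    [7, 6, 5, 4, 3, 2, 1, 0, 8, 3, 2, 1, 4, 3, 5, 4, 6, 8],
    [7, 6, 5, 4, 3, 2, 1, 0, 8, 3, 2, 1, 4, 3, 5, 4, 8, 9],
    [7, 6, 5, 4, 3, 2, 1, 0, 8, 3, 2, 1, 4, 3, 5, 6, 7, 8],
    [7, 6, 5, 4, 3, 2, 1, 0, 8, 3, 2, 1, 4, 3, 5, 8, 9, 8],
    [7, 6, 5, 4, 3, 2, 1, 0, 8, 3, 2, 1, 4, 3, 5, 9, 8, 3],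
    [7, 6, 5, 4, 3, 2, 1, 0, 8, 3, 2, 1, 4, 3, 8, 9, 8, 3],
    [7, 6, 5, 4, 3, 2, 1, 0, 8, 3, 2, 1, 4, 3, 9, 8, 3, 2],
    [7, 6, 5, 4, 3, 2, 1, 0, 8, 3, 2, 1, 4, 3, 9, 8, 3, 4],
    [7, 6, 5, 4, 3, 2, 1, 0, 8, 3, 2, 1, 4, 5, 6, 7, 9, 8],
    [7, 6, 5, 4, 3, 2, 1, 0, 8, 3, 2, 1, 4, 5, 9, 8, 3, 2],
    [7, 6, 5, 4, 3, 2, 1, 0, 8, 3, 2, 1, 4, 5, 9, 8, 3, 4],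
    [7, 6, 5, 4, 3, 2, 1, 0, 8, 3, 2, 1, 4, 9, 8, 3, 2, 1],
    [7, 6, 5, 4, 3, 2, 1, 0, 8, 3, 2, 1, 4, 9, 8, 3, 2, 4],
    [7, 6, 5, 4, 3, 2, 1, 0, 8, 3, 2, 1, 9, 8, 3, 2, 4, 3],
    [7, 6, 5, 4, 3, 2, 1, 0, 8, 3, 2, 1, 9, 8, 3, 2, 4, 5],
    [7, 6, 5, 4, 3, 2, 1, 0, 8, 3, 2, 4, 3, 5, 4, 6, 5, 9],
    [7, 6, 5, 4, 3, 2, 1, 0, 8, 3, 2, 4, 3, 5, 4, 6, 7, 9],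
    [7, 6, 5, 4, 3, 2, 1, 0, 8, 3, 2, 4, 3, 5, 4, 8, 3, 9],
    [7, 6, 5, 4, 3, 2, 1, 0, 8, 3, 2, 4, 3, 5, 4, 9, 8, 3],
    [7, 6, 5, 4, 3, 2, 1, 0, 8, 3, 2, 4, 3, 5, 6, 7, 9, 8],
    [7, 6, 5, 4, 3, 2, 1, 0, 8, 3, 2, 4, 3, 5, 9, 8, 3, 2],
    [7, 6, 5, 4, 3, 2, 1, 0, 8, 3, 2, 4, 3, 8, 9, 8, 3, 2],
    [7, 6, 5, 4, 3, 2, 1, 0, 8, 3, 2, 4, 3, 9, 8, 3, 2, 1],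
    [7, 6, 5, 4, 3, 2, 1, 0, 8, 3, 2, 4, 3, 9, 8, 3, 4, 5],
    [7, 6, 5, 4, 3, 2, 1, 0, 8, 3, 2, 4, 5, 6, 7, 9, 8, 3],
    [7, 6, 5, 4, 3, 2, 1, 0, 8, 3, 2, 4, 5, 6, 9, 8, 3, 4],
    [7, 6, 5, 4, 3, 2, 1, 0, 8, 3, 2, 4, 5, 9, 8, 3, 4, 5],
    [7, 6, 5, 4, 3, 2, 1, 0, 8, 3, 2, 4, 9, 8, 3, 2, 1, 0],
    [7, 6, 5, 4, 3, 2, 1, 0, 8, 3, 2, 4, 9, 8, 3, 2, 1, 4],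
    [7, 6, 5, 4, 3, 2, 1, 0, 8, 3, 2, 4, 9, 8, 3, 4, 5, 6],
    [7, 6, 5, 4, 3, 2, 1, 0, 8, 3, 2, 9, 8, 3, 4, 5, 6, 7],
    [7, 6, 5, 4, 3, 2, 1, 0, 8, 3, 4, 5, 6, 7, 9, 8, 3, 4]]

/-- A part of the representatives. -/
def repsU_2 : List (List ℕ) :=
  [[7, 6, 5, 4, 3, 2, 1, 0, 8, 3, 4, 5, 9, 8, 3, 2, 1, 4],
    [7, 6, 5, 4, 3, 2, 1, 0, 8, 3, 4, 5, 9, 8, 3, 2, 4, 3],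
    [7, 6, 5, 4, 3, 2, 1, 8, 3, 2, 4, 3, 5, 4, 6, 5, 7, 9],
    [7, 6, 5, 4, 3, 2, 1, 8, 3, 2, 4, 3, 5, 4, 6, 5, 9, 8],
    [7, 6, 5, 4, 3, 2, 1, 8, 3, 2, 4, 3, 5, 4, 6, 7, 8, 3],
    [7, 6, 5, 4, 3, 2, 1, 8, 3, 2, 4, 3, 5, 4, 6, 8, 9, 8],
    [7, 6, 5, 4, 3, 2, 1, 8, 3, 2, 4, 3, 5, 4, 6, 9, 8, 3],
    [7, 6, 5, 4, 3, 2, 1, 8, 3, 2, 4, 3, 5, 4, 8, 3, 2, 1],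
    [7, 6, 5, 4, 3, 2, 1, 8, 3, 2, 4, 3, 5, 4, 8, 9, 8, 3],
    [7, 6, 5, 4, 3, 2, 1, 8, 3, 2, 4, 3, 5, 4, 9, 8, 3, 2],
    [7, 6, 5, 4, 3, 2, 1, 8, 3, 2, 4, 3, 5, 4, 9, 8, 3, 4],
    [7, 6, 5, 4, 3, 2, 1, 8, 3, 2, 4, 3, 5, 6, 7, 9, 8, 3],
    [7, 6, 5, 4, 3, 2, 1, 8, 3, 2, 4, 3, 5, 6, 9, 8, 3, 2],
    [7, 6, 5, 4, 3, 2, 1, 8, 3, 2, 4, 3, 5, 6, 9, 8, 3, 4],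
    [7, 6, 5, 4, 3, 2, 1, 8, 3, 2, 4, 3, 5, 8, 9, 8, 3, 2],
    [7, 6, 5, 4, 3, 2, 1, 8, 3, 2, 4, 3, 5, 9, 8, 3, 4, 5],
    [7, 6, 5, 4, 3, 2, 1, 8, 3, 2, 4, 3, 8, 9, 8, 3, 2, 1],
    [7, 6, 5, 4, 3, 2, 1, 8, 3, 2, 4, 3, 8, 9, 8, 3, 2, 4],
    [7, 6, 5, 4, 3, 2, 1, 8, 3, 2, 4, 3, 9, 8, 3, 2, 1, 0],
    [7, 6, 5, 4, 3, 2, 1, 8, 3, 2, 4, 3, 9, 8, 3, 2, 1, 4],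
    [7, 6, 5, 4, 3, 2, 1, 8, 3, 2, 4, 3, 9, 8, 3, 2, 4, 3],
    [7, 6, 5, 4, 3, 2, 1, 8, 3, 2, 4, 3, 9, 8, 3, 2, 4, 5],
    [7, 6, 5, 4, 3, 2, 1, 8, 3, 2, 4, 5, 6, 7, 9, 8, 3, 4],
    [7, 6, 5, 4, 3, 2, 1, 8, 3, 2, 4, 5, 6, 9, 8, 3, 4, 5],
    [7, 6, 5, 4, 3, 2, 1, 8, 3, 2, 4, 5, 9, 8, 3, 2, 1, 0],
    [7, 6, 5, 4, 3, 2, 1, 8, 3, 2, 4, 5, 9, 8, 3, 2, 1, 4],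
    [7, 6, 5, 4, 3, 2, 1, 8, 3, 2, 4, 5, 9, 8, 3, 2, 4, 3],
    [7, 6, 5, 4, 3, 2, 1, 8, 3, 2, 4, 5, 9, 8, 3, 4, 5, 6],
    [7, 6, 5, 4, 3, 2, 1, 8, 3, 2, 4, 9, 8, 3, 2, 1, 4, 5],
    [7, 6, 5, 4, 3, 2, 1, 8, 3, 2, 4, 9, 8, 3, 2, 4, 5, 6],
    [7, 6, 5, 4, 3, 2, 1, 8, 3, 2, 4, 9, 8, 3, 4, 5, 6, 7],
    [7, 6, 5, 4, 3, 2, 1, 8, 3, 4, 5, 6, 7, 9, 8, 3, 4, 5],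
    [7, 6, 5, 4, 3, 2, 1, 8, 3, 4, 5, 6, 9, 8, 3, 2, 1, 4],
    [7, 6, 5, 4, 3, 2, 1, 8, 3, 4, 5, 6, 9, 8, 3, 2, 4, 3],
    [7, 6, 5, 4, 3, 2, 1, 8, 3, 4, 5, 9, 8, 3, 2, 1, 4, 3],
    [7, 6, 5, 4, 3, 2, 1, 8, 3, 4, 5, 9, 8, 3, 2, 4, 3, 8],
    [7, 6, 5, 4, 3, 2, 8, 3, 4, 5, 6, 7, 9, 8, 3, 2, 4, 3],
    [7, 6, 5, 4, 3, 2, 8, 3, 4, 5, 6, 9, 8, 3, 2, 1, 0, 4],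
    [7, 6, 5, 4, 3, 2, 1, 0, 8, 3, 2, 1, 4, 3, 2, 5, 4, 3, 6],
    [7, 6, 5, 4, 3, 2, 1, 0, 8, 3, 2, 1, 4, 3, 2, 5, 4, 3, 9],
    [7, 6, 5, 4, 3, 2, 1, 0, 8, 3, 2, 1, 4, 3, 2, 5, 4, 6, 5],
    [7, 6, 5, 4, 3, 2, 1, 0, 8, 3, 2, 1, 4, 3, 2, 5, 4, 6, 7],
    [7, 6, 5, 4, 3, 2, 1, 0, 8, 3, 2, 1, 4, 3, 2, 5, 4, 6, 9],
    [7, 6, 5, 4, 3, 2, 1, 0, 8, 3, 2, 1, 4, 3, 2, 5, 4, 8, 9],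
    [7, 6, 5, 4, 3, 2, 1, 0, 8, 3, 2, 1, 4, 3, 2, 5, 6, 7, 8],
    [7, 6, 5, 4, 3, 2, 1, 0, 8, 3, 2, 1, 4, 3, 2, 5, 6, 9, 8],
    [7, 6, 5, 4, 3, 2, 1, 0, 8, 3, 2, 1, 4, 3, 2, 5, 8, 3, 9],
    [7, 6, 5, 4, 3, 2, 1, 0, 8, 3, 2, 1, 4, 3, 2, 5, 8, 9, 8],
    [7, 6, 5, 4, 3, 2, 1, 0, 8, 3, 2, 1, 4, 3, 2, 5, 9, 8, 3],
    [7, 6, 5, 4, 3, 2, 1, 0, 8, 3, 2, 1, 4, 3, 2, 8, 3, 9, 8],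
    [7, 6, 5, 4, 3, 2, 1, 0, 8, 3, 2, 1, 4, 3, 2, 8, 9, 8, 3],
    [7, 6, 5, 4, 3, 2, 1, 0, 8, 3, 2, 1, 4, 3, 2, 9, 8, 3, 2],
    [7, 6, 5, 4, 3, 2, 1, 0, 8, 3, 2, 1, 4, 3, 2, 9, 8, 3, 4],
    [7, 6, 5, 4, 3, 2, 1, 0, 8, 3, 2, 1, 4, 3, 5, 4, 6, 8, 3],
    [7, 6, 5, 4, 3, 2, 1, 0, 8, 3, 2, 1, 4, 3, 5, 4, 6, 8, 9],
    [7, 6, 5, 4, 3, 2, 1, 0, 8, 3, 2, 1, 4, 3, 5, 4, 6, 9, 8],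
    [7, 6, 5, 4, 3, 2, 1, 0, 8, 3, 2, 1, 4, 3, 5, 4, 9, 8, 3],
    [7, 6, 5, 4, 3, 2, 1, 0, 8, 3, 2, 1, 4, 3, 5, 6, 9, 8, 3],
    [7, 6, 5, 4, 3, 2, 1, 0, 8, 3, 2, 1, 4, 3, 5, 8, 9, 8, 3],
    [7, 6, 5, 4, 3, 2, 1, 0, 8, 3, 2, 1, 4, 3, 8, 9, 8, 3, 2],
    [7, 6, 5, 4, 3, 2, 1, 0, 8, 3, 2, 1, 4, 3, 8, 9, 8, 3, 4],
    [7, 6, 5, 4, 3, 2, 1, 0, 8, 3, 2, 1, 4, 5, 6, 9, 8, 3, 2],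
    [7, 6, 5, 4, 3, 2, 1, 0, 8, 3, 2, 1, 4, 5, 6, 9, 8, 3, 4],
    [7, 6, 5, 4, 3, 2, 1, 0, 8, 3, 2, 1, 4, 5, 9, 8, 3, 2, 1],
    [7, 6, 5, 4, 3, 2, 1, 0, 8, 3, 2, 1, 4, 5, 9, 8, 3, 4, 5],
    [7, 6, 5, 4, 3, 2, 1, 0, 8, 3, 2, 1, 4, 9, 8, 3, 2, 1, 4],
    [7, 6, 5, 4, 3, 2, 1, 0, 8, 3, 2, 1, 4, 9, 8, 3, 2, 4, 5],
    [7, 6, 5, 4, 3, 2, 1, 0, 8, 3, 2, 1, 9, 8, 3, 2, 4, 3, 5],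
    [7, 6, 5, 4, 3, 2, 1, 0, 8, 3, 2, 1, 9, 8, 3, 2, 4, 5, 6],
    [7, 6, 5, 4, 3, 2, 1, 0, 8, 3, 2, 1, 9, 8, 3, 4, 5, 6, 7],
    [7, 6, 5, 4, 3, 2, 1, 0, 8, 3, 2, 4, 3, 5, 4, 6, 5, 7, 9],
    [7, 6, 5, 4, 3, 2, 1, 0, 8, 3, 2, 4, 3, 5, 4, 6, 8, 9, 8],
    [7, 6, 5, 4, 3, 2, 1, 0, 8, 3, 2, 4, 3, 5, 4, 6, 9, 8, 3],
    [7, 6, 5, 4, 3, 2, 1, 0, 8, 3, 2, 4, 3, 5, 4, 9, 8, 3, 4],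
    [7, 6, 5, 4, 3, 2, 1, 0, 8, 3, 2, 4, 3, 5, 6, 8, 9, 8, 3],
    [7, 6, 5, 4, 3, 2, 1, 0, 8, 3, 2, 4, 3, 5, 9, 8, 3, 2, 1],
    [7, 6, 5, 4, 3, 2, 1, 0, 8, 3, 2, 4, 3, 8, 9, 8, 3, 4, 5],
    [7, 6, 5, 4, 3, 2, 1, 0, 8, 3, 2, 4, 3, 9, 8, 3, 2, 1, 0],
    [7, 6, 5, 4, 3, 2, 1, 0, 8, 3, 2, 4, 3, 9, 8, 3, 2, 4, 5],
    [7, 6, 5, 4, 3, 2, 1, 0, 8, 3, 2, 4, 5, 6, 7, 9, 8, 3, 4],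
    [7, 6, 5, 4, 3, 2, 1, 0, 8, 3, 2, 4, 5, 9, 8, 3, 2, 1, 0],
    [7, 6, 5, 4, 3, 2, 1, 0, 8, 3, 2, 4, 5, 9, 8, 3, 2, 1, 4],
    [7, 6, 5, 4, 3, 2, 1, 0, 8, 3, 2, 4, 5, 9, 8, 3, 2, 4, 3],
    [7, 6, 5, 4, 3, 2, 1, 0, 8, 3, 2, 4, 5, 9, 8, 3, 4, 5, 6],
    [7, 6, 5, 4, 3, 2, 1, 0, 8, 3, 2, 4, 9, 8, 3, 2, 1, 0, 4],
    [7, 6, 5, 4, 3, 2, 1, 0, 8, 3, 2, 4, 9, 8, 3, 2, 1, 4, 5],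
    [7, 6, 5, 4, 3, 2, 1, 0, 8, 3, 2, 4, 9, 8, 3, 2, 4, 5, 6],
    [7, 6, 5, 4, 3, 2, 1, 0, 8, 3, 2, 4, 9, 8, 3, 4, 5, 6, 7],
    [7, 6, 5, 4, 3, 2, 1, 0, 8, 3, 4, 5, 6, 7, 9, 8, 3, 4, 5],
    [7, 6, 5, 4, 3, 2, 1, 8, 3, 2, 4, 3, 5, 4, 6, 5, 7, 9, 8],
    [7, 6, 5, 4, 3, 2, 1, 8, 3, 2, 4, 3, 5, 4, 6, 5, 8, 9, 8],
    [7, 6, 5, 4, 3, 2, 1, 8, 3, 2, 4, 3, 5, 4, 6, 7, 8, 3, 9],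
    [7, 6, 5, 4, 3, 2, 1, 8, 3, 2, 4, 3, 5, 4, 6, 8, 3, 2, 9],
    [7, 6, 5, 4, 3, 2, 1, 8, 3, 2, 4, 3, 5, 4, 6, 8, 9, 8, 3],
    [7, 6, 5, 4, 3, 2, 1, 8, 3, 2, 4, 3, 5, 4, 6, 9, 8, 3, 2],
    [7, 6, 5, 4, 3, 2, 1, 8, 3, 2, 4, 3, 5, 4, 8, 9, 8, 3, 2],
    [7, 6, 5, 4, 3, 2, 1, 8, 3, 2, 4, 3, 5, 4, 9, 8, 3, 4, 5],
    [7, 6, 5, 4, 3, 2, 1, 8, 3, 2, 4, 3, 5, 6, 8, 9, 8, 3, 2],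
    [7, 6, 5, 4, 3, 2, 1, 8, 3, 2, 4, 3, 5, 6, 9, 8, 3, 4, 5],
    [7, 6, 5, 4, 3, 2, 1, 8, 3, 2, 4, 3, 5, 8, 9, 8, 3, 2, 1],
    [7, 6, 5, 4, 3, 2, 1, 8, 3, 2, 4, 3, 5, 9, 8, 3, 2, 1, 0],
    [7, 6, 5, 4, 3, 2, 1, 8, 3, 2, 4, 3, 5, 9, 8, 3, 2, 4, 3],
    [7, 6, 5, 4, 3, 2, 1, 8, 3, 2, 4, 3, 8, 9, 8, 3, 2, 1, 0],
    [7, 6, 5, 4, 3, 2, 1, 8, 3, 2, 4, 3, 8, 9, 8, 3, 2, 4, 3],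
    [7, 6, 5, 4, 3, 2, 1, 8, 3, 2, 4, 3, 8, 9, 8, 3, 2, 4, 5],
    [7, 6, 5, 4, 3, 2, 1, 8, 3, 2, 4, 3, 9, 8, 3, 2, 1, 4, 5],
    [7, 6, 5, 4, 3, 2, 1, 8, 3, 2, 4, 3, 9, 8, 3, 2, 4, 3, 5],
    [7, 6, 5, 4, 3, 2, 1, 8, 3, 2, 4, 3, 9, 8, 3, 4, 5, 6, 7],
    [7, 6, 5, 4, 3, 2, 1, 8, 3, 2, 4, 5, 6, 7, 9, 8, 3, 4, 5],
    [7, 6, 5, 4, 3, 2, 1, 8, 3, 2, 4, 5, 6, 9, 8, 3, 2, 1, 4],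
    [7, 6, 5, 4, 3, 2, 1, 8, 3, 2, 4, 5, 6, 9, 8, 3, 2, 4, 3],
    [7, 6, 5, 4, 3, 2, 1, 8, 3, 2, 4, 5, 6, 9, 8, 3, 2, 4, 5],
    [7, 6, 5, 4, 3, 2, 1, 8, 3, 2, 4, 5, 6, 9, 8, 3, 4, 5, 6],
    [7, 6, 5, 4, 3, 2, 1, 8, 3, 2, 4, 5, 9, 8, 3, 2, 1, 4, 5],
    [7, 6, 5, 4, 3, 2, 1, 8, 3, 2, 4, 5, 9, 8, 3, 4, 5, 6, 7],
    [7, 6, 5, 4, 3, 2, 1, 8, 3, 2, 4, 9, 8, 3, 2, 1, 0, 4, 5],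
    [7, 6, 5, 4, 3, 2, 1, 8, 3, 4, 5, 6, 7, 9, 8, 3, 2, 1, 4],
    [7, 6, 5, 4, 3, 2, 1, 8, 3, 4, 5, 6, 9, 8, 3, 2, 1, 0, 4],
    [7, 6, 5, 4, 3, 2, 8, 3, 4, 5, 6, 7, 9, 8, 3, 2, 1, 0, 4],
    [7, 6, 5, 4, 3, 2, 8, 3, 4, 5, 6, 7, 9, 8, 3, 2, 4, 3, 5],
    [7, 6, 5, 4, 3, 2, 8, 3, 4, 5, 6, 9, 8, 3, 2, 1, 0, 4, 5],
    [7, 6, 5, 4, 3, 2, 1, 0, 8, 3, 2, 1, 4, 3, 2, 5, 4, 6, 5, 7],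
    [7, 6, 5, 4, 3, 2, 1, 0, 8, 3, 2, 1, 4, 3, 2, 5, 4, 6, 5, 9],
    [7, 6, 5, 4, 3, 2, 1, 0, 8, 3, 2, 1, 4, 3, 2, 5, 4, 8, 9, 8],
    [7, 6, 5, 4, 3, 2, 1, 0, 8, 3, 2, 1, 4, 3, 2, 5, 4, 9, 8, 3],
    [7, 6, 5, 4, 3, 2, 1, 0, 8, 3, 2, 1, 4, 3, 2, 5, 6, 7, 9, 8],
    [7, 6, 5, 4, 3, 2, 1, 0, 8, 3, 2, 1, 4, 3, 2, 5, 6, 8, 9, 8],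
    [7, 6, 5, 4, 3, 2, 1, 0, 8, 3, 2, 1, 4, 3, 2, 5, 6, 9, 8, 3]]

/-- A part of the representatives. -/
def repsU_3 : List (List ℕ) :=
  [[7, 6, 5, 4, 3, 2, 1, 0, 8, 3, 2, 1, 4, 3, 2, 5, 9, 8, 3, 2],
    [7, 6, 5, 4, 3, 2, 1, 0, 8, 3, 2, 1, 4, 3, 2, 8, 3, 9, 8, 3],
    [7, 6, 5, 4, 3, 2, 1, 0, 8, 3, 2, 1, 4, 3, 2, 8, 9, 8, 3, 2],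
    [7, 6, 5, 4, 3, 2, 1, 0, 8, 3, 2, 1, 4, 3, 2, 8, 9, 8, 3, 4],
    [7, 6, 5, 4, 3, 2, 1, 0, 8, 3, 2, 1, 4, 3, 2, 9, 8, 3, 4, 5],
    [7, 6, 5, 4, 3, 2, 1, 0, 8, 3, 2, 1, 4, 3, 5, 4, 6, 5, 9, 8],
    [7, 6, 5, 4, 3, 2, 1, 0, 8, 3, 2, 1, 4, 3, 5, 4, 6, 7, 8, 3],
    [7, 6, 5, 4, 3, 2, 1, 0, 8, 3, 2, 1, 4, 3, 5, 4, 6, 7, 9, 8],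
    [7, 6, 5, 4, 3, 2, 1, 0, 8, 3, 2, 1, 4, 3, 5, 4, 6, 9, 8, 3],
    [7, 6, 5, 4, 3, 2, 1, 0, 8, 3, 2, 1, 4, 3, 5, 4, 8, 3, 9, 8],
    [7, 6, 5, 4, 3, 2, 1, 0, 8, 3, 2, 1, 4, 3, 5, 6, 7, 9, 8, 3],
    [7, 6, 5, 4, 3, 2, 1, 0, 8, 3, 2, 1, 4, 3, 5, 9, 8, 3, 4, 5],
    [7, 6, 5, 4, 3, 2, 1, 0, 8, 3, 2, 1, 4, 3, 8, 9, 8, 3, 4, 5],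
    [7, 6, 5, 4, 3, 2, 1, 0, 8, 3, 2, 1, 4, 3, 9, 8, 3, 2, 1, 0],
    [7, 6, 5, 4, 3, 2, 1, 0, 8, 3, 2, 1, 4, 3, 9, 8, 3, 2, 1, 4],
    [7, 6, 5, 4, 3, 2, 1, 0, 8, 3, 2, 1, 4, 3, 9, 8, 3, 2, 4, 3],
    [7, 6, 5, 4, 3, 2, 1, 0, 8, 3, 2, 1, 4, 3, 9, 8, 3, 2, 4, 5],
    [7, 6, 5, 4, 3, 2, 1, 0, 8, 3, 2, 1, 4, 5, 6, 7, 9, 8, 3, 4],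
    [7, 6, 5, 4, 3, 2, 1, 0, 8, 3, 2, 1, 4, 5, 9, 8, 3, 2, 1, 4],
    [7, 6, 5, 4, 3, 2, 1, 0, 8, 3, 2, 1, 4, 5, 9, 8, 3, 4, 5, 6],
    [7, 6, 5, 4, 3, 2, 1, 0, 8, 3, 2, 1, 4, 9, 8, 3, 2, 1, 4, 3],
    [7, 6, 5, 4, 3, 2, 1, 0, 8, 3, 2, 1, 4, 9, 8, 3, 2, 4, 3, 5],
    [7, 6, 5, 4, 3, 2, 1, 0, 8, 3, 2, 1, 9, 8, 3, 2, 4, 3, 8, 9],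
    [7, 6, 5, 4, 3, 2, 1, 0, 8, 3, 2, 1, 9, 8, 3, 2, 4, 5, 6, 7],
    [7, 6, 5, 4, 3, 2, 1, 0, 8, 3, 2, 4, 3, 5, 4, 6, 8, 9, 8, 3],
    [7, 6, 5, 4, 3, 2, 1, 0, 8, 3, 2, 4, 3, 5, 4, 6, 9, 8, 3, 2],
    [7, 6, 5, 4, 3, 2, 1, 0, 8, 3, 2, 4, 3, 5, 4, 9, 8, 3, 4, 5],
    [7, 6, 5, 4, 3, 2, 1, 0, 8, 3, 2, 4, 3, 5, 6, 8, 9, 8, 3, 4],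
    [7, 6, 5, 4, 3, 2, 1, 0, 8, 3, 2, 4, 3, 5, 8, 9, 8, 3, 4, 5],
    [7, 6, 5, 4, 3, 2, 1, 0, 8, 3, 2, 4, 3, 5, 9, 8, 3, 2, 1, 4],
    [7, 6, 5, 4, 3, 2, 1, 0, 8, 3, 2, 4, 3, 5, 9, 8, 3, 4, 5, 6],
    [7, 6, 5, 4, 3, 2, 1, 0, 8, 3, 2, 4, 3, 8, 9, 8, 3, 2, 4, 3],
    [7, 6, 5, 4, 3, 2, 1, 0, 8, 3, 2, 4, 5, 6, 7, 9, 8, 3, 4, 5],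
    [7, 6, 5, 4, 3, 2, 1, 0, 8, 3, 2, 4, 5, 6, 9, 8, 3, 2, 1, 4],
    [7, 6, 5, 4, 3, 2, 1, 0, 8, 3, 2, 4, 5, 6, 9, 8, 3, 4, 5, 6],
    [7, 6, 5, 4, 3, 2, 1, 0, 8, 3, 2, 4, 5, 9, 8, 3, 2, 4, 3, 5],
    [7, 6, 5, 4, 3, 2, 1, 0, 8, 3, 4, 5, 6, 9, 8, 3, 2, 4, 3, 8],
    [7, 6, 5, 4, 3, 2, 1, 0, 8, 3, 4, 5, 9, 8, 3, 2, 4, 3, 8, 9],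
    [7, 6, 5, 4, 3, 2, 1, 8, 3, 2, 4, 3, 5, 4, 6, 5, 8, 9, 8, 3],
    [7, 6, 5, 4, 3, 2, 1, 8, 3, 2, 4, 3, 5, 4, 6, 5, 9, 8, 3, 2],
    [7, 6, 5, 4, 3, 2, 1, 8, 3, 2, 4, 3, 5, 4, 6, 5, 9, 8, 3, 4],
    [7, 6, 5, 4, 3, 2, 1, 8, 3, 2, 4, 3, 5, 4, 6, 7, 8, 3, 2, 1],
    [7, 6, 5, 4, 3, 2, 1, 8, 3, 2, 4, 3, 5, 4, 6, 7, 8, 9, 8, 3],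
    [7, 6, 5, 4, 3, 2, 1, 8, 3, 2, 4, 3, 5, 4, 6, 7, 9, 8, 3, 2],
    [7, 6, 5, 4, 3, 2, 1, 8, 3, 2, 4, 3, 5, 4, 6, 7, 9, 8, 3, 4],
    [7, 6, 5, 4, 3, 2, 1, 8, 3, 2, 4, 3, 5, 4, 6, 8, 9, 8, 3, 2],
    [7, 6, 5, 4, 3, 2, 1, 8, 3, 2, 4, 3, 5, 4, 9, 8, 3, 2, 1, 4],
    [7, 6, 5, 4, 3, 2, 1, 8, 3, 2, 4, 3, 5, 4, 9, 8, 3, 4, 5, 6],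
    [7, 6, 5, 4, 3, 2, 1, 8, 3, 2, 4, 3, 5, 6, 7, 8, 9, 8, 3, 2],
    [7, 6, 5, 4, 3, 2, 1, 8, 3, 2, 4, 3, 5, 6, 7, 9, 8, 3, 4, 5],
    [7, 6, 5, 4, 3, 2, 1, 8, 3, 2, 4, 3, 5, 6, 8, 9, 8, 3, 4, 5],
    [7, 6, 5, 4, 3, 2, 1, 8, 3, 2, 4, 3, 5, 6, 9, 8, 3, 2, 1, 4],
    [7, 6, 5, 4, 3, 2, 1, 8, 3, 2, 4, 3, 5, 6, 9, 8, 3, 2, 4, 3],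
    [7, 6, 5, 4, 3, 2, 1, 8, 3, 2, 4, 3, 5, 6, 9, 8, 3, 4, 5, 6],
    [7, 6, 5, 4, 3, 2, 1, 8, 3, 2, 4, 3, 5, 8, 9, 8, 3, 2, 1, 4],
    [7, 6, 5, 4, 3, 2, 1, 8, 3, 2, 4, 3, 5, 8, 9, 8, 3, 2, 4, 3],
    [7, 6, 5, 4, 3, 2, 1, 8, 3, 2, 4, 3, 5, 8, 9, 8, 3, 4, 5, 6],
    [7, 6, 5, 4, 3, 2, 1, 8, 3, 2, 4, 3, 5, 9, 8, 3, 2, 1, 4, 3],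
    [7, 6, 5, 4, 3, 2, 1, 8, 3, 2, 4, 3, 5, 9, 8, 3, 2, 1, 4, 5],
    [7, 6, 5, 4, 3, 2, 1, 8, 3, 2, 4, 3, 5, 9, 8, 3, 2, 4, 3, 8],
    [7, 6, 5, 4, 3, 2, 1, 8, 3, 2, 4, 3, 5, 9, 8, 3, 4, 5, 6, 7],
    [7, 6, 5, 4, 3, 2, 1, 8, 3, 2, 4, 3, 8, 9, 8, 3, 2, 1, 4, 3],
    [7, 6, 5, 4, 3, 2, 1, 8, 3, 2, 4, 3, 8, 9, 8, 3, 2, 4, 3, 5],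
    [7, 6, 5, 4, 3, 2, 1, 8, 3, 2, 4, 3, 8, 9, 8, 3, 2, 4, 3, 8],
    [7, 6, 5, 4, 3, 2, 1, 8, 3, 2, 4, 3, 8, 9, 8, 3, 4, 5, 6, 7],
    [7, 6, 5, 4, 3, 2, 1, 8, 3, 2, 4, 3, 9, 8, 3, 2, 1, 0, 4, 3],
    [7, 6, 5, 4, 3, 2, 1, 8, 3, 2, 4, 3, 9, 8, 3, 2, 4, 3, 5, 6],
    [7, 6, 5, 4, 3, 2, 1, 8, 3, 2, 4, 3, 9, 8, 3, 2, 4, 5, 6, 7],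
    [7, 6, 5, 4, 3, 2, 1, 8, 3, 2, 4, 5, 6, 7, 9, 8, 3, 2, 1, 0],
    [7, 6, 5, 4, 3, 2, 1, 8, 3, 2, 4, 5, 6, 7, 9, 8, 3, 2, 1, 4],
    [7, 6, 5, 4, 3, 2, 1, 8, 3, 2, 4, 5, 6, 7, 9, 8, 3, 2, 4, 3],
    [7, 6, 5, 4, 3, 2, 1, 8, 3, 2, 4, 5, 6, 7, 9, 8, 3, 2, 4, 5],
    [7, 6, 5, 4, 3, 2, 1, 8, 3, 2, 4, 5, 6, 9, 8, 3, 2, 1, 4, 5],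
    [7, 6, 5, 4, 3, 2, 1, 8, 3, 2, 4, 5, 6, 9, 8, 3, 2, 4, 3, 5],
    [7, 6, 5, 4, 3, 2, 1, 8, 3, 2, 4, 5, 6, 9, 8, 3, 4, 5, 6, 7],
    [7, 6, 5, 4, 3, 2, 1, 8, 3, 2, 4, 5, 9, 8, 3, 2, 4, 5, 6, 7],
    [7, 6, 5, 4, 3, 2, 1, 8, 3, 2, 4, 9, 8, 3, 2, 1, 0, 4, 5, 6],
    [7, 6, 5, 4, 3, 2, 1, 8, 3, 4, 5, 6, 9, 8, 3, 2, 1, 0, 4, 3],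
    [7, 6, 5, 4, 3, 2, 8, 3, 4, 5, 6, 7, 9, 8, 3, 2, 1, 0, 4, 3],
    [7, 6, 5, 4, 3, 2, 8, 3, 4, 5, 6, 7, 9, 8, 3, 2, 1, 0, 4, 5],
    [7, 6, 5, 4, 3, 2, 8, 3, 4, 5, 6, 7, 9, 8, 3, 2, 4, 3, 5, 6],
    [7, 6, 5, 4, 3, 2, 1, 0, 8, 3, 2, 1, 4, 3, 2, 5, 4, 3, 6, 9, 8],
    [7, 6, 5, 4, 3, 2, 1, 0, 8, 3, 2, 1, 4, 3, 2, 5, 4, 6, 8, 9, 8],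
    [7, 6, 5, 4, 3, 2, 1, 0, 8, 3, 2, 1, 4, 3, 2, 5, 4, 6, 9, 8, 3],
    [7, 6, 5, 4, 3, 2, 1, 0, 8, 3, 2, 1, 4, 3, 2, 5, 4, 8, 9, 8, 3],
    [7, 6, 5, 4, 3, 2, 1, 0, 8, 3, 2, 1, 4, 3, 2, 5, 4, 9, 8, 3, 2],
    [7, 6, 5, 4, 3, 2, 1, 0, 8, 3, 2, 1, 4, 3, 2, 5, 4, 9, 8, 3, 4],
    [7, 6, 5, 4, 3, 2, 1, 0, 8, 3, 2, 1, 4, 3, 2, 5, 6, 7, 9, 8, 3],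
    [7, 6, 5, 4, 3, 2, 1, 0, 8, 3, 2, 1, 4, 3, 2, 5, 6, 8, 3, 9, 8],
    [7, 6, 5, 4, 3, 2, 1, 0, 8, 3, 2, 1, 4, 3, 2, 5, 6, 9, 8, 3, 4],
    [7, 6, 5, 4, 3, 2, 1, 0, 8, 3, 2, 1, 4, 3, 2, 5, 8, 3, 9, 8, 3],
    [7, 6, 5, 4, 3, 2, 1, 0, 8, 3, 2, 1, 4, 3, 2, 5, 8, 9, 8, 3, 4],
    [7, 6, 5, 4, 3, 2, 1, 0, 8, 3, 2, 1, 4, 3, 2, 5, 9, 8, 3, 4, 5],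
    [7, 6, 5, 4, 3, 2, 1, 0, 8, 3, 2, 1, 4, 3, 2, 8, 3, 4, 9, 8, 3],
    [7, 6, 5, 4, 3, 2, 1, 0, 8, 3, 2, 1, 4, 3, 2, 8, 3, 9, 8, 3, 4],
    [7, 6, 5, 4, 3, 2, 1, 0, 8, 3, 2, 1, 4, 3, 2, 8, 9, 8, 3, 4, 5],
    [7, 6, 5, 4, 3, 2, 1, 0, 8, 3, 2, 1, 4, 3, 2, 9, 8, 3, 2, 1, 0],
    [7, 6, 5, 4, 3, 2, 1, 0, 8, 3, 2, 1, 4, 3, 2, 9, 8, 3, 2, 1, 4],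
    [7, 6, 5, 4, 3, 2, 1, 0, 8, 3, 2, 1, 4, 3, 2, 9, 8, 3, 2, 4, 5],
    [7, 6, 5, 4, 3, 2, 1, 0, 8, 3, 2, 1, 4, 3, 2, 9, 8, 3, 4, 5, 6],
    [7, 6, 5, 4, 3, 2, 1, 0, 8, 3, 2, 1, 4, 3, 5, 4, 6, 5, 7, 8, 3],
    [7, 6, 5, 4, 3, 2, 1, 0, 8, 3, 2, 1, 4, 3, 5, 4, 6, 5, 7, 8, 9],
    [7, 6, 5, 4, 3, 2, 1, 0, 8, 3, 2, 1, 4, 3, 5, 4, 6, 7, 8, 9, 8],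
    [7, 6, 5, 4, 3, 2, 1, 0, 8, 3, 2, 1, 4, 3, 5, 4, 6, 7, 9, 8, 3],
    [7, 6, 5, 4, 3, 2, 1, 0, 8, 3, 2, 1, 4, 3, 5, 4, 6, 9, 8, 3, 2],
    [7, 6, 5, 4, 3, 2, 1, 0, 8, 3, 2, 1, 4, 3, 5, 4, 8, 3, 9, 8, 3],
    [7, 6, 5, 4, 3, 2, 1, 0, 8, 3, 2, 1, 4, 3, 5, 4, 8, 9, 8, 3, 2],
    [7, 6, 5, 4, 3, 2, 1, 0, 8, 3, 2, 1, 4, 3, 5, 4, 9, 8, 3, 2, 1],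
    [7, 6, 5, 4, 3, 2, 1, 0, 8, 3, 2, 1, 4, 3, 5, 6, 7, 9, 8, 3, 2],
    [7, 6, 5, 4, 3, 2, 1, 0, 8, 3, 2, 1, 4, 3, 5, 6, 7, 9, 8, 3, 4],
    [7, 6, 5, 4, 3, 2, 1, 0, 8, 3, 2, 1, 4, 3, 5, 6, 8, 9, 8, 3, 2],
    [7, 6, 5, 4, 3, 2, 1, 0, 8, 3, 2, 1, 4, 3, 5, 9, 8, 3, 2, 1, 0],
    [7, 6, 5, 4, 3, 2, 1, 0, 8, 3, 2, 1, 4, 3, 8, 9, 8, 3, 2, 4, 3],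
    [7, 6, 5, 4, 3, 2, 1, 0, 8, 3, 2, 1, 4, 3, 9, 8, 3, 2, 1, 0, 4],
    [7, 6, 5, 4, 3, 2, 1, 0, 8, 3, 2, 1, 4, 5, 6, 7, 9, 8, 3, 4, 5],
    [7, 6, 5, 4, 3, 2, 1, 0, 8, 3, 2, 1, 4, 5, 6, 9, 8, 3, 2, 1, 4],
    [7, 6, 5, 4, 3, 2, 1, 0, 8, 3, 2, 1, 4, 5, 6, 9, 8, 3, 2, 4, 3],
    [7, 6, 5, 4, 3, 2, 1, 0, 8, 3, 2, 1, 4, 5, 6, 9, 8, 3, 2, 4, 5],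
    [7, 6, 5, 4, 3, 2, 1, 0, 8, 3, 2, 1, 4, 5, 6, 9, 8, 3, 4, 5, 6],
    [7, 6, 5, 4, 3, 2, 1, 0, 8, 3, 2, 1, 4, 5, 9, 8, 3, 2, 1, 4, 5],
    [7, 6, 5, 4, 3, 2, 1, 0, 8, 3, 2, 1, 4, 5, 9, 8, 3, 2, 4, 3, 5],
    [7, 6, 5, 4, 3, 2, 1, 0, 8, 3, 2, 1, 4, 5, 9, 8, 3, 2, 4, 5, 6],
    [7, 6, 5, 4, 3, 2, 1, 0, 8, 3, 2, 1, 4, 5, 9, 8, 3, 4, 5, 6, 7],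
    [7, 6, 5, 4, 3, 2, 1, 0, 8, 3, 2, 1, 4, 9, 8, 3, 2, 1, 4, 3, 5],
    [7, 6, 5, 4, 3, 2, 1, 0, 8, 3, 2, 1, 4, 9, 8, 3, 2, 4, 3, 8, 9],
    [7, 6, 5, 4, 3, 2, 1, 0, 8, 3, 2, 1, 9, 8, 3, 2, 4, 3, 5, 4, 6],
    [7, 6, 5, 4, 3, 2, 1, 0, 8, 3, 2, 1, 9, 8, 3, 2, 4, 3, 5, 8, 9],
    [7, 6, 5, 4, 3, 2, 1, 0, 8, 3, 2, 4, 3, 5, 4, 6, 5, 7, 6, 8, 3]]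

/-- A part of the representatives. -/
def repsU_4 : List (List ℕ) :=
  [[7, 6, 5, 4, 3, 2, 1, 0, 8, 3, 2, 4, 3, 5, 4, 6, 5, 9, 8, 3, 2],
    [7, 6, 5, 4, 3, 2, 1, 0, 8, 3, 2, 4, 3, 5, 4, 6, 5, 9, 8, 3, 4],
    [7, 6, 5, 4, 3, 2, 1, 0, 8, 3, 2, 4, 3, 5, 4, 6, 7, 8, 9, 8, 3],
    [7, 6, 5, 4, 3, 2, 1, 0, 8, 3, 2, 4, 3, 5, 4, 6, 7, 9, 8, 3, 4],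
    [7, 6, 5, 4, 3, 2, 1, 0, 8, 3, 2, 4, 3, 5, 4, 9, 8, 3, 2, 1, 4],
    [7, 6, 5, 4, 3, 2, 1, 0, 8, 3, 2, 4, 3, 5, 4, 9, 8, 3, 2, 4, 3],
    [7, 6, 5, 4, 3, 2, 1, 0, 8, 3, 2, 4, 3, 5, 6, 7, 8, 9, 8, 3, 2],
    [7, 6, 5, 4, 3, 2, 1, 0, 8, 3, 2, 4, 3, 5, 6, 8, 9, 8, 3, 4, 5],
    [7, 6, 5, 4, 3, 2, 1, 0, 8, 3, 2, 4, 3, 5, 9, 8, 3, 2, 1, 4, 5],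
    [7, 6, 5, 4, 3, 2, 1, 0, 8, 3, 2, 4, 3, 5, 9, 8, 3, 4, 5, 6, 7],
    [7, 6, 5, 4, 3, 2, 1, 0, 8, 3, 2, 4, 3, 8, 9, 8, 3, 2, 1, 4, 5],
    [7, 6, 5, 4, 3, 2, 1, 0, 8, 3, 2, 4, 3, 8, 9, 8, 3, 2, 4, 3, 5],
    [7, 6, 5, 4, 3, 2, 1, 0, 8, 3, 2, 4, 3, 8, 9, 8, 3, 2, 4, 5, 6],
    [7, 6, 5, 4, 3, 2, 1, 0, 8, 3, 2, 4, 3, 9, 8, 3, 2, 1, 0, 4, 3],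
    [7, 6, 5, 4, 3, 2, 1, 0, 8, 3, 2, 4, 3, 9, 8, 3, 2, 1, 4, 3, 5],
    [7, 6, 5, 4, 3, 2, 1, 0, 8, 3, 2, 4, 3, 9, 8, 3, 2, 4, 5, 6, 7],
    [7, 6, 5, 4, 3, 2, 1, 0, 8, 3, 2, 4, 5, 6, 7, 9, 8, 3, 2, 1, 4],
    [7, 6, 5, 4, 3, 2, 1, 0, 8, 3, 2, 4, 5, 6, 7, 9, 8, 3, 4, 5, 6],
    [7, 6, 5, 4, 3, 2, 1, 0, 8, 3, 2, 4, 5, 6, 9, 8, 3, 2, 1, 0, 4],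
    [7, 6, 5, 4, 3, 2, 1, 0, 8, 3, 2, 4, 5, 6, 9, 8, 3, 2, 4, 5, 6],
    [7, 6, 5, 4, 3, 2, 1, 0, 8, 3, 2, 4, 5, 6, 9, 8, 3, 4, 5, 6, 7],
    [7, 6, 5, 4, 3, 2, 1, 0, 8, 3, 2, 4, 5, 9, 8, 3, 2, 1, 4, 3, 5],
    [7, 6, 5, 4, 3, 2, 1, 0, 8, 3, 2, 4, 5, 9, 8, 3, 2, 1, 4, 3, 8],
    [7, 6, 5, 4, 3, 2, 1, 0, 8, 3, 2, 4, 5, 9, 8, 3, 2, 4, 3, 5, 6],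
    [7, 6, 5, 4, 3, 2, 1, 0, 8, 3, 4, 5, 6, 9, 8, 3, 2, 1, 0, 4, 3],
    [7, 6, 5, 4, 3, 2, 1, 0, 8, 3, 4, 5, 6, 9, 8, 3, 2, 4, 3, 5, 8],
    [7, 6, 5, 4, 3, 2, 1, 0, 8, 3, 4, 5, 6, 9, 8, 3, 2, 4, 3, 8, 9],
    [7, 6, 5, 4, 3, 2, 1, 0, 8, 3, 4, 5, 9, 8, 3, 2, 1, 4, 3, 2, 8],
    [7, 6, 5, 4, 3, 2, 1, 8, 3, 2, 4, 3, 5, 4, 6, 5, 7, 8, 3, 2, 1],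
    [7, 6, 5, 4, 3, 2, 1, 8, 3, 2, 4, 3, 5, 4, 6, 5, 7, 8, 9, 8, 3],
    [7, 6, 5, 4, 3, 2, 1, 8, 3, 2, 4, 3, 5, 4, 6, 5, 7, 9, 8, 3, 4],
    [7, 6, 5, 4, 3, 2, 1, 8, 3, 2, 4, 3, 5, 4, 6, 5, 8, 3, 2, 4, 3],
    [7, 6, 5, 4, 3, 2, 1, 8, 3, 2, 4, 3, 5, 4, 6, 5, 8, 9, 8, 3, 2],
    [7, 6, 5, 4, 3, 2, 1, 8, 3, 2, 4, 3, 5, 4, 6, 5, 9, 8, 3, 4, 5],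
    [7, 6, 5, 4, 3, 2, 1, 8, 3, 2, 4, 3, 5, 4, 6, 7, 8, 9, 8, 3, 2],
    [7, 6, 5, 4, 3, 2, 1, 8, 3, 2, 4, 3, 5, 4, 6, 7, 8, 9, 8, 3, 4],
    [7, 6, 5, 4, 3, 2, 1, 8, 3, 2, 4, 3, 5, 4, 6, 8, 3, 9, 8, 3, 4],
    [7, 6, 5, 4, 3, 2, 1, 8, 3, 2, 4, 3, 5, 4, 6, 9, 8, 3, 2, 1, 4],
    [7, 6, 5, 4, 3, 2, 1, 8, 3, 2, 4, 3, 5, 4, 6, 9, 8, 3, 2, 4, 3],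
    [7, 6, 5, 4, 3, 2, 1, 8, 3, 2, 4, 3, 5, 4, 8, 3, 9, 8, 3, 4, 5],
    [7, 6, 5, 4, 3, 2, 1, 8, 3, 2, 4, 3, 5, 4, 8, 9, 8, 3, 4, 5, 6],
    [7, 6, 5, 4, 3, 2, 1, 8, 3, 2, 4, 3, 5, 4, 9, 8, 3, 2, 1, 4, 3],
    [7, 6, 5, 4, 3, 2, 1, 8, 3, 2, 4, 3, 5, 4, 9, 8, 3, 2, 1, 4, 5],
    [7, 6, 5, 4, 3, 2, 1, 8, 3, 2, 4, 3, 5, 4, 9, 8, 3, 2, 4, 5, 6],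
    [7, 6, 5, 4, 3, 2, 1, 8, 3, 2, 4, 3, 5, 4, 9, 8, 3, 4, 5, 6, 7],
    [7, 6, 5, 4, 3, 2, 1, 8, 3, 2, 4, 3, 5, 6, 7, 9, 8, 3, 2, 1, 0],
    [7, 6, 5, 4, 3, 2, 1, 8, 3, 2, 4, 3, 5, 6, 7, 9, 8, 3, 2, 1, 4],
    [7, 6, 5, 4, 3, 2, 1, 8, 3, 2, 4, 3, 5, 6, 8, 9, 8, 3, 2, 4, 3],
    [7, 6, 5, 4, 3, 2, 1, 8, 3, 2, 4, 3, 5, 6, 8, 9, 8, 3, 4, 5, 6],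
    [7, 6, 5, 4, 3, 2, 1, 8, 3, 2, 4, 3, 5, 6, 9, 8, 3, 2, 1, 4, 3],
    [7, 6, 5, 4, 3, 2, 1, 8, 3, 2, 4, 3, 5, 8, 9, 8, 3, 2, 1, 0, 4],
    [7, 6, 5, 4, 3, 2, 1, 8, 3, 2, 4, 3, 5, 8, 9, 8, 3, 4, 5, 6, 7],
    [7, 6, 5, 4, 3, 2, 1, 8, 3, 2, 4, 3, 5, 9, 8, 3, 2, 4, 3, 5, 8],
    [7, 6, 5, 4, 3, 2, 1, 8, 3, 2, 4, 3, 8, 9, 8, 3, 2, 1, 0, 4, 3],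
    [7, 6, 5, 4, 3, 2, 1, 8, 3, 2, 4, 3, 9, 8, 3, 2, 1, 0, 4, 3, 2],
    [7, 6, 5, 4, 3, 2, 1, 8, 3, 2, 4, 3, 9, 8, 3, 2, 1, 0, 4, 5, 6],
    [7, 6, 5, 4, 3, 2, 1, 8, 3, 2, 4, 3, 9, 8, 3, 2, 1, 4, 3, 5, 4],
    [7, 6, 5, 4, 3, 2, 1, 8, 3, 2, 4, 5, 6, 7, 9, 8, 3, 2, 1, 4, 5],
    [7, 6, 5, 4, 3, 2, 1, 8, 3, 2, 4, 5, 6, 9, 8, 3, 2, 4, 3, 5, 4],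
    [7, 6, 5, 4, 3, 2, 1, 8, 3, 2, 4, 5, 9, 8, 3, 2, 1, 4, 5, 6, 7],
    [7, 6, 5, 4, 3, 2, 1, 8, 3, 4, 5, 6, 7, 9, 8, 3, 2, 1, 0, 4, 3],
    [7, 6, 5, 4, 3, 2, 1, 0, 8, 3, 2, 1, 4, 3, 2, 5, 4, 3, 6, 7, 9, 8],
    [7, 6, 5, 4, 3, 2, 1, 0, 8, 3, 2, 1, 4, 3, 2, 5, 4, 3, 6, 9, 8, 3],
    [7, 6, 5, 4, 3, 2, 1, 0, 8, 3, 2, 1, 4, 3, 2, 5, 4, 3, 9, 8, 3, 2],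
    [7, 6, 5, 4, 3, 2, 1, 0, 8, 3, 2, 1, 4, 3, 2, 5, 4, 3, 9, 8, 3, 4],
    [7, 6, 5, 4, 3, 2, 1, 0, 8, 3, 2, 1, 4, 3, 2, 5, 4, 6, 5, 7, 9, 8],
    [7, 6, 5, 4, 3, 2, 1, 0, 8, 3, 2, 1, 4, 3, 2, 5, 4, 6, 5, 8, 9, 8],
    [7, 6, 5, 4, 3, 2, 1, 0, 8, 3, 2, 1, 4, 3, 2, 5, 4, 6, 7, 9, 8, 3],
    [7, 6, 5, 4, 3, 2, 1, 0, 8, 3, 2, 1, 4, 3, 2, 5, 4, 6, 9, 8, 3, 2],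
    [7, 6, 5, 4, 3, 2, 1, 0, 8, 3, 2, 1, 4, 3, 2, 5, 4, 8, 9, 8, 3, 4],
    [7, 6, 5, 4, 3, 2, 1, 0, 8, 3, 2, 1, 4, 3, 2, 5, 4, 9, 8, 3, 4, 5],
    [7, 6, 5, 4, 3, 2, 1, 0, 8, 3, 2, 1, 4, 3, 2, 5, 6, 7, 8, 3, 9, 8],
    [7, 6, 5, 4, 3, 2, 1, 0, 8, 3, 2, 1, 4, 3, 2, 5, 6, 8, 3, 9, 8, 3],
    [7, 6, 5, 4, 3, 2, 1, 0, 8, 3, 2, 1, 4, 3, 2, 5, 6, 8, 9, 8, 3, 4],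
    [7, 6, 5, 4, 3, 2, 1, 0, 8, 3, 2, 1, 4, 3, 2, 5, 8, 3, 9, 8, 3, 2],
    [7, 6, 5, 4, 3, 2, 1, 0, 8, 3, 2, 1, 4, 3, 2, 5, 8, 9, 8, 3, 4, 5],
    [7, 6, 5, 4, 3, 2, 1, 0, 8, 3, 2, 1, 4, 3, 2, 5, 9, 8, 3, 2, 1, 0],
    [7, 6, 5, 4, 3, 2, 1, 0, 8, 3, 2, 1, 4, 3, 2, 5, 9, 8, 3, 2, 1, 4],
    [7, 6, 5, 4, 3, 2, 1, 0, 8, 3, 2, 1, 4, 3, 2, 5, 9, 8, 3, 4, 5, 6],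
    [7, 6, 5, 4, 3, 2, 1, 0, 8, 3, 2, 1, 4, 3, 2, 8, 3, 4, 9, 8, 3, 4],
    [7, 6, 5, 4, 3, 2, 1, 0, 8, 3, 2, 1, 4, 3, 2, 8, 9, 8, 3, 2, 1, 4],
    [7, 6, 5, 4, 3, 2, 1, 0, 8, 3, 2, 1, 4, 3, 2, 9, 8, 3, 2, 1, 0, 4],
    [7, 6, 5, 4, 3, 2, 1, 0, 8, 3, 2, 1, 4, 3, 2, 9, 8, 3, 2, 1, 4, 3],
    [7, 6, 5, 4, 3, 2, 1, 0, 8, 3, 2, 1, 4, 3, 2, 9, 8, 3, 2, 1, 4, 5],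
    [7, 6, 5, 4, 3, 2, 1, 0, 8, 3, 2, 1, 4, 3, 2, 9, 8, 3, 2, 4, 3, 8],
    [7, 6, 5, 4, 3, 2, 1, 0, 8, 3, 2, 1, 4, 3, 2, 9, 8, 3, 2, 4, 5, 6],
    [7, 6, 5, 4, 3, 2, 1, 0, 8, 3, 2, 1, 4, 3, 2, 9, 8, 3, 4, 5, 6, 7],
    [7, 6, 5, 4, 3, 2, 1, 0, 8, 3, 2, 1, 4, 3, 5, 4, 6, 5, 7, 9, 8, 3],
    [7, 6, 5, 4, 3, 2, 1, 0, 8, 3, 2, 1, 4, 3, 5, 4, 6, 5, 9, 8, 3, 2],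
    [7, 6, 5, 4, 3, 2, 1, 0, 8, 3, 2, 1, 4, 3, 5, 4, 6, 5, 9, 8, 3, 4],
    [7, 6, 5, 4, 3, 2, 1, 0, 8, 3, 2, 1, 4, 3, 5, 4, 6, 8, 9, 8, 3, 2],
    [7, 6, 5, 4, 3, 2, 1, 0, 8, 3, 2, 1, 4, 3, 5, 4, 9, 8, 3, 2, 1, 4],
    [7, 6, 5, 4, 3, 2, 1, 0, 8, 3, 2, 1, 4, 3, 5, 6, 7, 8, 9, 8, 3, 2],
    [7, 6, 5, 4, 3, 2, 1, 0, 8, 3, 2, 1, 4, 3, 5, 6, 9, 8, 3, 2, 1, 0],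
    [7, 6, 5, 4, 3, 2, 1, 0, 8, 3, 2, 1, 4, 3, 5, 6, 9, 8, 3, 2, 1, 4],
    [7, 6, 5, 4, 3, 2, 1, 0, 8, 3, 2, 1, 4, 3, 5, 6, 9, 8, 3, 2, 4, 3],
    [7, 6, 5, 4, 3, 2, 1, 0, 8, 3, 2, 1, 4, 3, 5, 8, 9, 8, 3, 2, 1, 0],
    [7, 6, 5, 4, 3, 2, 1, 0, 8, 3, 2, 1, 4, 3, 5, 8, 9, 8, 3, 2, 1, 4],
    [7, 6, 5, 4, 3, 2, 1, 0, 8, 3, 2, 1, 4, 3, 5, 8, 9, 8, 3, 2, 4, 3],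
    [7, 6, 5, 4, 3, 2, 1, 0, 8, 3, 2, 1, 4, 3, 5, 9, 8, 3, 2, 1, 4, 3],
    [7, 6, 5, 4, 3, 2, 1, 0, 8, 3, 2, 1, 4, 3, 5, 9, 8, 3, 4, 5, 6, 7],
    [7, 6, 5, 4, 3, 2, 1, 0, 8, 3, 2, 1, 4, 3, 8, 9, 8, 3, 2, 1, 0, 4],
    [7, 6, 5, 4, 3, 2, 1, 0, 8, 3, 2, 1, 4, 3, 8, 9, 8, 3, 2, 4, 3, 5],
    [7, 6, 5, 4, 3, 2, 1, 0, 8, 3, 2, 1, 4, 3, 8, 9, 8, 3, 2, 4, 3, 8],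
    [7, 6, 5, 4, 3, 2, 1, 0, 8, 3, 2, 1, 4, 3, 8, 9, 8, 3, 2, 4, 5, 6],
    [7, 6, 5, 4, 3, 2, 1, 0, 8, 3, 2, 1, 4, 3, 8, 9, 8, 3, 4, 5, 6, 7],
    [7, 6, 5, 4, 3, 2, 1, 0, 8, 3, 2, 1, 4, 3, 9, 8, 3, 2, 1, 0, 4, 3],
    [7, 6, 5, 4, 3, 2, 1, 0, 8, 3, 2, 1, 4, 3, 9, 8, 3, 2, 1, 4, 3, 2],
    [7, 6, 5, 4, 3, 2, 1, 0, 8, 3, 2, 1, 4, 3, 9, 8, 3, 2, 4, 3, 5, 8],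
    [7, 6, 5, 4, 3, 2, 1, 0, 8, 3, 2, 1, 4, 5, 6, 7, 9, 8, 3, 2, 4, 3],
    [7, 6, 5, 4, 3, 2, 1, 0, 8, 3, 2, 1, 4, 5, 6, 7, 9, 8, 3, 2, 4, 5],
    [7, 6, 5, 4, 3, 2, 1, 0, 8, 3, 2, 1, 4, 5, 6, 9, 8, 3, 2, 4, 3, 5],
    [7, 6, 5, 4, 3, 2, 1, 0, 8, 3, 2, 1, 4, 5, 6, 9, 8, 3, 4, 5, 6, 7],
    [7, 6, 5, 4, 3, 2, 1, 0, 8, 3, 2, 1, 4, 5, 9, 8, 3, 2, 1, 4, 3, 2],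
    [7, 6, 5, 4, 3, 2, 1, 0, 8, 3, 2, 1, 4, 5, 9, 8, 3, 2, 1, 4, 3, 5],
    [7, 6, 5, 4, 3, 2, 1, 0, 8, 3, 2, 1, 4, 5, 9, 8, 3, 2, 4, 3, 5, 8],
    [7, 6, 5, 4, 3, 2, 1, 0, 8, 3, 2, 1, 4, 5, 9, 8, 3, 2, 4, 5, 6, 7],
    [7, 6, 5, 4, 3, 2, 1, 0, 8, 3, 2, 1, 4, 9, 8, 3, 2, 1, 4, 3, 5, 4],
    [7, 6, 5, 4, 3, 2, 1, 0, 8, 3, 2, 1, 9, 8, 3, 2, 4, 3, 5, 4, 6, 5],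
    [7, 6, 5, 4, 3, 2, 1, 0, 8, 3, 2, 1, 9, 8, 3, 2, 4, 3, 5, 4, 6, 7],
    [7, 6, 5, 4, 3, 2, 1, 0, 8, 3, 2, 1, 9, 8, 3, 2, 4, 3, 5, 4, 6, 8],
    [7, 6, 5, 4, 3, 2, 1, 0, 8, 3, 2, 1, 9, 8, 3, 2, 4, 3, 5, 4, 8, 3],
    [7, 6, 5, 4, 3, 2, 1, 0, 8, 3, 2, 1, 9, 8, 3, 2, 4, 3, 5, 6, 7, 8],
    [7, 6, 5, 4, 3, 2, 1, 0, 8, 3, 2, 4, 3, 5, 4, 6, 5, 7, 9, 8, 3, 2],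
    [7, 6, 5, 4, 3, 2, 1, 0, 8, 3, 2, 4, 3, 5, 4, 6, 5, 8, 3, 9, 8, 3],
    [7, 6, 5, 4, 3, 2, 1, 0, 8, 3, 2, 4, 3, 5, 4, 6, 8, 3, 9, 8, 3, 4],
    [7, 6, 5, 4, 3, 2, 1, 0, 8, 3, 2, 4, 3, 5, 4, 8, 9, 8, 3, 2, 4, 3],
    [7, 6, 5, 4, 3, 2, 1, 0, 8, 3, 2, 4, 3, 5, 4, 8, 9, 8, 3, 4, 5, 6]]

/-- A part of the representatives. -/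
def repsU_5 : List (List ℕ) :=
  [[7, 6, 5, 4, 3, 2, 1, 0, 8, 3, 2, 4, 3, 5, 4, 9, 8, 3, 2, 1, 4, 5],
    [7, 6, 5, 4, 3, 2, 1, 0, 8, 3, 2, 4, 3, 5, 4, 9, 8, 3, 2, 4, 3, 5],
    [7, 6, 5, 4, 3, 2, 1, 0, 8, 3, 2, 4, 3, 5, 6, 8, 9, 8, 3, 2, 1, 4],
    [7, 6, 5, 4, 3, 2, 1, 0, 8, 3, 2, 4, 3, 5, 6, 9, 8, 3, 2, 1, 4, 3],
    [7, 6, 5, 4, 3, 2, 1, 0, 8, 3, 2, 4, 3, 5, 6, 9, 8, 3, 2, 4, 3, 8],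
    [7, 6, 5, 4, 3, 2, 1, 0, 8, 3, 2, 4, 3, 5, 6, 9, 8, 3, 4, 5, 6, 7],
    [7, 6, 5, 4, 3, 2, 1, 0, 8, 3, 2, 4, 3, 5, 8, 9, 8, 3, 2, 1, 4, 3],
    [7, 6, 5, 4, 3, 2, 1, 0, 8, 3, 2, 4, 3, 5, 8, 9, 8, 3, 4, 5, 6, 7],
    [7, 6, 5, 4, 3, 2, 1, 0, 8, 3, 2, 4, 3, 5, 9, 8, 3, 2, 4, 3, 5, 4],
    [7, 6, 5, 4, 3, 2, 1, 0, 8, 3, 2, 4, 3, 5, 9, 8, 3, 2, 4, 3, 5, 8],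
    [7, 6, 5, 4, 3, 2, 1, 0, 8, 3, 2, 4, 3, 8, 9, 8, 3, 2, 1, 0, 4, 3],
    [7, 6, 5, 4, 3, 2, 1, 0, 8, 3, 2, 4, 3, 8, 9, 8, 3, 2, 4, 5, 6, 7],
    [7, 6, 5, 4, 3, 2, 1, 0, 8, 3, 2, 4, 3, 9, 8, 3, 2, 1, 0, 4, 3, 2],
    [7, 6, 5, 4, 3, 2, 1, 0, 8, 3, 2, 4, 3, 9, 8, 3, 2, 1, 4, 3, 5, 4],
    [7, 6, 5, 4, 3, 2, 1, 0, 8, 3, 2, 4, 5, 6, 7, 9, 8, 3, 2, 1, 4, 5],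
    [7, 6, 5, 4, 3, 2, 1, 0, 8, 3, 2, 4, 5, 6, 7, 9, 8, 3, 2, 4, 5, 6],
    [7, 6, 5, 4, 3, 2, 1, 0, 8, 3, 2, 4, 5, 6, 9, 8, 3, 2, 4, 3, 5, 6],
    [7, 6, 5, 4, 3, 2, 1, 0, 8, 3, 2, 4, 5, 6, 9, 8, 3, 2, 4, 3, 8, 9],
    [7, 6, 5, 4, 3, 2, 1, 0, 8, 3, 2, 4, 5, 6, 9, 8, 3, 2, 4, 5, 6, 7],
    [7, 6, 5, 4, 3, 2, 1, 0, 8, 3, 2, 4, 5, 9, 8, 3, 2, 1, 4, 3, 2, 5],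
    [7, 6, 5, 4, 3, 2, 1, 0, 8, 3, 2, 4, 5, 9, 8, 3, 2, 1, 4, 5, 6, 7],
    [7, 6, 5, 4, 3, 2, 1, 0, 8, 3, 4, 5, 6, 9, 8, 3, 2, 1, 4, 3, 2, 5],
    [7, 6, 5, 4, 3, 2, 1, 0, 8, 3, 4, 5, 6, 9, 8, 3, 2, 1, 4, 3, 2, 8],
    [7, 6, 5, 4, 3, 2, 1, 8, 3, 2, 4, 3, 5, 4, 6, 5, 7, 6, 9, 8, 3, 4],
    [7, 6, 5, 4, 3, 2, 1, 8, 3, 2, 4, 3, 5, 4, 6, 5, 7, 8, 9, 8, 3, 2],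
    [7, 6, 5, 4, 3, 2, 1, 8, 3, 2, 4, 3, 5, 4, 6, 5, 9, 8, 3, 2, 1, 4],
    [7, 6, 5, 4, 3, 2, 1, 8, 3, 2, 4, 3, 5, 4, 6, 7, 9, 8, 3, 2, 1, 4],
    [7, 6, 5, 4, 3, 2, 1, 8, 3, 2, 4, 3, 5, 4, 6, 8, 3, 9, 8, 3, 4, 5],
    [7, 6, 5, 4, 3, 2, 1, 8, 3, 2, 4, 3, 5, 4, 6, 9, 8, 3, 2, 1, 4, 5],
    [7, 6, 5, 4, 3, 2, 1, 8, 3, 2, 4, 3, 5, 4, 6, 9, 8, 3, 2, 4, 3, 5],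
    [7, 6, 5, 4, 3, 2, 1, 8, 3, 2, 4, 3, 5, 4, 8, 9, 8, 3, 4, 5, 6, 7],
    [7, 6, 5, 4, 3, 2, 1, 8, 3, 2, 4, 3, 5, 4, 9, 8, 3, 2, 1, 4, 3, 5],
    [7, 6, 5, 4, 3, 2, 1, 8, 3, 2, 4, 3, 5, 6, 7, 8, 9, 8, 3, 2, 1, 4],
    [7, 6, 5, 4, 3, 2, 1, 8, 3, 2, 4, 3, 5, 6, 7, 8, 9, 8, 3, 2, 4, 3],
    [7, 6, 5, 4, 3, 2, 1, 8, 3, 2, 4, 3, 5, 6, 7, 9, 8, 3, 2, 1, 4, 3],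
    [7, 6, 5, 4, 3, 2, 1, 8, 3, 2, 4, 3, 5, 6, 7, 9, 8, 3, 4, 5, 6, 7],
    [7, 6, 5, 4, 3, 2, 1, 8, 3, 2, 4, 3, 5, 6, 8, 9, 8, 3, 2, 1, 0, 4],
    [7, 6, 5, 4, 3, 2, 1, 8, 3, 2, 4, 3, 5, 6, 9, 8, 3, 2, 1, 4, 3, 5],
    [7, 6, 5, 4, 3, 2, 1, 8, 3, 2, 4, 3, 5, 8, 9, 8, 3, 2, 1, 4, 3, 5],
    [7, 6, 5, 4, 3, 2, 1, 8, 3, 2, 4, 3, 8, 9, 8, 3, 2, 4, 3, 5, 6, 8],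
    [7, 6, 5, 4, 3, 2, 1, 8, 3, 2, 4, 5, 6, 7, 9, 8, 3, 2, 4, 3, 5, 4],
    [7, 6, 5, 4, 3, 2, 1, 8, 3, 2, 4, 5, 6, 9, 8, 3, 2, 1, 4, 5, 6, 7],
    [7, 6, 5, 4, 3, 2, 1, 8, 3, 2, 4, 5, 6, 9, 8, 3, 2, 4, 3, 5, 6, 7],
    [7, 6, 5, 4, 3, 2, 1, 8, 3, 2, 4, 5, 9, 8, 3, 2, 1, 0, 4, 3, 5, 6],
    [7, 6, 5, 4, 3, 2, 1, 8, 3, 4, 5, 6, 7, 9, 8, 3, 2, 4, 3, 5, 4, 6],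
    [7, 6, 5, 4, 3, 2, 1, 0, 8, 3, 2, 1, 4, 3, 2, 5, 4, 3, 6, 5, 9, 8, 3],
    [7, 6, 5, 4, 3, 2, 1, 0, 8, 3, 2, 1, 4, 3, 2, 5, 4, 3, 6, 9, 8, 3, 2],
    [7, 6, 5, 4, 3, 2, 1, 0, 8, 3, 2, 1, 4, 3, 2, 5, 4, 3, 9, 8, 3, 2, 1],
    [7, 6, 5, 4, 3, 2, 1, 0, 8, 3, 2, 1, 4, 3, 2, 5, 4, 6, 5, 7, 6, 9, 8],
    [7, 6, 5, 4, 3, 2, 1, 0, 8, 3, 2, 1, 4, 3, 2, 5, 4, 6, 5, 9, 8, 3, 2],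
    [7, 6, 5, 4, 3, 2, 1, 0, 8, 3, 2, 1, 4, 3, 2, 5, 4, 6, 5, 9, 8, 3, 4],
    [7, 6, 5, 4, 3, 2, 1, 0, 8, 3, 2, 1, 4, 3, 2, 5, 4, 6, 7, 8, 9, 8, 3],
    [7, 6, 5, 4, 3, 2, 1, 0, 8, 3, 2, 1, 4, 3, 2, 5, 4, 6, 7, 9, 8, 3, 2],
    [7, 6, 5, 4, 3, 2, 1, 0, 8, 3, 2, 1, 4, 3, 2, 5, 4, 6, 7, 9, 8, 3, 4],
    [7, 6, 5, 4, 3, 2, 1, 0, 8, 3, 2, 1, 4, 3, 2, 5, 4, 6, 8, 9, 8, 3, 2],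
    [7, 6, 5, 4, 3, 2, 1, 0, 8, 3, 2, 1, 4, 3, 2, 5, 4, 6, 9, 8, 3, 4, 5],
    [7, 6, 5, 4, 3, 2, 1, 0, 8, 3, 2, 1, 4, 3, 2, 5, 4, 9, 8, 3, 2, 1, 0],
    [7, 6, 5, 4, 3, 2, 1, 0, 8, 3, 2, 1, 4, 3, 2, 5, 4, 9, 8, 3, 2, 1, 4],
    [7, 6, 5, 4, 3, 2, 1, 0, 8, 3, 2, 1, 4, 3, 2, 5, 4, 9, 8, 3, 2, 4, 3],
    [7, 6, 5, 4, 3, 2, 1, 0, 8, 3, 2, 1, 4, 3, 2, 5, 4, 9, 8, 3, 2, 4, 5],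
    [7, 6, 5, 4, 3, 2, 1, 0, 8, 3, 2, 1, 4, 3, 2, 5, 4, 9, 8, 3, 4, 5, 6],
    [7, 6, 5, 4, 3, 2, 1, 0, 8, 3, 2, 1, 4, 3, 2, 5, 6, 7, 8, 9, 8, 3, 2],
    [7, 6, 5, 4, 3, 2, 1, 0, 8, 3, 2, 1, 4, 3, 2, 5, 6, 7, 9, 8, 3, 4, 5],
    [7, 6, 5, 4, 3, 2, 1, 0, 8, 3, 2, 1, 4, 3, 2, 5, 6, 8, 3, 9, 8, 3, 4],
    [7, 6, 5, 4, 3, 2, 1, 0, 8, 3, 2, 1, 4, 3, 2, 5, 6, 8, 9, 8, 3, 4, 5],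
    [7, 6, 5, 4, 3, 2, 1, 0, 8, 3, 2, 1, 4, 3, 2, 5, 6, 9, 8, 3, 2, 1, 4],
    [7, 6, 5, 4, 3, 2, 1, 0, 8, 3, 2, 1, 4, 3, 2, 5, 6, 9, 8, 3, 2, 4, 3],
    [7, 6, 5, 4, 3, 2, 1, 0, 8, 3, 2, 1, 4, 3, 2, 5, 8, 3, 9, 8, 3, 4, 5],
    [7, 6, 5, 4, 3, 2, 1, 0, 8, 3, 2, 1, 4, 3, 2, 5, 8, 9, 8, 3, 4, 5, 6],
    [7, 6, 5, 4, 3, 2, 1, 0, 8, 3, 2, 1, 4, 3, 2, 5, 9, 8, 3, 2, 1, 4, 3],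
    [7, 6, 5, 4, 3, 2, 1, 0, 8, 3, 2, 1, 4, 3, 2, 5, 9, 8, 3, 2, 4, 3, 8],
    [7, 6, 5, 4, 3, 2, 1, 0, 8, 3, 2, 1, 4, 3, 2, 5, 9, 8, 3, 2, 4, 5, 6],
    [7, 6, 5, 4, 3, 2, 1, 0, 8, 3, 2, 1, 4, 3, 2, 5, 9, 8, 3, 4, 5, 6, 7],
    [7, 6, 5, 4, 3, 2, 1, 0, 8, 3, 2, 1, 4, 3, 2, 8, 3, 9, 8, 3, 2, 1, 0],
    [7, 6, 5, 4, 3, 2, 1, 0, 8, 3, 2, 1, 4, 3, 2, 8, 3, 9, 8, 3, 4, 5, 6],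
    [7, 6, 5, 4, 3, 2, 1, 0, 8, 3, 2, 1, 4, 3, 2, 8, 9, 8, 3, 2, 1, 0, 4],
    [7, 6, 5, 4, 3, 2, 1, 0, 8, 3, 2, 1, 4, 3, 2, 8, 9, 8, 3, 2, 4, 5, 6],
    [7, 6, 5, 4, 3, 2, 1, 0, 8, 3, 2, 1, 4, 3, 2, 8, 9, 8, 3, 4, 5, 6, 7],
    [7, 6, 5, 4, 3, 2, 1, 0, 8, 3, 2, 1, 4, 3, 2, 9, 8, 3, 2, 1, 4, 3, 5],
    [7, 6, 5, 4, 3, 2, 1, 0, 8, 3, 2, 1, 4, 3, 2, 9, 8, 3, 2, 4, 5, 6, 7],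
    [7, 6, 5, 4, 3, 2, 1, 0, 8, 3, 2, 1, 4, 3, 5, 4, 6, 5, 7, 9, 8, 3, 2],
    [7, 6, 5, 4, 3, 2, 1, 0, 8, 3, 2, 1, 4, 3, 5, 4, 6, 5, 8, 9, 8, 3, 2],
    [7, 6, 5, 4, 3, 2, 1, 0, 8, 3, 2, 1, 4, 3, 5, 4, 6, 9, 8, 3, 2, 1, 0],
    [7, 6, 5, 4, 3, 2, 1, 0, 8, 3, 2, 1, 4, 3, 5, 4, 6, 9, 8, 3, 2, 4, 3],
    [7, 6, 5, 4, 3, 2, 1, 0, 8, 3, 2, 1, 4, 3, 5, 4, 9, 8, 3, 2, 1, 4, 3],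
    [7, 6, 5, 4, 3, 2, 1, 0, 8, 3, 2, 1, 4, 3, 5, 4, 9, 8, 3, 2, 4, 3, 8],
    [7, 6, 5, 4, 3, 2, 1, 0, 8, 3, 2, 1, 4, 3, 5, 4, 9, 8, 3, 2, 4, 5, 6],
    [7, 6, 5, 4, 3, 2, 1, 0, 8, 3, 2, 1, 4, 3, 5, 6, 8, 9, 8, 3, 2, 1, 4],
    [7, 6, 5, 4, 3, 2, 1, 0, 8, 3, 2, 1, 4, 3, 5, 6, 8, 9, 8, 3, 2, 4, 3],
    [7, 6, 5, 4, 3, 2, 1, 0, 8, 3, 2, 1, 4, 3, 5, 6, 9, 8, 3, 2, 1, 4, 3],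
    [7, 6, 5, 4, 3, 2, 1, 0, 8, 3, 2, 1, 4, 3, 5, 6, 9, 8, 3, 4, 5, 6, 7],
    [7, 6, 5, 4, 3, 2, 1, 0, 8, 3, 2, 1, 4, 3, 5, 8, 9, 8, 3, 2, 1, 4, 3],
    [7, 6, 5, 4, 3, 2, 1, 0, 8, 3, 2, 1, 4, 3, 5, 8, 9, 8, 3, 2, 4, 3, 8],
    [7, 6, 5, 4, 3, 2, 1, 0, 8, 3, 2, 1, 4, 3, 5, 8, 9, 8, 3, 2, 4, 5, 6],
    [7, 6, 5, 4, 3, 2, 1, 0, 8, 3, 2, 1, 4, 3, 5, 9, 8, 3, 2, 1, 0, 4, 3],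
    [7, 6, 5, 4, 3, 2, 1, 0, 8, 3, 2, 1, 4, 3, 5, 9, 8, 3, 2, 1, 4, 3, 2],
    [7, 6, 5, 4, 3, 2, 1, 0, 8, 3, 2, 1, 4, 3, 5, 9, 8, 3, 2, 4, 3, 5, 4],
    [7, 6, 5, 4, 3, 2, 1, 0, 8, 3, 2, 1, 4, 3, 5, 9, 8, 3, 2, 4, 3, 5, 8],
    [7, 6, 5, 4, 3, 2, 1, 0, 8, 3, 2, 1, 4, 3, 5, 9, 8, 3, 2, 4, 3, 8, 9],
    [7, 6, 5, 4, 3, 2, 1, 0, 8, 3, 2, 1, 4, 3, 8, 9, 8, 3, 2, 1, 4, 3, 8],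
    [7, 6, 5, 4, 3, 2, 1, 0, 8, 3, 2, 1, 4, 3, 8, 9, 8, 3, 2, 4, 3, 5, 8],
    [7, 6, 5, 4, 3, 2, 1, 0, 8, 3, 2, 1, 4, 3, 8, 9, 8, 3, 2, 4, 3, 8, 9],
    [7, 6, 5, 4, 3, 2, 1, 0, 8, 3, 2, 1, 4, 3, 9, 8, 3, 2, 1, 0, 4, 3, 2],
    [7, 6, 5, 4, 3, 2, 1, 0, 8, 3, 2, 1, 4, 3, 9, 8, 3, 2, 1, 0, 4, 5, 6],
    [7, 6, 5, 4, 3, 2, 1, 0, 8, 3, 2, 1, 4, 3, 9, 8, 3, 2, 1, 4, 3, 2, 5],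
    [7, 6, 5, 4, 3, 2, 1, 0, 8, 3, 2, 1, 4, 3, 9, 8, 3, 2, 1, 4, 3, 2, 8],
    [7, 6, 5, 4, 3, 2, 1, 0, 8, 3, 2, 1, 4, 3, 9, 8, 3, 2, 4, 3, 5, 8, 9],
    [7, 6, 5, 4, 3, 2, 1, 0, 8, 3, 2, 1, 4, 5, 6, 7, 9, 8, 3, 2, 1, 0, 4],
    [7, 6, 5, 4, 3, 2, 1, 0, 8, 3, 2, 1, 4, 5, 6, 7, 9, 8, 3, 2, 4, 3, 5],
    [7, 6, 5, 4, 3, 2, 1, 0, 8, 3, 2, 1, 4, 5, 6, 7, 9, 8, 3, 2, 4, 5, 6],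
    [7, 6, 5, 4, 3, 2, 1, 0, 8, 3, 2, 1, 4, 5, 6, 9, 8, 3, 2, 1, 0, 4, 3],
    [7, 6, 5, 4, 3, 2, 1, 0, 8, 3, 2, 1, 4, 5, 6, 9, 8, 3, 2, 1, 0, 4, 5],
    [7, 6, 5, 4, 3, 2, 1, 0, 8, 3, 2, 1, 4, 5, 6, 9, 8, 3, 2, 4, 3, 5, 4],
    [7, 6, 5, 4, 3, 2, 1, 0, 8, 3, 2, 1, 4, 5, 6, 9, 8, 3, 2, 4, 3, 8, 9],
    [7, 6, 5, 4, 3, 2, 1, 0, 8, 3, 2, 1, 4, 5, 6, 9, 8, 3, 2, 4, 5, 6, 7],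
    [7, 6, 5, 4, 3, 2, 1, 0, 8, 3, 2, 1, 4, 5, 9, 8, 3, 2, 1, 0, 4, 3, 2],
    [7, 6, 5, 4, 3, 2, 1, 0, 8, 3, 2, 1, 4, 5, 9, 8, 3, 2, 1, 0, 4, 3, 8],
    [7, 6, 5, 4, 3, 2, 1, 0, 8, 3, 2, 1, 4, 5, 9, 8, 3, 2, 1, 4, 3, 2, 8],
    [7, 6, 5, 4, 3, 2, 1, 0, 8, 3, 2, 1, 4, 5, 9, 8, 3, 2, 4, 3, 5, 6, 8],
    [7, 6, 5, 4, 3, 2, 1, 0, 8, 3, 2, 1, 4, 9, 8, 3, 2, 1, 0, 4, 5, 6, 7],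
    [7, 6, 5, 4, 3, 2, 1, 0, 8, 3, 2, 1, 4, 9, 8, 3, 2, 1, 4, 3, 5, 6, 8],
    [7, 6, 5, 4, 3, 2, 1, 0, 8, 3, 2, 1, 4, 9, 8, 3, 2, 4, 3, 5, 4, 8, 3],
    [7, 6, 5, 4, 3, 2, 1, 0, 8, 3, 2, 1, 9, 8, 3, 2, 4, 3, 5, 4, 6, 5, 7],
    [7, 6, 5, 4, 3, 2, 1, 0, 8, 3, 2, 1, 9, 8, 3, 2, 4, 3, 5, 4, 6, 5, 8],
    [7, 6, 5, 4, 3, 2, 1, 0, 8, 3, 2, 1, 9, 8, 3, 2, 4, 3, 5, 6, 7, 8, 9],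
    [7, 6, 5, 4, 3, 2, 1, 0, 8, 3, 2, 4, 3, 5, 4, 6, 7, 8, 3, 9, 8, 3, 4],
    [7, 6, 5, 4, 3, 2, 1, 0, 8, 3, 2, 4, 3, 5, 4, 8, 9, 8, 3, 4, 5, 6, 7],
    [7, 6, 5, 4, 3, 2, 1, 0, 8, 3, 2, 4, 3, 5, 6, 7, 9, 8, 3, 2, 1, 4, 5]]

/-- A part of the representatives. -/
def repsU_6 : List (List ℕ) :=
  [[7, 6, 5, 4, 3, 2, 1, 0, 8, 3, 2, 4, 3, 5, 6, 7, 9, 8, 3, 4, 5, 6, 7],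
    [7, 6, 5, 4, 3, 2, 1, 0, 8, 3, 2, 4, 3, 5, 6, 8, 9, 8, 3, 2, 4, 3, 8],
    [7, 6, 5, 4, 3, 2, 1, 0, 8, 3, 2, 4, 3, 5, 6, 8, 9, 8, 3, 4, 5, 6, 7],
    [7, 6, 5, 4, 3, 2, 1, 0, 8, 3, 2, 4, 3, 5, 8, 9, 8, 3, 2, 4, 3, 5, 8],
    [7, 6, 5, 4, 3, 2, 1, 0, 8, 3, 2, 4, 3, 5, 8, 9, 8, 3, 2, 4, 3, 8, 9],
    [7, 6, 5, 4, 3, 2, 1, 0, 8, 3, 2, 4, 3, 5, 9, 8, 3, 2, 1, 0, 4, 5, 6],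
    [7, 6, 5, 4, 3, 2, 1, 0, 8, 3, 2, 4, 3, 5, 9, 8, 3, 2, 4, 3, 5, 4, 6],
    [7, 6, 5, 4, 3, 2, 1, 0, 8, 3, 2, 4, 3, 8, 9, 8, 3, 2, 1, 0, 4, 3, 2],
    [7, 6, 5, 4, 3, 2, 1, 0, 8, 3, 2, 4, 3, 8, 9, 8, 3, 2, 1, 4, 3, 2, 5],
    [7, 6, 5, 4, 3, 2, 1, 0, 8, 3, 2, 4, 3, 8, 9, 8, 3, 2, 1, 4, 3, 2, 8],
    [7, 6, 5, 4, 3, 2, 1, 0, 8, 3, 2, 4, 3, 8, 9, 8, 3, 2, 4, 3, 5, 4, 6],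
    [7, 6, 5, 4, 3, 2, 1, 0, 8, 3, 2, 4, 3, 9, 8, 3, 2, 1, 0, 4, 3, 2, 1],
    [7, 6, 5, 4, 3, 2, 1, 0, 8, 3, 2, 4, 3, 9, 8, 3, 2, 1, 0, 4, 3, 2, 5],
    [7, 6, 5, 4, 3, 2, 1, 0, 8, 3, 2, 4, 5, 6, 9, 8, 3, 2, 1, 4, 3, 2, 8],
    [7, 6, 5, 4, 3, 2, 1, 0, 8, 3, 2, 4, 5, 6, 9, 8, 3, 2, 4, 3, 5, 4, 6],
    [7, 6, 5, 4, 3, 2, 1, 0, 8, 3, 4, 5, 6, 7, 9, 8, 3, 2, 1, 4, 3, 2, 5],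
    [7, 6, 5, 4, 3, 2, 1, 0, 8, 3, 4, 5, 6, 7, 9, 8, 3, 2, 1, 4, 3, 2, 8],
    [7, 6, 5, 4, 3, 2, 1, 0, 8, 3, 4, 5, 6, 9, 8, 3, 2, 1, 4, 3, 2, 5, 4],
    [7, 6, 5, 4, 3, 2, 1, 8, 3, 2, 4, 3, 5, 4, 6, 5, 7, 6, 8, 9, 8, 3, 2],
    [7, 6, 5, 4, 3, 2, 1, 8, 3, 2, 4, 3, 5, 4, 6, 5, 7, 6, 9, 8, 3, 4, 5],
    [7, 6, 5, 4, 3, 2, 1, 8, 3, 2, 4, 3, 5, 4, 6, 5, 7, 9, 8, 3, 2, 1, 4],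
    [7, 6, 5, 4, 3, 2, 1, 8, 3, 2, 4, 3, 5, 4, 6, 5, 8, 3, 9, 8, 3, 4, 5],
    [7, 6, 5, 4, 3, 2, 1, 8, 3, 2, 4, 3, 5, 4, 6, 7, 8, 3, 9, 8, 3, 4, 5],
    [7, 6, 5, 4, 3, 2, 1, 8, 3, 2, 4, 3, 5, 4, 6, 8, 9, 8, 3, 2, 4, 5, 6],
    [7, 6, 5, 4, 3, 2, 1, 8, 3, 2, 4, 3, 5, 4, 6, 9, 8, 3, 2, 4, 3, 5, 8],
    [7, 6, 5, 4, 3, 2, 1, 8, 3, 2, 4, 3, 5, 4, 6, 9, 8, 3, 2, 4, 5, 6, 7],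
    [7, 6, 5, 4, 3, 2, 1, 8, 3, 2, 4, 3, 5, 4, 9, 8, 3, 2, 4, 3, 5, 4, 6],
    [7, 6, 5, 4, 3, 2, 1, 8, 3, 2, 4, 3, 5, 8, 9, 8, 3, 2, 1, 4, 5, 6, 7],
    [7, 6, 5, 4, 3, 2, 1, 8, 3, 2, 4, 3, 5, 8, 9, 8, 3, 2, 4, 3, 5, 6, 7],
    [7, 6, 5, 4, 3, 2, 1, 8, 3, 2, 4, 3, 8, 9, 8, 3, 2, 4, 3, 5, 4, 6, 7],
    [7, 6, 5, 4, 3, 2, 1, 8, 3, 4, 5, 6, 7, 9, 8, 3, 2, 1, 0, 4, 3, 5, 6],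
    [7, 6, 5, 4, 3, 2, 1, 8, 3, 4, 5, 6, 7, 9, 8, 3, 2, 4, 3, 5, 4, 6, 5],
    [7, 6, 5, 4, 3, 2, 1, 0, 8, 3, 2, 1, 4, 3, 2, 5, 4, 3, 6, 7, 9, 8, 3, 2],
    [7, 6, 5, 4, 3, 2, 1, 0, 8, 3, 2, 1, 4, 3, 2, 5, 4, 3, 6, 7, 9, 8, 3, 4],
    [7, 6, 5, 4, 3, 2, 1, 0, 8, 3, 2, 1, 4, 3, 2, 5, 4, 3, 9, 8, 3, 4, 5, 6],
    [7, 6, 5, 4, 3, 2, 1, 0, 8, 3, 2, 1, 4, 3, 2, 5, 4, 6, 5, 7, 8, 9, 8, 3],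
    [7, 6, 5, 4, 3, 2, 1, 0, 8, 3, 2, 1, 4, 3, 2, 5, 4, 6, 5, 9, 8, 3, 4, 5],
    [7, 6, 5, 4, 3, 2, 1, 0, 8, 3, 2, 1, 4, 3, 2, 5, 4, 6, 7, 8, 9, 8, 3, 2],
    [7, 6, 5, 4, 3, 2, 1, 0, 8, 3, 2, 1, 4, 3, 2, 5, 4, 6, 8, 9, 8, 3, 4, 5],
    [7, 6, 5, 4, 3, 2, 1, 0, 8, 3, 2, 1, 4, 3, 2, 5, 4, 9, 8, 3, 2, 1, 4, 3],
    [7, 6, 5, 4, 3, 2, 1, 0, 8, 3, 2, 1, 4, 3, 2, 5, 4, 9, 8, 3, 2, 1, 4, 5],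
    [7, 6, 5, 4, 3, 2, 1, 0, 8, 3, 2, 1, 4, 3, 2, 5, 4, 9, 8, 3, 2, 4, 5, 6],
    [7, 6, 5, 4, 3, 2, 1, 0, 8, 3, 2, 1, 4, 3, 2, 5, 4, 9, 8, 3, 4, 5, 6, 7],
    [7, 6, 5, 4, 3, 2, 1, 0, 8, 3, 2, 1, 4, 3, 2, 5, 6, 7, 9, 8, 3, 2, 4, 3],
    [7, 6, 5, 4, 3, 2, 1, 0, 8, 3, 2, 1, 4, 3, 2, 5, 6, 7, 9, 8, 3, 4, 5, 6],
    [7, 6, 5, 4, 3, 2, 1, 0, 8, 3, 2, 1, 4, 3, 2, 5, 6, 8, 3, 9, 8, 3, 4, 5],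
    [7, 6, 5, 4, 3, 2, 1, 0, 8, 3, 2, 1, 4, 3, 2, 5, 6, 8, 9, 8, 3, 2, 1, 4],
    [7, 6, 5, 4, 3, 2, 1, 0, 8, 3, 2, 1, 4, 3, 2, 5, 6, 8, 9, 8, 3, 4, 5, 6],
    [7, 6, 5, 4, 3, 2, 1, 0, 8, 3, 2, 1, 4, 3, 2, 5, 6, 9, 8, 3, 2, 1, 4, 3],
    [7, 6, 5, 4, 3, 2, 1, 0, 8, 3, 2, 1, 4, 3, 2, 5, 6, 9, 8, 3, 2, 1, 4, 5],
    [7, 6, 5, 4, 3, 2, 1, 0, 8, 3, 2, 1, 4, 3, 2, 5, 6, 9, 8, 3, 2, 4, 3, 5],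
    [7, 6, 5, 4, 3, 2, 1, 0, 8, 3, 2, 1, 4, 3, 2, 5, 6, 9, 8, 3, 2, 4, 3, 8],
    [7, 6, 5, 4, 3, 2, 1, 0, 8, 3, 2, 1, 4, 3, 2, 5, 6, 9, 8, 3, 4, 5, 6, 7],
    [7, 6, 5, 4, 3, 2, 1, 0, 8, 3, 2, 1, 4, 3, 2, 5, 8, 3, 9, 8, 3, 4, 5, 6],
    [7, 6, 5, 4, 3, 2, 1, 0, 8, 3, 2, 1, 4, 3, 2, 5, 8, 9, 8, 3, 2, 4, 3, 5],
    [7, 6, 5, 4, 3, 2, 1, 0, 8, 3, 2, 1, 4, 3, 2, 5, 8, 9, 8, 3, 2, 4, 5, 6],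
    [7, 6, 5, 4, 3, 2, 1, 0, 8, 3, 2, 1, 4, 3, 2, 5, 8, 9, 8, 3, 4, 5, 6, 7],
    [7, 6, 5, 4, 3, 2, 1, 0, 8, 3, 2, 1, 4, 3, 2, 5, 9, 8, 3, 2, 1, 0, 4, 3],
    [7, 6, 5, 4, 3, 2, 1, 0, 8, 3, 2, 1, 4, 3, 2, 5, 9, 8, 3, 2, 1, 0, 4, 5],
    [7, 6, 5, 4, 3, 2, 1, 0, 8, 3, 2, 1, 4, 3, 2, 5, 9, 8, 3, 2, 1, 4, 3, 5],
    [7, 6, 5, 4, 3, 2, 1, 0, 8, 3, 2, 1, 4, 3, 2, 5, 9, 8, 3, 2, 4, 3, 5, 4],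
    [7, 6, 5, 4, 3, 2, 1, 0, 8, 3, 2, 1, 4, 3, 2, 5, 9, 8, 3, 2, 4, 3, 5, 6],
    [7, 6, 5, 4, 3, 2, 1, 0, 8, 3, 2, 1, 4, 3, 2, 5, 9, 8, 3, 2, 4, 3, 5, 8],
    [7, 6, 5, 4, 3, 2, 1, 0, 8, 3, 2, 1, 4, 3, 2, 5, 9, 8, 3, 2, 4, 3, 8, 9],
    [7, 6, 5, 4, 3, 2, 1, 0, 8, 3, 2, 1, 4, 3, 2, 8, 3, 9, 8, 3, 2, 4, 3, 8],
    [7, 6, 5, 4, 3, 2, 1, 0, 8, 3, 2, 1, 4, 3, 2, 8, 9, 8, 3, 2, 4, 5, 6, 7],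
    [7, 6, 5, 4, 3, 2, 1, 0, 8, 3, 2, 1, 4, 3, 2, 9, 8, 3, 2, 1, 0, 4, 3, 2],
    [7, 6, 5, 4, 3, 2, 1, 0, 8, 3, 2, 1, 4, 3, 2, 9, 8, 3, 2, 1, 4, 3, 2, 8],
    [7, 6, 5, 4, 3, 2, 1, 0, 8, 3, 2, 1, 4, 3, 2, 9, 8, 3, 2, 1, 4, 5, 6, 7],
    [7, 6, 5, 4, 3, 2, 1, 0, 8, 3, 2, 1, 4, 3, 2, 9, 8, 3, 2, 4, 3, 5, 4, 6],
    [7, 6, 5, 4, 3, 2, 1, 0, 8, 3, 2, 1, 4, 3, 5, 4, 6, 5, 7, 6, 9, 8, 3, 2],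
    [7, 6, 5, 4, 3, 2, 1, 0, 8, 3, 2, 1, 4, 3, 5, 4, 6, 5, 7, 8, 9, 8, 3, 2],
    [7, 6, 5, 4, 3, 2, 1, 0, 8, 3, 2, 1, 4, 3, 5, 4, 6, 5, 9, 8, 3, 2, 1, 4],
    [7, 6, 5, 4, 3, 2, 1, 0, 8, 3, 2, 1, 4, 3, 5, 4, 6, 8, 9, 8, 3, 2, 4, 3],
    [7, 6, 5, 4, 3, 2, 1, 0, 8, 3, 2, 1, 4, 3, 5, 4, 6, 9, 8, 3, 2, 1, 0, 4],
    [7, 6, 5, 4, 3, 2, 1, 0, 8, 3, 2, 1, 4, 3, 5, 4, 6, 9, 8, 3, 2, 1, 4, 5],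
    [7, 6, 5, 4, 3, 2, 1, 0, 8, 3, 2, 1, 4, 3, 5, 4, 6, 9, 8, 3, 2, 4, 3, 5],
    [7, 6, 5, 4, 3, 2, 1, 0, 8, 3, 2, 1, 4, 3, 5, 4, 6, 9, 8, 3, 2, 4, 3, 8],
    [7, 6, 5, 4, 3, 2, 1, 0, 8, 3, 2, 1, 4, 3, 5, 4, 6, 9, 8, 3, 2, 4, 5, 6],
    [7, 6, 5, 4, 3, 2, 1, 0, 8, 3, 2, 1, 4, 3, 5, 4, 8, 9, 8, 3, 2, 1, 4, 3],
    [7, 6, 5, 4, 3, 2, 1, 0, 8, 3, 2, 1, 4, 3, 5, 4, 8, 9, 8, 3, 4, 5, 6, 7],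
    [7, 6, 5, 4, 3, 2, 1, 0, 8, 3, 2, 1, 4, 3, 5, 4, 9, 8, 3, 2, 1, 0, 4, 3],
    [7, 6, 5, 4, 3, 2, 1, 0, 8, 3, 2, 1, 4, 3, 5, 4, 9, 8, 3, 2, 4, 5, 6, 7],
    [7, 6, 5, 4, 3, 2, 1, 0, 8, 3, 2, 1, 4, 3, 5, 6, 7, 9, 8, 3, 2, 1, 4, 3],
    [7, 6, 5, 4, 3, 2, 1, 0, 8, 3, 2, 1, 4, 3, 5, 6, 8, 9, 8, 3, 2, 1, 0, 4],
    [7, 6, 5, 4, 3, 2, 1, 0, 8, 3, 2, 1, 4, 3, 5, 6, 8, 9, 8, 3, 2, 1, 4, 5],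
    [7, 6, 5, 4, 3, 2, 1, 0, 8, 3, 2, 1, 4, 3, 5, 6, 9, 8, 3, 2, 4, 3, 8, 9],
    [7, 6, 5, 4, 3, 2, 1, 0, 8, 3, 2, 1, 4, 3, 5, 8, 9, 8, 3, 2, 1, 4, 3, 5],
    [7, 6, 5, 4, 3, 2, 1, 0, 8, 3, 2, 1, 4, 3, 5, 8, 9, 8, 3, 2, 1, 4, 3, 8],
    [7, 6, 5, 4, 3, 2, 1, 0, 8, 3, 2, 1, 4, 3, 5, 8, 9, 8, 3, 2, 4, 3, 5, 8],
    [7, 6, 5, 4, 3, 2, 1, 0, 8, 3, 2, 1, 4, 3, 5, 8, 9, 8, 3, 2, 4, 5, 6, 7],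
    [7, 6, 5, 4, 3, 2, 1, 0, 8, 3, 2, 1, 4, 3, 5, 9, 8, 3, 2, 1, 4, 3, 2, 8],
    [7, 6, 5, 4, 3, 2, 1, 0, 8, 3, 2, 1, 4, 3, 5, 9, 8, 3, 2, 4, 3, 5, 6, 8],
    [7, 6, 5, 4, 3, 2, 1, 0, 8, 3, 2, 1, 4, 3, 5, 9, 8, 3, 2, 4, 3, 5, 8, 9],
    [7, 6, 5, 4, 3, 2, 1, 0, 8, 3, 2, 1, 4, 3, 9, 8, 3, 2, 4, 3, 5, 4, 6, 7],
    [7, 6, 5, 4, 3, 2, 1, 0, 8, 3, 2, 1, 4, 3, 9, 8, 3, 2, 4, 3, 5, 4, 8, 3],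
    [7, 6, 5, 4, 3, 2, 1, 0, 8, 3, 2, 1, 4, 5, 6, 7, 9, 8, 3, 2, 1, 4, 3, 2],
    [7, 6, 5, 4, 3, 2, 1, 0, 8, 3, 2, 1, 4, 5, 6, 7, 9, 8, 3, 2, 4, 5, 6, 7],
    [7, 6, 5, 4, 3, 2, 1, 0, 8, 3, 2, 1, 4, 5, 6, 9, 8, 3, 2, 1, 4, 3, 5, 8],
    [7, 6, 5, 4, 3, 2, 1, 0, 8, 3, 2, 1, 4, 5, 6, 9, 8, 3, 2, 1, 4, 3, 8, 9],
    [7, 6, 5, 4, 3, 2, 1, 0, 8, 3, 2, 1, 4, 5, 6, 9, 8, 3, 2, 4, 3, 5, 6, 8],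
    [7, 6, 5, 4, 3, 2, 1, 0, 8, 3, 2, 1, 4, 5, 9, 8, 3, 2, 1, 0, 4, 3, 8, 9],
    [7, 6, 5, 4, 3, 2, 1, 0, 8, 3, 2, 1, 4, 5, 9, 8, 3, 2, 1, 4, 3, 2, 5, 8],
    [7, 6, 5, 4, 3, 2, 1, 0, 8, 3, 2, 1, 4, 5, 9, 8, 3, 2, 1, 4, 3, 2, 8, 9],
    [7, 6, 5, 4, 3, 2, 1, 0, 8, 3, 2, 1, 4, 5, 9, 8, 3, 2, 4, 3, 5, 4, 6, 5],
    [7, 6, 5, 4, 3, 2, 1, 0, 8, 3, 2, 1, 4, 5, 9, 8, 3, 2, 4, 3, 5, 4, 8, 9],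
    [7, 6, 5, 4, 3, 2, 1, 0, 8, 3, 2, 1, 4, 5, 9, 8, 3, 2, 4, 3, 5, 6, 8, 9],
    [7, 6, 5, 4, 3, 2, 1, 0, 8, 3, 2, 1, 4, 9, 8, 3, 2, 1, 0, 4, 3, 5, 8, 9],
    [7, 6, 5, 4, 3, 2, 1, 0, 8, 3, 2, 1, 4, 9, 8, 3, 2, 1, 4, 3, 5, 6, 7, 8],
    [7, 6, 5, 4, 3, 2, 1, 0, 8, 3, 2, 1, 4, 9, 8, 3, 2, 4, 3, 5, 4, 8, 3, 9],
    [7, 6, 5, 4, 3, 2, 1, 0, 8, 3, 2, 1, 9, 8, 3, 2, 4, 3, 5, 4, 6, 5, 7, 8],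
    [7, 6, 5, 4, 3, 2, 1, 0, 8, 3, 2, 1, 9, 8, 3, 2, 4, 3, 5, 4, 6, 5, 8, 9],
    [7, 6, 5, 4, 3, 2, 1, 0, 8, 3, 2, 1, 9, 8, 3, 2, 4, 3, 5, 4, 8, 3, 2, 1],
    [7, 6, 5, 4, 3, 2, 1, 0, 8, 3, 2, 1, 9, 8, 3, 2, 4, 3, 5, 4, 8, 3, 2, 9],
    [7, 6, 5, 4, 3, 2, 1, 0, 8, 3, 2, 4, 3, 5, 4, 6, 5, 7, 8, 3, 4, 9, 8, 3],
    [7, 6, 5, 4, 3, 2, 1, 0, 8, 3, 2, 4, 3, 5, 4, 6, 5, 9, 8, 3, 2, 1, 4, 3],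
    [7, 6, 5, 4, 3, 2, 1, 0, 8, 3, 2, 4, 3, 5, 4, 9, 8, 3, 2, 1, 0, 4, 3, 8],
    [7, 6, 5, 4, 3, 2, 1, 0, 8, 3, 2, 4, 3, 5, 4, 9, 8, 3, 2, 1, 4, 3, 2, 5],
    [7, 6, 5, 4, 3, 2, 1, 0, 8, 3, 2, 4, 3, 5, 4, 9, 8, 3, 2, 1, 4, 3, 2, 8],
    [7, 6, 5, 4, 3, 2, 1, 0, 8, 3, 2, 4, 3, 5, 4, 9, 8, 3, 2, 4, 3, 5, 6, 8],
    [7, 6, 5, 4, 3, 2, 1, 0, 8, 3, 2, 4, 3, 5, 4, 9, 8, 3, 2, 4, 3, 5, 8, 9],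
    [7, 6, 5, 4, 3, 2, 1, 0, 8, 3, 2, 4, 3, 5, 6, 8, 9, 8, 3, 2, 1, 0, 4, 5],
    [7, 6, 5, 4, 3, 2, 1, 0, 8, 3, 2, 4, 3, 5, 6, 8, 9, 8, 3, 2, 1, 4, 3, 8],
    [7, 6, 5, 4, 3, 2, 1, 0, 8, 3, 2, 4, 3, 5, 6, 9, 8, 3, 2, 1, 0, 4, 5, 6],
    [7, 6, 5, 4, 3, 2, 1, 0, 8, 3, 2, 4, 3, 5, 6, 9, 8, 3, 2, 1, 4, 3, 2, 8],
    [7, 6, 5, 4, 3, 2, 1, 0, 8, 3, 2, 4, 3, 5, 8, 9, 8, 3, 2, 1, 0, 4, 3, 2],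
    [7, 6, 5, 4, 3, 2, 1, 0, 8, 3, 2, 4, 3, 5, 8, 9, 8, 3, 2, 1, 4, 3, 2, 5],
    [7, 6, 5, 4, 3, 2, 1, 0, 8, 3, 2, 4, 3, 5, 8, 9, 8, 3, 2, 4, 3, 5, 8, 9]]

/-- A part of the representatives. -/
def repsU_7 : List (List ℕ) :=
  [[7, 6, 5, 4, 3, 2, 1, 0, 8, 3, 2, 4, 5, 6, 7, 9, 8, 3, 2, 1, 4, 3, 2, 8],
    [7, 6, 5, 4, 3, 2, 1, 0, 8, 3, 2, 4, 5, 6, 7, 9, 8, 3, 2, 1, 4, 3, 5, 8],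
    [7, 6, 5, 4, 3, 2, 1, 0, 8, 3, 2, 4, 5, 6, 9, 8, 3, 2, 1, 0, 4, 3, 2, 5],
    [7, 6, 5, 4, 3, 2, 1, 0, 8, 3, 2, 4, 5, 6, 9, 8, 3, 2, 1, 4, 3, 2, 5, 4],
    [7, 6, 5, 4, 3, 2, 1, 0, 8, 3, 2, 4, 5, 6, 9, 8, 3, 2, 1, 4, 3, 2, 5, 6],
    [7, 6, 5, 4, 3, 2, 1, 0, 8, 3, 2, 4, 5, 6, 9, 8, 3, 2, 4, 3, 5, 6, 7, 8],
    [7, 6, 5, 4, 3, 2, 1, 0, 8, 3, 2, 4, 5, 9, 8, 3, 2, 1, 4, 3, 2, 8, 3, 4],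
    [7, 6, 5, 4, 3, 2, 1, 0, 8, 3, 4, 5, 6, 7, 9, 8, 3, 2, 1, 4, 3, 2, 5, 8],
    [7, 6, 5, 4, 3, 2, 1, 0, 8, 3, 4, 5, 6, 9, 8, 3, 2, 1, 4, 3, 2, 5, 4, 3],
    [7, 6, 5, 4, 3, 2, 1, 0, 8, 3, 4, 5, 9, 8, 3, 2, 1, 4, 3, 2, 8, 3, 4, 5],
    [7, 6, 5, 4, 3, 2, 1, 8, 3, 2, 4, 3, 5, 4, 6, 5, 7, 8, 3, 9, 8, 3, 4, 5],
    [7, 6, 5, 4, 3, 2, 1, 8, 3, 2, 4, 3, 5, 4, 6, 8, 9, 8, 3, 2, 4, 5, 6, 7],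
    [7, 6, 5, 4, 3, 2, 1, 8, 3, 2, 4, 3, 5, 6, 8, 9, 8, 3, 2, 1, 0, 4, 5, 6],
    [7, 6, 5, 4, 3, 2, 1, 8, 3, 2, 4, 3, 5, 6, 8, 9, 8, 3, 2, 1, 4, 5, 6, 7],
    [7, 6, 5, 4, 3, 2, 1, 8, 3, 2, 4, 3, 5, 6, 8, 9, 8, 3, 2, 4, 3, 5, 6, 7],
    [7, 6, 5, 4, 3, 2, 1, 8, 3, 2, 4, 3, 5, 6, 9, 8, 3, 2, 1, 0, 4, 3, 5, 6],
    [7, 6, 5, 4, 3, 2, 1, 8, 3, 2, 4, 3, 8, 9, 8, 3, 2, 4, 3, 5, 4, 6, 5, 7],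
    [7, 6, 5, 4, 3, 2, 1, 0, 8, 3, 2, 1, 4, 3, 2, 5, 4, 3, 6, 5, 7, 9, 8, 3, 2],
    [7, 6, 5, 4, 3, 2, 1, 0, 8, 3, 2, 1, 4, 3, 2, 5, 4, 3, 6, 9, 8, 3, 2, 1, 0],
    [7, 6, 5, 4, 3, 2, 1, 0, 8, 3, 2, 1, 4, 3, 2, 5, 4, 6, 5, 9, 8, 3, 2, 1, 4],
    [7, 6, 5, 4, 3, 2, 1, 0, 8, 3, 2, 1, 4, 3, 2, 5, 4, 6, 8, 9, 8, 3, 2, 1, 4],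
    [7, 6, 5, 4, 3, 2, 1, 0, 8, 3, 2, 1, 4, 3, 2, 5, 4, 6, 8, 9, 8, 3, 2, 4, 3],
    [7, 6, 5, 4, 3, 2, 1, 0, 8, 3, 2, 1, 4, 3, 2, 5, 4, 8, 9, 8, 3, 2, 1, 4, 5],
    [7, 6, 5, 4, 3, 2, 1, 0, 8, 3, 2, 1, 4, 3, 2, 5, 4, 8, 9, 8, 3, 4, 5, 6, 7],
    [7, 6, 5, 4, 3, 2, 1, 0, 8, 3, 2, 1, 4, 3, 2, 5, 4, 9, 8, 3, 2, 1, 0, 4, 5],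
    [7, 6, 5, 4, 3, 2, 1, 0, 8, 3, 2, 1, 4, 3, 2, 5, 4, 9, 8, 3, 2, 1, 4, 3, 5],
    [7, 6, 5, 4, 3, 2, 1, 0, 8, 3, 2, 1, 4, 3, 2, 5, 4, 9, 8, 3, 2, 4, 3, 8, 9],
    [7, 6, 5, 4, 3, 2, 1, 0, 8, 3, 2, 1, 4, 3, 2, 5, 6, 7, 8, 3, 9, 8, 3, 4, 5],
    [7, 6, 5, 4, 3, 2, 1, 0, 8, 3, 2, 1, 4, 3, 2, 5, 6, 7, 9, 8, 3, 2, 1, 4, 3],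
    [7, 6, 5, 4, 3, 2, 1, 0, 8, 3, 2, 1, 4, 3, 2, 5, 6, 7, 9, 8, 3, 2, 4, 3, 8],
    [7, 6, 5, 4, 3, 2, 1, 0, 8, 3, 2, 1, 4, 3, 2, 5, 6, 8, 3, 9, 8, 3, 2, 4, 3],
    [7, 6, 5, 4, 3, 2, 1, 0, 8, 3, 2, 1, 4, 3, 2, 5, 6, 8, 3, 9, 8, 3, 4, 5, 6],
    [7, 6, 5, 4, 3, 2, 1, 0, 8, 3, 2, 1, 4, 3, 2, 5, 6, 8, 9, 8, 3, 2, 1, 0, 4],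
    [7, 6, 5, 4, 3, 2, 1, 0, 8, 3, 2, 1, 4, 3, 2, 5, 6, 8, 9, 8, 3, 2, 1, 4, 3],
    [7, 6, 5, 4, 3, 2, 1, 0, 8, 3, 2, 1, 4, 3, 2, 5, 6, 8, 9, 8, 3, 2, 4, 3, 8],
    [7, 6, 5, 4, 3, 2, 1, 0, 8, 3, 2, 1, 4, 3, 2, 5, 6, 8, 9, 8, 3, 4, 5, 6, 7],
    [7, 6, 5, 4, 3, 2, 1, 0, 8, 3, 2, 1, 4, 3, 2, 5, 6, 9, 8, 3, 2, 1, 0, 4, 3],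
    [7, 6, 5, 4, 3, 2, 1, 0, 8, 3, 2, 1, 4, 3, 2, 5, 8, 9, 8, 3, 2, 1, 0, 4, 3],
    [7, 6, 5, 4, 3, 2, 1, 0, 8, 3, 2, 1, 4, 3, 2, 5, 8, 9, 8, 3, 2, 4, 3, 5, 8],
    [7, 6, 5, 4, 3, 2, 1, 0, 8, 3, 2, 1, 4, 3, 2, 5, 9, 8, 3, 2, 1, 0, 4, 5, 6],
    [7, 6, 5, 4, 3, 2, 1, 0, 8, 3, 2, 1, 4, 3, 2, 5, 9, 8, 3, 2, 4, 3, 5, 6, 7],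
    [7, 6, 5, 4, 3, 2, 1, 0, 8, 3, 2, 1, 4, 3, 2, 5, 9, 8, 3, 2, 4, 3, 5, 8, 9],
    [7, 6, 5, 4, 3, 2, 1, 0, 8, 3, 2, 1, 4, 3, 2, 8, 9, 8, 3, 2, 1, 0, 4, 3, 5],
    [7, 6, 5, 4, 3, 2, 1, 0, 8, 3, 2, 1, 4, 3, 2, 9, 8, 3, 2, 1, 0, 4, 3, 5, 6],
    [7, 6, 5, 4, 3, 2, 1, 0, 8, 3, 2, 1, 4, 3, 2, 9, 8, 3, 2, 1, 0, 4, 3, 5, 8],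
    [7, 6, 5, 4, 3, 2, 1, 0, 8, 3, 2, 1, 4, 3, 2, 9, 8, 3, 2, 4, 3, 5, 4, 8, 3],
    [7, 6, 5, 4, 3, 2, 1, 0, 8, 3, 2, 1, 4, 3, 5, 4, 6, 5, 9, 8, 3, 2, 4, 3, 5],
    [7, 6, 5, 4, 3, 2, 1, 0, 8, 3, 2, 1, 4, 3, 5, 4, 6, 9, 8, 3, 2, 1, 0, 4, 3],
    [7, 6, 5, 4, 3, 2, 1, 0, 8, 3, 2, 1, 4, 3, 5, 4, 6, 9, 8, 3, 2, 4, 3, 5, 8],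
    [7, 6, 5, 4, 3, 2, 1, 0, 8, 3, 2, 1, 4, 3, 5, 4, 6, 9, 8, 3, 2, 4, 3, 8, 9],
    [7, 6, 5, 4, 3, 2, 1, 0, 8, 3, 2, 1, 4, 3, 5, 4, 8, 9, 8, 3, 2, 1, 4, 3, 8],
    [7, 6, 5, 4, 3, 2, 1, 0, 8, 3, 2, 1, 4, 3, 5, 4, 8, 9, 8, 3, 2, 4, 3, 8, 9],
    [7, 6, 5, 4, 3, 2, 1, 0, 8, 3, 2, 1, 4, 3, 5, 4, 8, 9, 8, 3, 2, 4, 5, 6, 7],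
    [7, 6, 5, 4, 3, 2, 1, 0, 8, 3, 2, 1, 4, 3, 5, 4, 9, 8, 3, 2, 1, 0, 4, 3, 5],
    [7, 6, 5, 4, 3, 2, 1, 0, 8, 3, 2, 1, 4, 3, 5, 4, 9, 8, 3, 2, 1, 0, 4, 5, 6],
    [7, 6, 5, 4, 3, 2, 1, 0, 8, 3, 2, 1, 4, 3, 5, 4, 9, 8, 3, 2, 1, 4, 3, 5, 4],
    [7, 6, 5, 4, 3, 2, 1, 0, 8, 3, 2, 1, 4, 3, 5, 4, 9, 8, 3, 2, 1, 4, 3, 8, 9],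
    [7, 6, 5, 4, 3, 2, 1, 0, 8, 3, 2, 1, 4, 3, 5, 4, 9, 8, 3, 2, 4, 3, 5, 8, 9],
    [7, 6, 5, 4, 3, 2, 1, 0, 8, 3, 2, 1, 4, 3, 5, 6, 7, 8, 9, 8, 3, 2, 4, 5, 6],
    [7, 6, 5, 4, 3, 2, 1, 0, 8, 3, 2, 1, 4, 3, 5, 6, 7, 9, 8, 3, 2, 1, 4, 3, 5],
    [7, 6, 5, 4, 3, 2, 1, 0, 8, 3, 2, 1, 4, 3, 5, 6, 7, 9, 8, 3, 2, 4, 3, 8, 9],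
    [7, 6, 5, 4, 3, 2, 1, 0, 8, 3, 2, 1, 4, 3, 5, 6, 8, 9, 8, 3, 2, 1, 0, 4, 3],
    [7, 6, 5, 4, 3, 2, 1, 0, 8, 3, 2, 1, 4, 3, 5, 6, 8, 9, 8, 3, 2, 1, 4, 3, 8],
    [7, 6, 5, 4, 3, 2, 1, 0, 8, 3, 2, 1, 4, 3, 5, 6, 8, 9, 8, 3, 2, 4, 3, 5, 8],
    [7, 6, 5, 4, 3, 2, 1, 0, 8, 3, 2, 1, 4, 3, 5, 6, 9, 8, 3, 2, 4, 3, 5, 8, 9],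
    [7, 6, 5, 4, 3, 2, 1, 0, 8, 3, 2, 1, 4, 3, 5, 8, 9, 8, 3, 2, 1, 0, 4, 5, 6],
    [7, 6, 5, 4, 3, 2, 1, 0, 8, 3, 2, 1, 4, 3, 5, 9, 8, 3, 2, 1, 0, 4, 3, 2, 1],
    [7, 6, 5, 4, 3, 2, 1, 0, 8, 3, 2, 1, 4, 3, 5, 9, 8, 3, 2, 4, 3, 5, 4, 6, 5],
    [7, 6, 5, 4, 3, 2, 1, 0, 8, 3, 2, 1, 4, 3, 5, 9, 8, 3, 2, 4, 3, 5, 4, 6, 7],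
    [7, 6, 5, 4, 3, 2, 1, 0, 8, 3, 2, 1, 4, 3, 8, 9, 8, 3, 2, 1, 4, 3, 5, 6, 8],
    [7, 6, 5, 4, 3, 2, 1, 0, 8, 3, 2, 1, 4, 3, 8, 9, 8, 3, 2, 4, 3, 5, 4, 8, 3],
    [7, 6, 5, 4, 3, 2, 1, 0, 8, 3, 2, 1, 4, 3, 9, 8, 3, 2, 1, 0, 4, 3, 5, 6, 7],
    [7, 6, 5, 4, 3, 2, 1, 0, 8, 3, 2, 1, 4, 3, 9, 8, 3, 2, 1, 4, 3, 2, 5, 4, 3],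
    [7, 6, 5, 4, 3, 2, 1, 0, 8, 3, 2, 1, 4, 3, 9, 8, 3, 2, 1, 4, 3, 2, 5, 4, 6],
    [7, 6, 5, 4, 3, 2, 1, 0, 8, 3, 2, 1, 4, 3, 9, 8, 3, 2, 1, 4, 3, 5, 4, 6, 7],
    [7, 6, 5, 4, 3, 2, 1, 0, 8, 3, 2, 1, 4, 3, 9, 8, 3, 2, 1, 4, 3, 5, 4, 8, 3],
    [7, 6, 5, 4, 3, 2, 1, 0, 8, 3, 2, 1, 4, 3, 9, 8, 3, 2, 4, 3, 5, 4, 6, 8, 3],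
    [7, 6, 5, 4, 3, 2, 1, 0, 8, 3, 2, 1, 4, 5, 6, 7, 9, 8, 3, 2, 1, 4, 3, 8, 9],
    [7, 6, 5, 4, 3, 2, 1, 0, 8, 3, 2, 1, 4, 5, 6, 9, 8, 3, 2, 1, 0, 4, 3, 5, 4],
    [7, 6, 5, 4, 3, 2, 1, 0, 8, 3, 2, 1, 4, 5, 6, 9, 8, 3, 2, 1, 0, 4, 3, 5, 8],
    [7, 6, 5, 4, 3, 2, 1, 0, 8, 3, 2, 1, 4, 5, 6, 9, 8, 3, 2, 1, 0, 4, 3, 8, 9],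
    [7, 6, 5, 4, 3, 2, 1, 0, 8, 3, 2, 1, 4, 5, 6, 9, 8, 3, 2, 1, 4, 3, 2, 5, 4],
    [7, 6, 5, 4, 3, 2, 1, 0, 8, 3, 2, 1, 4, 5, 6, 9, 8, 3, 2, 1, 4, 3, 2, 5, 8],
    [7, 6, 5, 4, 3, 2, 1, 0, 8, 3, 2, 1, 4, 5, 6, 9, 8, 3, 2, 1, 4, 3, 2, 8, 9],
    [7, 6, 5, 4, 3, 2, 1, 0, 8, 3, 2, 1, 4, 5, 6, 9, 8, 3, 2, 1, 4, 3, 5, 4, 6],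
    [7, 6, 5, 4, 3, 2, 1, 0, 8, 3, 2, 1, 4, 5, 6, 9, 8, 3, 2, 4, 3, 5, 6, 8, 9],
    [7, 6, 5, 4, 3, 2, 1, 0, 8, 3, 2, 1, 4, 5, 9, 8, 3, 2, 1, 0, 4, 3, 2, 8, 9],
    [7, 6, 5, 4, 3, 2, 1, 0, 8, 3, 2, 1, 4, 5, 9, 8, 3, 2, 1, 0, 4, 3, 5, 6, 7],
    [7, 6, 5, 4, 3, 2, 1, 0, 8, 3, 2, 1, 4, 5, 9, 8, 3, 2, 1, 0, 4, 3, 5, 8, 9],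
    [7, 6, 5, 4, 3, 2, 1, 0, 8, 3, 2, 1, 4, 5, 9, 8, 3, 2, 1, 4, 3, 2, 5, 4, 6],
    [7, 6, 5, 4, 3, 2, 1, 0, 8, 3, 2, 1, 4, 5, 9, 8, 3, 2, 1, 4, 3, 5, 4, 8, 3],
    [7, 6, 5, 4, 3, 2, 1, 0, 8, 3, 2, 1, 4, 5, 9, 8, 3, 2, 4, 3, 5, 4, 6, 5, 7],
    [7, 6, 5, 4, 3, 2, 1, 0, 8, 3, 2, 1, 4, 5, 9, 8, 3, 2, 4, 3, 5, 4, 6, 8, 9],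
    [7, 6, 5, 4, 3, 2, 1, 0, 8, 3, 2, 1, 4, 5, 9, 8, 3, 2, 4, 3, 5, 6, 7, 8, 9],
    [7, 6, 5, 4, 3, 2, 1, 0, 8, 3, 2, 1, 4, 9, 8, 3, 2, 1, 4, 3, 5, 4, 6, 8, 9],
    [7, 6, 5, 4, 3, 2, 1, 0, 8, 3, 2, 1, 9, 8, 3, 2, 4, 3, 5, 4, 6, 8, 3, 2, 1],
    [7, 6, 5, 4, 3, 2, 1, 0, 8, 3, 2, 1, 9, 8, 3, 2, 4, 3, 5, 4, 8, 3, 2, 1, 0],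
    [7, 6, 5, 4, 3, 2, 1, 0, 8, 3, 2, 4, 3, 5, 4, 9, 8, 3, 2, 1, 0, 4, 3, 2, 8],
    [7, 6, 5, 4, 3, 2, 1, 0, 8, 3, 2, 4, 3, 5, 4, 9, 8, 3, 2, 1, 4, 3, 2, 5, 4],
    [7, 6, 5, 4, 3, 2, 1, 0, 8, 3, 2, 4, 3, 5, 6, 8, 9, 8, 3, 2, 1, 0, 4, 3, 2],
    [7, 6, 5, 4, 3, 2, 1, 0, 8, 3, 2, 4, 3, 5, 6, 9, 8, 3, 2, 1, 0, 4, 3, 2, 5],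
    [7, 6, 5, 4, 3, 2, 1, 0, 8, 3, 2, 4, 3, 8, 9, 8, 3, 2, 1, 4, 3, 2, 5, 4, 6],
    [7, 6, 5, 4, 3, 2, 1, 0, 8, 3, 2, 4, 3, 9, 8, 3, 2, 1, 4, 3, 2, 5, 4, 3, 6],
    [7, 6, 5, 4, 3, 2, 1, 0, 8, 3, 2, 4, 3, 9, 8, 3, 2, 1, 4, 3, 2, 5, 4, 3, 8],
    [7, 6, 5, 4, 3, 2, 1, 0, 8, 3, 2, 4, 3, 9, 8, 3, 2, 1, 4, 3, 2, 5, 4, 6, 7],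
    [7, 6, 5, 4, 3, 2, 1, 0, 8, 3, 2, 4, 5, 6, 7, 9, 8, 3, 2, 1, 4, 3, 2, 5, 4],
    [7, 6, 5, 4, 3, 2, 1, 0, 8, 3, 2, 4, 5, 6, 9, 8, 3, 2, 1, 4, 3, 2, 5, 4, 6],
    [7, 6, 5, 4, 3, 2, 1, 0, 8, 3, 2, 4, 5, 6, 9, 8, 3, 2, 1, 4, 3, 2, 8, 3, 4],
    [7, 6, 5, 4, 3, 2, 1, 0, 8, 3, 4, 5, 6, 7, 9, 8, 3, 2, 1, 4, 3, 2, 5, 4, 3],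
    [7, 6, 5, 4, 3, 2, 1, 0, 8, 3, 4, 5, 9, 8, 3, 2, 1, 4, 3, 2, 8, 3, 4, 5, 6],
    [7, 6, 5, 4, 3, 2, 1, 0, 8, 3, 2, 1, 4, 3, 2, 5, 4, 3, 6, 9, 8, 3, 2, 4, 3, 5],
    [7, 6, 5, 4, 3, 2, 1, 0, 8, 3, 2, 1, 4, 3, 2, 5, 4, 3, 6, 9, 8, 3, 2, 4, 3, 8],
    [7, 6, 5, 4, 3, 2, 1, 0, 8, 3, 2, 1, 4, 3, 2, 5, 4, 3, 6, 9, 8, 3, 2, 4, 5, 6],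
    [7, 6, 5, 4, 3, 2, 1, 0, 8, 3, 2, 1, 4, 3, 2, 5, 4, 3, 6, 9, 8, 3, 4, 5, 6, 7],
    [7, 6, 5, 4, 3, 2, 1, 0, 8, 3, 2, 1, 4, 3, 2, 5, 4, 3, 9, 8, 3, 2, 1, 0, 4, 3],
    [7, 6, 5, 4, 3, 2, 1, 0, 8, 3, 2, 1, 4, 3, 2, 5, 4, 3, 9, 8, 3, 2, 1, 0, 4, 5],
    [7, 6, 5, 4, 3, 2, 1, 0, 8, 3, 2, 1, 4, 3, 2, 5, 4, 3, 9, 8, 3, 2, 4, 3, 5, 8],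
    [7, 6, 5, 4, 3, 2, 1, 0, 8, 3, 2, 1, 4, 3, 2, 5, 4, 6, 5, 7, 9, 8, 3, 2, 1, 4],
    [7, 6, 5, 4, 3, 2, 1, 0, 8, 3, 2, 1, 4, 3, 2, 5, 4, 6, 5, 7, 9, 8, 3, 4, 5, 6],
    [7, 6, 5, 4, 3, 2, 1, 0, 8, 3, 2, 1, 4, 3, 2, 5, 4, 6, 5, 9, 8, 3, 2, 1, 4, 5],
    [7, 6, 5, 4, 3, 2, 1, 0, 8, 3, 2, 1, 4, 3, 2, 5, 4, 6, 5, 9, 8, 3, 2, 4, 3, 5],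
    [7, 6, 5, 4, 3, 2, 1, 0, 8, 3, 2, 1, 4, 3, 2, 5, 4, 6, 7, 8, 9, 8, 3, 2, 1, 4],
    [7, 6, 5, 4, 3, 2, 1, 0, 8, 3, 2, 1, 4, 3, 2, 5, 4, 6, 7, 9, 8, 3, 2, 4, 3, 5],
    [7, 6, 5, 4, 3, 2, 1, 0, 8, 3, 2, 1, 4, 3, 2, 5, 4, 6, 8, 9, 8, 3, 2, 1, 4, 5],
    [7, 6, 5, 4, 3, 2, 1, 0, 8, 3, 2, 1, 4, 3, 2, 5, 4, 6, 8, 9, 8, 3, 2, 4, 3, 5],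
    [7, 6, 5, 4, 3, 2, 1, 0, 8, 3, 2, 1, 4, 3, 2, 5, 4, 6, 9, 8, 3, 2, 1, 0, 4, 3],
    [7, 6, 5, 4, 3, 2, 1, 0, 8, 3, 2, 1, 4, 3, 2, 5, 4, 6, 9, 8, 3, 2, 4, 3, 8, 9],
    [7, 6, 5, 4, 3, 2, 1, 0, 8, 3, 2, 1, 4, 3, 2, 5, 4, 8, 9, 8, 3, 2, 1, 4, 3, 5]]

/-- A part of the representatives. -/
def repsU_8 : List (List ℕ) :=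
  [[7, 6, 5, 4, 3, 2, 1, 0, 8, 3, 2, 1, 4, 3, 2, 5, 4, 8, 9, 8, 3, 2, 4, 3, 8, 9],
    [7, 6, 5, 4, 3, 2, 1, 0, 8, 3, 2, 1, 4, 3, 2, 5, 4, 9, 8, 3, 2, 1, 4, 3, 5, 8],
    [7, 6, 5, 4, 3, 2, 1, 0, 8, 3, 2, 1, 4, 3, 2, 5, 4, 9, 8, 3, 2, 4, 3, 5, 6, 8],
    [7, 6, 5, 4, 3, 2, 1, 0, 8, 3, 2, 1, 4, 3, 2, 5, 4, 9, 8, 3, 2, 4, 3, 5, 8, 9],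
    [7, 6, 5, 4, 3, 2, 1, 0, 8, 3, 2, 1, 4, 3, 2, 5, 6, 7, 8, 3, 9, 8, 3, 2, 1, 4],
    [7, 6, 5, 4, 3, 2, 1, 0, 8, 3, 2, 1, 4, 3, 2, 5, 6, 7, 8, 3, 9, 8, 3, 2, 4, 3],
    [7, 6, 5, 4, 3, 2, 1, 0, 8, 3, 2, 1, 4, 3, 2, 5, 6, 7, 8, 9, 8, 3, 4, 5, 6, 7],
    [7, 6, 5, 4, 3, 2, 1, 0, 8, 3, 2, 1, 4, 3, 2, 5, 6, 8, 3, 9, 8, 3, 2, 1, 4, 5],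
    [7, 6, 5, 4, 3, 2, 1, 0, 8, 3, 2, 1, 4, 3, 2, 5, 6, 8, 3, 9, 8, 3, 4, 5, 6, 7],
    [7, 6, 5, 4, 3, 2, 1, 0, 8, 3, 2, 1, 4, 3, 2, 5, 6, 8, 9, 8, 3, 2, 4, 3, 8, 9],
    [7, 6, 5, 4, 3, 2, 1, 0, 8, 3, 2, 1, 4, 3, 2, 5, 6, 9, 8, 3, 2, 1, 4, 3, 2, 8],
    [7, 6, 5, 4, 3, 2, 1, 0, 8, 3, 2, 1, 4, 3, 2, 5, 6, 9, 8, 3, 2, 1, 4, 3, 5, 8],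
    [7, 6, 5, 4, 3, 2, 1, 0, 8, 3, 2, 1, 4, 3, 2, 5, 8, 3, 9, 8, 3, 2, 4, 3, 8, 9],
    [7, 6, 5, 4, 3, 2, 1, 0, 8, 3, 2, 1, 4, 3, 2, 5, 8, 9, 8, 3, 2, 1, 0, 4, 3, 2],
    [7, 6, 5, 4, 3, 2, 1, 0, 8, 3, 2, 1, 4, 3, 2, 5, 8, 9, 8, 3, 2, 1, 0, 4, 3, 5],
    [7, 6, 5, 4, 3, 2, 1, 0, 8, 3, 2, 1, 4, 3, 2, 5, 8, 9, 8, 3, 2, 4, 3, 5, 4, 6],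
    [7, 6, 5, 4, 3, 2, 1, 0, 8, 3, 2, 1, 4, 3, 2, 5, 8, 9, 8, 3, 2, 4, 3, 5, 8, 9],
    [7, 6, 5, 4, 3, 2, 1, 0, 8, 3, 2, 1, 4, 3, 2, 5, 9, 8, 3, 2, 1, 0, 4, 3, 2, 1],
    [7, 6, 5, 4, 3, 2, 1, 0, 8, 3, 2, 1, 4, 3, 2, 5, 9, 8, 3, 2, 1, 0, 4, 3, 5, 6],
    [7, 6, 5, 4, 3, 2, 1, 0, 8, 3, 2, 1, 4, 3, 2, 5, 9, 8, 3, 2, 1, 0, 4, 3, 8, 9],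
    [7, 6, 5, 4, 3, 2, 1, 0, 8, 3, 2, 1, 4, 3, 2, 5, 9, 8, 3, 2, 1, 4, 3, 2, 5, 8],
    [7, 6, 5, 4, 3, 2, 1, 0, 8, 3, 2, 1, 4, 3, 2, 5, 9, 8, 3, 2, 4, 3, 5, 4, 8, 3],
    [7, 6, 5, 4, 3, 2, 1, 0, 8, 3, 2, 1, 4, 3, 2, 5, 9, 8, 3, 2, 4, 3, 5, 6, 8, 9],
    [7, 6, 5, 4, 3, 2, 1, 0, 8, 3, 2, 1, 4, 3, 2, 8, 9, 8, 3, 2, 4, 3, 5, 4, 6, 5],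
    [7, 6, 5, 4, 3, 2, 1, 0, 8, 3, 2, 1, 4, 3, 2, 8, 9, 8, 3, 2, 4, 3, 5, 4, 8, 3],
    [7, 6, 5, 4, 3, 2, 1, 0, 8, 3, 2, 1, 4, 3, 2, 9, 8, 3, 2, 1, 4, 3, 2, 5, 4, 3],
    [7, 6, 5, 4, 3, 2, 1, 0, 8, 3, 2, 1, 4, 3, 2, 9, 8, 3, 2, 4, 3, 5, 4, 6, 5, 7],
    [7, 6, 5, 4, 3, 2, 1, 0, 8, 3, 2, 1, 4, 3, 2, 9, 8, 3, 2, 4, 3, 5, 4, 6, 8, 3],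
    [7, 6, 5, 4, 3, 2, 1, 0, 8, 3, 2, 1, 4, 3, 2, 9, 8, 3, 2, 4, 3, 5, 4, 6, 8, 9],
    [7, 6, 5, 4, 3, 2, 1, 0, 8, 3, 2, 1, 4, 3, 2, 9, 8, 3, 2, 4, 3, 5, 4, 8, 3, 9],
    [7, 6, 5, 4, 3, 2, 1, 0, 8, 3, 2, 1, 4, 3, 5, 4, 6, 5, 7, 9, 8, 3, 2, 4, 3, 8],
    [7, 6, 5, 4, 3, 2, 1, 0, 8, 3, 2, 1, 4, 3, 5, 4, 6, 5, 9, 8, 3, 2, 1, 0, 4, 5],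
    [7, 6, 5, 4, 3, 2, 1, 0, 8, 3, 2, 1, 4, 3, 5, 4, 6, 5, 9, 8, 3, 2, 4, 3, 5, 4],
    [7, 6, 5, 4, 3, 2, 1, 0, 8, 3, 2, 1, 4, 3, 5, 4, 6, 5, 9, 8, 3, 2, 4, 3, 5, 6],
    [7, 6, 5, 4, 3, 2, 1, 0, 8, 3, 2, 1, 4, 3, 5, 4, 6, 5, 9, 8, 3, 2, 4, 3, 5, 8],
    [7, 6, 5, 4, 3, 2, 1, 0, 8, 3, 2, 1, 4, 3, 5, 4, 6, 7, 9, 8, 3, 2, 4, 3, 5, 8],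
    [7, 6, 5, 4, 3, 2, 1, 0, 8, 3, 2, 1, 4, 3, 5, 4, 6, 7, 9, 8, 3, 2, 4, 3, 8, 9],
    [7, 6, 5, 4, 3, 2, 1, 0, 8, 3, 2, 1, 4, 3, 5, 4, 6, 8, 3, 9, 8, 3, 2, 4, 3, 8],
    [7, 6, 5, 4, 3, 2, 1, 0, 8, 3, 2, 1, 4, 3, 5, 4, 8, 9, 8, 3, 2, 1, 4, 3, 5, 8],
    [7, 6, 5, 4, 3, 2, 1, 0, 8, 3, 2, 1, 4, 3, 5, 4, 9, 8, 3, 2, 1, 0, 4, 3, 5, 8],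
    [7, 6, 5, 4, 3, 2, 1, 0, 8, 3, 2, 1, 4, 3, 5, 4, 9, 8, 3, 2, 1, 0, 4, 3, 8, 9],
    [7, 6, 5, 4, 3, 2, 1, 0, 8, 3, 2, 1, 4, 3, 5, 4, 9, 8, 3, 2, 1, 4, 3, 2, 5, 8],
    [7, 6, 5, 4, 3, 2, 1, 0, 8, 3, 2, 1, 4, 3, 5, 4, 9, 8, 3, 2, 4, 3, 5, 4, 6, 7],
    [7, 6, 5, 4, 3, 2, 1, 0, 8, 3, 2, 1, 4, 3, 5, 4, 9, 8, 3, 2, 4, 3, 5, 6, 7, 8],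
    [7, 6, 5, 4, 3, 2, 1, 0, 8, 3, 2, 1, 4, 3, 5, 4, 9, 8, 3, 2, 4, 3, 5, 6, 8, 9],
    [7, 6, 5, 4, 3, 2, 1, 0, 8, 3, 2, 1, 4, 3, 5, 6, 7, 8, 9, 8, 3, 2, 1, 4, 3, 8],
    [7, 6, 5, 4, 3, 2, 1, 0, 8, 3, 2, 1, 4, 3, 5, 6, 7, 9, 8, 3, 2, 1, 4, 3, 2, 5],
    [7, 6, 5, 4, 3, 2, 1, 0, 8, 3, 2, 1, 4, 3, 5, 6, 7, 9, 8, 3, 2, 1, 4, 3, 2, 8],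
    [7, 6, 5, 4, 3, 2, 1, 0, 8, 3, 2, 1, 4, 3, 5, 6, 7, 9, 8, 3, 2, 4, 3, 5, 8, 9],
    [7, 6, 5, 4, 3, 2, 1, 0, 8, 3, 2, 1, 4, 3, 5, 6, 8, 9, 8, 3, 2, 1, 4, 3, 8, 9],
    [7, 6, 5, 4, 3, 2, 1, 0, 8, 3, 2, 1, 4, 3, 5, 6, 8, 9, 8, 3, 2, 4, 3, 5, 6, 7],
    [7, 6, 5, 4, 3, 2, 1, 0, 8, 3, 2, 1, 4, 3, 5, 6, 9, 8, 3, 2, 1, 4, 3, 2, 8, 9],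
    [7, 6, 5, 4, 3, 2, 1, 0, 8, 3, 2, 1, 4, 3, 5, 6, 9, 8, 3, 2, 4, 3, 5, 4, 8, 3],
    [7, 6, 5, 4, 3, 2, 1, 0, 8, 3, 2, 1, 4, 3, 5, 8, 9, 8, 3, 2, 1, 0, 4, 3, 5, 4],
    [7, 6, 5, 4, 3, 2, 1, 0, 8, 3, 2, 1, 4, 3, 5, 9, 8, 3, 2, 4, 3, 5, 4, 6, 5, 7],
    [7, 6, 5, 4, 3, 2, 1, 0, 8, 3, 2, 1, 4, 3, 8, 9, 8, 3, 2, 1, 0, 4, 3, 5, 4, 6],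
    [7, 6, 5, 4, 3, 2, 1, 0, 8, 3, 2, 1, 4, 3, 8, 9, 8, 3, 2, 1, 4, 3, 2, 5, 4, 6],
    [7, 6, 5, 4, 3, 2, 1, 0, 8, 3, 2, 1, 4, 3, 8, 9, 8, 3, 2, 4, 3, 5, 4, 6, 8, 3],
    [7, 6, 5, 4, 3, 2, 1, 0, 8, 3, 2, 1, 4, 3, 8, 9, 8, 3, 2, 4, 3, 5, 4, 8, 3, 9],
    [7, 6, 5, 4, 3, 2, 1, 0, 8, 3, 2, 1, 4, 3, 9, 8, 3, 2, 1, 0, 4, 3, 5, 4, 6, 5],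
    [7, 6, 5, 4, 3, 2, 1, 0, 8, 3, 2, 1, 4, 3, 9, 8, 3, 2, 1, 0, 4, 3, 5, 4, 6, 7],
    [7, 6, 5, 4, 3, 2, 1, 0, 8, 3, 2, 1, 4, 3, 9, 8, 3, 2, 1, 4, 3, 2, 5, 4, 6, 7],
    [7, 6, 5, 4, 3, 2, 1, 0, 8, 3, 2, 1, 4, 3, 9, 8, 3, 2, 1, 4, 3, 5, 4, 6, 8, 3],
    [7, 6, 5, 4, 3, 2, 1, 0, 8, 3, 2, 1, 4, 3, 9, 8, 3, 2, 4, 3, 5, 4, 6, 5, 7, 6],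
    [7, 6, 5, 4, 3, 2, 1, 0, 8, 3, 2, 1, 4, 3, 9, 8, 3, 2, 4, 3, 5, 4, 8, 3, 2, 1],
    [7, 6, 5, 4, 3, 2, 1, 0, 8, 3, 2, 1, 4, 5, 6, 7, 9, 8, 3, 2, 1, 0, 4, 3, 8, 9],
    [7, 6, 5, 4, 3, 2, 1, 0, 8, 3, 2, 1, 4, 5, 6, 7, 9, 8, 3, 2, 1, 4, 3, 2, 5, 4],
    [7, 6, 5, 4, 3, 2, 1, 0, 8, 3, 2, 1, 4, 5, 6, 7, 9, 8, 3, 2, 4, 3, 5, 4, 6, 5],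
    [7, 6, 5, 4, 3, 2, 1, 0, 8, 3, 2, 1, 4, 5, 6, 7, 9, 8, 3, 2, 4, 3, 5, 6, 7, 8],
    [7, 6, 5, 4, 3, 2, 1, 0, 8, 3, 2, 1, 4, 5, 6, 9, 8, 3, 2, 1, 4, 3, 5, 4, 6, 5],
    [7, 6, 5, 4, 3, 2, 1, 0, 8, 3, 2, 1, 4, 5, 6, 9, 8, 3, 2, 1, 4, 3, 5, 4, 6, 7],
    [7, 6, 5, 4, 3, 2, 1, 0, 8, 3, 2, 1, 4, 5, 6, 9, 8, 3, 2, 4, 3, 5, 6, 7, 8, 9],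
    [7, 6, 5, 4, 3, 2, 1, 0, 8, 3, 2, 1, 4, 5, 9, 8, 3, 2, 1, 0, 4, 3, 2, 5, 8, 9],
    [7, 6, 5, 4, 3, 2, 1, 0, 8, 3, 2, 1, 4, 5, 9, 8, 3, 2, 1, 0, 4, 3, 5, 6, 8, 9],
    [7, 6, 5, 4, 3, 2, 1, 0, 8, 3, 2, 1, 4, 5, 9, 8, 3, 2, 1, 4, 3, 2, 5, 4, 6, 5],
    [7, 6, 5, 4, 3, 2, 1, 0, 8, 3, 2, 1, 4, 5, 9, 8, 3, 2, 1, 4, 3, 2, 5, 6, 7, 8],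
    [7, 6, 5, 4, 3, 2, 1, 0, 8, 3, 2, 1, 4, 5, 9, 8, 3, 2, 1, 4, 3, 2, 5, 6, 8, 9],
    [7, 6, 5, 4, 3, 2, 1, 0, 8, 3, 2, 1, 4, 5, 9, 8, 3, 2, 1, 4, 3, 2, 5, 8, 3, 4],
    [7, 6, 5, 4, 3, 2, 1, 0, 8, 3, 2, 1, 4, 5, 9, 8, 3, 2, 1, 4, 3, 2, 8, 3, 4, 5],
    [7, 6, 5, 4, 3, 2, 1, 0, 8, 3, 2, 1, 4, 5, 9, 8, 3, 2, 1, 4, 3, 5, 4, 6, 8, 3],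
    [7, 6, 5, 4, 3, 2, 1, 0, 8, 3, 2, 1, 4, 5, 9, 8, 3, 2, 4, 3, 5, 4, 6, 8, 3, 9],
    [7, 6, 5, 4, 3, 2, 1, 0, 8, 3, 2, 1, 4, 5, 9, 8, 3, 2, 4, 3, 5, 4, 8, 3, 2, 1],
    [7, 6, 5, 4, 3, 2, 1, 0, 8, 3, 2, 1, 4, 5, 9, 8, 3, 2, 4, 3, 5, 4, 8, 3, 2, 9],
    [7, 6, 5, 4, 3, 2, 1, 0, 8, 3, 2, 1, 4, 9, 8, 3, 2, 1, 0, 4, 3, 5, 4, 6, 7, 8],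
    [7, 6, 5, 4, 3, 2, 1, 0, 8, 3, 2, 1, 4, 9, 8, 3, 2, 1, 4, 3, 5, 4, 6, 8, 3, 2],
    [7, 6, 5, 4, 3, 2, 1, 0, 8, 3, 2, 4, 3, 5, 4, 6, 5, 9, 8, 3, 2, 1, 4, 3, 2, 5],
    [7, 6, 5, 4, 3, 2, 1, 0, 8, 3, 2, 4, 3, 5, 4, 6, 9, 8, 3, 2, 1, 4, 3, 2, 8, 3],
    [7, 6, 5, 4, 3, 2, 1, 0, 8, 3, 2, 4, 3, 5, 6, 7, 8, 9, 8, 3, 2, 1, 4, 3, 2, 8],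
    [7, 6, 5, 4, 3, 2, 1, 0, 8, 3, 2, 4, 3, 5, 6, 7, 9, 8, 3, 2, 1, 4, 3, 2, 8, 3],
    [7, 6, 5, 4, 3, 2, 1, 0, 8, 3, 2, 4, 3, 8, 9, 8, 3, 2, 1, 0, 4, 3, 2, 5, 4, 6],
    [7, 6, 5, 4, 3, 2, 1, 0, 8, 3, 2, 4, 3, 8, 9, 8, 3, 2, 1, 4, 3, 2, 5, 4, 6, 5],
    [7, 6, 5, 4, 3, 2, 1, 0, 8, 3, 2, 4, 3, 9, 8, 3, 2, 1, 4, 3, 2, 5, 4, 3, 6, 8],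
    [7, 6, 5, 4, 3, 2, 1, 0, 8, 3, 2, 4, 5, 6, 7, 9, 8, 3, 2, 1, 4, 3, 2, 8, 3, 4],
    [7, 6, 5, 4, 3, 2, 1, 0, 8, 3, 2, 4, 5, 6, 9, 8, 3, 2, 1, 0, 4, 3, 2, 5, 4, 3],
    [7, 6, 5, 4, 3, 2, 1, 0, 8, 3, 2, 4, 5, 9, 8, 3, 2, 1, 4, 3, 2, 8, 3, 4, 5, 6],
    [7, 6, 5, 4, 3, 2, 1, 0, 8, 3, 4, 5, 6, 9, 8, 3, 2, 1, 4, 3, 2, 5, 4, 8, 3, 4],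
    [7, 6, 5, 4, 3, 2, 1, 0, 8, 3, 2, 1, 4, 3, 2, 5, 4, 3, 6, 7, 9, 8, 3, 2, 4, 3, 5],
    [7, 6, 5, 4, 3, 2, 1, 0, 8, 3, 2, 1, 4, 3, 2, 5, 4, 3, 6, 7, 9, 8, 3, 2, 4, 3, 8],
    [7, 6, 5, 4, 3, 2, 1, 0, 8, 3, 2, 1, 4, 3, 2, 5, 4, 3, 6, 9, 8, 3, 2, 1, 4, 3, 2],
    [7, 6, 5, 4, 3, 2, 1, 0, 8, 3, 2, 1, 4, 3, 2, 5, 4, 3, 9, 8, 3, 2, 1, 0, 4, 5, 6],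
    [7, 6, 5, 4, 3, 2, 1, 0, 8, 3, 2, 1, 4, 3, 2, 5, 4, 3, 9, 8, 3, 2, 1, 4, 3, 2, 5],
    [7, 6, 5, 4, 3, 2, 1, 0, 8, 3, 2, 1, 4, 3, 2, 5, 4, 3, 9, 8, 3, 2, 1, 4, 3, 2, 8],
    [7, 6, 5, 4, 3, 2, 1, 0, 8, 3, 2, 1, 4, 3, 2, 5, 4, 6, 5, 7, 6, 8, 9, 8, 3, 4, 5],
    [7, 6, 5, 4, 3, 2, 1, 0, 8, 3, 2, 1, 4, 3, 2, 5, 4, 6, 5, 7, 9, 8, 3, 2, 4, 5, 6],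
    [7, 6, 5, 4, 3, 2, 1, 0, 8, 3, 2, 1, 4, 3, 2, 5, 4, 6, 5, 7, 9, 8, 3, 4, 5, 6, 7],
    [7, 6, 5, 4, 3, 2, 1, 0, 8, 3, 2, 1, 4, 3, 2, 5, 4, 6, 7, 8, 9, 8, 3, 2, 1, 4, 5],
    [7, 6, 5, 4, 3, 2, 1, 0, 8, 3, 2, 1, 4, 3, 2, 5, 4, 6, 7, 9, 8, 3, 2, 4, 3, 8, 9],
    [7, 6, 5, 4, 3, 2, 1, 0, 8, 3, 2, 1, 4, 3, 2, 5, 4, 6, 9, 8, 3, 2, 1, 0, 4, 3, 2],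
    [7, 6, 5, 4, 3, 2, 1, 0, 8, 3, 2, 1, 4, 3, 2, 5, 4, 6, 9, 8, 3, 2, 1, 0, 4, 3, 5],
    [7, 6, 5, 4, 3, 2, 1, 0, 8, 3, 2, 1, 4, 3, 2, 5, 4, 6, 9, 8, 3, 2, 1, 4, 5, 6, 7],
    [7, 6, 5, 4, 3, 2, 1, 0, 8, 3, 2, 1, 4, 3, 2, 5, 4, 6, 9, 8, 3, 2, 4, 3, 5, 8, 9],
    [7, 6, 5, 4, 3, 2, 1, 0, 8, 3, 2, 1, 4, 3, 2, 5, 4, 8, 9, 8, 3, 2, 1, 4, 3, 8, 9],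
    [7, 6, 5, 4, 3, 2, 1, 0, 8, 3, 2, 1, 4, 3, 2, 5, 4, 8, 9, 8, 3, 2, 4, 3, 5, 4, 6],
    [7, 6, 5, 4, 3, 2, 1, 0, 8, 3, 2, 1, 4, 3, 2, 5, 4, 8, 9, 8, 3, 2, 4, 3, 5, 6, 8],
    [7, 6, 5, 4, 3, 2, 1, 0, 8, 3, 2, 1, 4, 3, 2, 5, 4, 9, 8, 3, 2, 1, 0, 4, 3, 8, 9],
    [7, 6, 5, 4, 3, 2, 1, 0, 8, 3, 2, 1, 4, 3, 2, 5, 4, 9, 8, 3, 2, 1, 0, 4, 5, 6, 7],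
    [7, 6, 5, 4, 3, 2, 1, 0, 8, 3, 2, 1, 4, 3, 2, 5, 4, 9, 8, 3, 2, 1, 4, 3, 5, 4, 8],
    [7, 6, 5, 4, 3, 2, 1, 0, 8, 3, 2, 1, 4, 3, 2, 5, 6, 7, 8, 3, 9, 8, 3, 4, 5, 6, 7],
    [7, 6, 5, 4, 3, 2, 1, 0, 8, 3, 2, 1, 4, 3, 2, 5, 6, 7, 8, 9, 8, 3, 2, 1, 0, 4, 3],
    [7, 6, 5, 4, 3, 2, 1, 0, 8, 3, 2, 1, 4, 3, 2, 5, 6, 7, 8, 9, 8, 3, 2, 1, 0, 4, 5],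
    [7, 6, 5, 4, 3, 2, 1, 0, 8, 3, 2, 1, 4, 3, 2, 5, 6, 7, 8, 9, 8, 3, 2, 4, 3, 8, 9],
    [7, 6, 5, 4, 3, 2, 1, 0, 8, 3, 2, 1, 4, 3, 2, 5, 6, 7, 9, 8, 3, 2, 1, 0, 4, 3, 5],
    [7, 6, 5, 4, 3, 2, 1, 0, 8, 3, 2, 1, 4, 3, 2, 5, 6, 7, 9, 8, 3, 2, 1, 0, 4, 5, 6],
    [7, 6, 5, 4, 3, 2, 1, 0, 8, 3, 2, 1, 4, 3, 2, 5, 6, 8, 3, 9, 8, 3, 2, 1, 0, 4, 3],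
    [7, 6, 5, 4, 3, 2, 1, 0, 8, 3, 2, 1, 4, 3, 2, 5, 6, 8, 3, 9, 8, 3, 2, 4, 3, 5, 8],
    [7, 6, 5, 4, 3, 2, 1, 0, 8, 3, 2, 1, 4, 3, 2, 5, 6, 9, 8, 3, 2, 1, 0, 4, 3, 5, 4],
    [7, 6, 5, 4, 3, 2, 1, 0, 8, 3, 2, 1, 4, 3, 2, 5, 6, 9, 8, 3, 2, 1, 4, 3, 2, 8, 3],
    [7, 6, 5, 4, 3, 2, 1, 0, 8, 3, 2, 1, 4, 3, 2, 5, 6, 9, 8, 3, 2, 1, 4, 3, 5, 8, 9]]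

/-- A part of the representatives. -/
def repsU_9 : List (List ℕ) :=
  [[7, 6, 5, 4, 3, 2, 1, 0, 8, 3, 2, 1, 4, 3, 2, 5, 6, 9, 8, 3, 2, 4, 3, 5, 6, 7, 8],
    [7, 6, 5, 4, 3, 2, 1, 0, 8, 3, 2, 1, 4, 3, 2, 5, 8, 9, 8, 3, 2, 1, 0, 4, 3, 2, 1],
    [7, 6, 5, 4, 3, 2, 1, 0, 8, 3, 2, 1, 4, 3, 2, 5, 9, 8, 3, 2, 1, 0, 4, 3, 2, 8, 3],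
    [7, 6, 5, 4, 3, 2, 1, 0, 8, 3, 2, 1, 4, 3, 2, 5, 9, 8, 3, 2, 1, 0, 4, 3, 5, 4, 8],
    [7, 6, 5, 4, 3, 2, 1, 0, 8, 3, 2, 1, 4, 3, 2, 5, 9, 8, 3, 2, 1, 0, 4, 3, 5, 6, 7],
    [7, 6, 5, 4, 3, 2, 1, 0, 8, 3, 2, 1, 4, 3, 2, 5, 9, 8, 3, 2, 1, 4, 3, 5, 6, 7, 8],
    [7, 6, 5, 4, 3, 2, 1, 0, 8, 3, 2, 1, 4, 3, 2, 5, 9, 8, 3, 2, 4, 3, 5, 6, 7, 8, 9],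
    [7, 6, 5, 4, 3, 2, 1, 0, 8, 3, 2, 1, 4, 3, 2, 8, 9, 8, 3, 2, 4, 3, 5, 4, 6, 8, 3],
    [7, 6, 5, 4, 3, 2, 1, 0, 8, 3, 2, 1, 4, 3, 2, 8, 9, 8, 3, 2, 4, 3, 5, 4, 6, 8, 9],
    [7, 6, 5, 4, 3, 2, 1, 0, 8, 3, 2, 1, 4, 3, 2, 8, 9, 8, 3, 2, 4, 3, 5, 4, 8, 3, 9],
    [7, 6, 5, 4, 3, 2, 1, 0, 8, 3, 2, 1, 4, 3, 2, 9, 8, 3, 2, 1, 0, 4, 3, 5, 4, 6, 5],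
    [7, 6, 5, 4, 3, 2, 1, 0, 8, 3, 2, 1, 4, 3, 2, 9, 8, 3, 2, 1, 0, 4, 3, 5, 4, 6, 7],
    [7, 6, 5, 4, 3, 2, 1, 0, 8, 3, 2, 1, 4, 3, 2, 9, 8, 3, 2, 1, 4, 3, 2, 5, 4, 3, 8],
    [7, 6, 5, 4, 3, 2, 1, 0, 8, 3, 2, 1, 4, 3, 2, 9, 8, 3, 2, 1, 4, 3, 2, 5, 4, 6, 8],
    [7, 6, 5, 4, 3, 2, 1, 0, 8, 3, 2, 1, 4, 3, 2, 9, 8, 3, 2, 1, 4, 3, 2, 5, 4, 8, 3],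
    [7, 6, 5, 4, 3, 2, 1, 0, 8, 3, 2, 1, 4, 3, 2, 9, 8, 3, 2, 4, 3, 5, 4, 6, 5, 8, 9],
    [7, 6, 5, 4, 3, 2, 1, 0, 8, 3, 2, 1, 4, 3, 5, 4, 6, 5, 7, 6, 9, 8, 3, 2, 1, 0, 4],
    [7, 6, 5, 4, 3, 2, 1, 0, 8, 3, 2, 1, 4, 3, 5, 4, 6, 5, 7, 9, 8, 3, 2, 4, 3, 5, 4],
    [7, 6, 5, 4, 3, 2, 1, 0, 8, 3, 2, 1, 4, 3, 5, 4, 6, 7, 9, 8, 3, 2, 1, 0, 4, 3, 8],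
    [7, 6, 5, 4, 3, 2, 1, 0, 8, 3, 2, 1, 4, 3, 5, 4, 6, 7, 9, 8, 3, 2, 4, 3, 5, 6, 8],
    [7, 6, 5, 4, 3, 2, 1, 0, 8, 3, 2, 1, 4, 3, 5, 4, 6, 8, 9, 8, 3, 2, 1, 4, 3, 8, 9],
    [7, 6, 5, 4, 3, 2, 1, 0, 8, 3, 2, 1, 4, 3, 5, 4, 6, 8, 9, 8, 3, 2, 4, 3, 5, 6, 8],
    [7, 6, 5, 4, 3, 2, 1, 0, 8, 3, 2, 1, 4, 3, 5, 4, 6, 9, 8, 3, 2, 1, 0, 4, 3, 5, 8],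
    [7, 6, 5, 4, 3, 2, 1, 0, 8, 3, 2, 1, 4, 3, 5, 4, 6, 9, 8, 3, 2, 1, 0, 4, 3, 8, 9],
    [7, 6, 5, 4, 3, 2, 1, 0, 8, 3, 2, 1, 4, 3, 5, 4, 6, 9, 8, 3, 2, 1, 4, 3, 5, 4, 6],
    [7, 6, 5, 4, 3, 2, 1, 0, 8, 3, 2, 1, 4, 3, 5, 4, 6, 9, 8, 3, 2, 4, 3, 5, 6, 7, 8],
    [7, 6, 5, 4, 3, 2, 1, 0, 8, 3, 2, 1, 4, 3, 5, 4, 8, 9, 8, 3, 2, 4, 3, 5, 6, 7, 8],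
    [7, 6, 5, 4, 3, 2, 1, 0, 8, 3, 2, 1, 4, 3, 5, 4, 9, 8, 3, 2, 1, 0, 4, 3, 5, 4, 6],
    [7, 6, 5, 4, 3, 2, 1, 0, 8, 3, 2, 1, 4, 3, 5, 4, 9, 8, 3, 2, 1, 0, 4, 3, 5, 6, 8],
    [7, 6, 5, 4, 3, 2, 1, 0, 8, 3, 2, 1, 4, 3, 5, 4, 9, 8, 3, 2, 1, 4, 3, 5, 6, 7, 8],
    [7, 6, 5, 4, 3, 2, 1, 0, 8, 3, 2, 1, 4, 3, 5, 4, 9, 8, 3, 2, 4, 3, 5, 4, 6, 8, 3],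
    [7, 6, 5, 4, 3, 2, 1, 0, 8, 3, 2, 1, 4, 3, 5, 6, 7, 8, 9, 8, 3, 2, 1, 0, 4, 3, 8],
    [7, 6, 5, 4, 3, 2, 1, 0, 8, 3, 2, 1, 4, 3, 5, 6, 7, 8, 9, 8, 3, 2, 1, 4, 3, 5, 8],
    [7, 6, 5, 4, 3, 2, 1, 0, 8, 3, 2, 1, 4, 3, 5, 6, 8, 9, 8, 3, 2, 1, 0, 4, 3, 8, 9],
    [7, 6, 5, 4, 3, 2, 1, 0, 8, 3, 2, 1, 4, 3, 5, 6, 8, 9, 8, 3, 2, 1, 0, 4, 5, 6, 7],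
    [7, 6, 5, 4, 3, 2, 1, 0, 8, 3, 2, 1, 4, 3, 5, 6, 9, 8, 3, 2, 1, 0, 4, 3, 5, 4, 6],
    [7, 6, 5, 4, 3, 2, 1, 0, 8, 3, 2, 1, 4, 3, 5, 6, 9, 8, 3, 2, 1, 0, 4, 3, 5, 8, 9],
    [7, 6, 5, 4, 3, 2, 1, 0, 8, 3, 2, 1, 4, 3, 5, 6, 9, 8, 3, 2, 1, 4, 3, 5, 4, 6, 5],
    [7, 6, 5, 4, 3, 2, 1, 0, 8, 3, 2, 1, 4, 3, 5, 6, 9, 8, 3, 2, 4, 3, 5, 4, 6, 5, 7],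
    [7, 6, 5, 4, 3, 2, 1, 0, 8, 3, 2, 1, 4, 3, 5, 6, 9, 8, 3, 2, 4, 3, 5, 6, 7, 8, 9],
    [7, 6, 5, 4, 3, 2, 1, 0, 8, 3, 2, 1, 4, 3, 5, 8, 9, 8, 3, 2, 4, 3, 5, 4, 8, 3, 9],
    [7, 6, 5, 4, 3, 2, 1, 0, 8, 3, 2, 1, 4, 3, 5, 9, 8, 3, 2, 1, 4, 3, 5, 4, 6, 5, 8],
    [7, 6, 5, 4, 3, 2, 1, 0, 8, 3, 2, 1, 4, 3, 5, 9, 8, 3, 2, 1, 4, 3, 5, 4, 6, 8, 9],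
    [7, 6, 5, 4, 3, 2, 1, 0, 8, 3, 2, 1, 4, 3, 8, 9, 8, 3, 2, 1, 4, 3, 2, 5, 4, 6, 5],
    [7, 6, 5, 4, 3, 2, 1, 0, 8, 3, 2, 1, 4, 3, 8, 9, 8, 3, 2, 1, 4, 3, 2, 5, 4, 6, 7],
    [7, 6, 5, 4, 3, 2, 1, 0, 8, 3, 2, 1, 4, 3, 8, 9, 8, 3, 2, 1, 4, 3, 5, 4, 6, 8, 3],
    [7, 6, 5, 4, 3, 2, 1, 0, 8, 3, 2, 1, 4, 3, 8, 9, 8, 3, 2, 1, 4, 3, 5, 4, 8, 3, 2],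
    [7, 6, 5, 4, 3, 2, 1, 0, 8, 3, 2, 1, 4, 3, 8, 9, 8, 3, 2, 4, 3, 5, 4, 8, 3, 2, 9],
    [7, 6, 5, 4, 3, 2, 1, 0, 8, 3, 2, 1, 4, 3, 9, 8, 3, 2, 1, 0, 4, 3, 2, 5, 4, 6, 5],
    [7, 6, 5, 4, 3, 2, 1, 0, 8, 3, 2, 1, 4, 3, 9, 8, 3, 2, 1, 0, 4, 3, 5, 4, 6, 5, 7],
    [7, 6, 5, 4, 3, 2, 1, 0, 8, 3, 2, 1, 4, 3, 9, 8, 3, 2, 1, 0, 4, 3, 5, 4, 6, 5, 8],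
    [7, 6, 5, 4, 3, 2, 1, 0, 8, 3, 2, 1, 4, 3, 9, 8, 3, 2, 4, 3, 5, 4, 6, 5, 8, 3, 2],
    [7, 6, 5, 4, 3, 2, 1, 0, 8, 3, 2, 1, 4, 5, 6, 7, 9, 8, 3, 2, 4, 3, 5, 4, 6, 5, 7],
    [7, 6, 5, 4, 3, 2, 1, 0, 8, 3, 2, 1, 4, 5, 6, 9, 8, 3, 2, 1, 0, 4, 3, 5, 6, 7, 8],
    [7, 6, 5, 4, 3, 2, 1, 0, 8, 3, 2, 1, 4, 5, 6, 9, 8, 3, 2, 1, 4, 3, 2, 5, 4, 8, 3],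
    [7, 6, 5, 4, 3, 2, 1, 0, 8, 3, 2, 1, 4, 5, 6, 9, 8, 3, 2, 1, 4, 3, 5, 4, 6, 5, 7],
    [7, 6, 5, 4, 3, 2, 1, 0, 8, 3, 2, 1, 4, 5, 9, 8, 3, 2, 1, 0, 4, 3, 5, 6, 7, 8, 9],
    [7, 6, 5, 4, 3, 2, 1, 0, 8, 3, 2, 1, 4, 5, 9, 8, 3, 2, 1, 4, 3, 2, 5, 6, 7, 8, 9],
    [7, 6, 5, 4, 3, 2, 1, 0, 8, 3, 2, 1, 4, 5, 9, 8, 3, 2, 1, 4, 3, 2, 8, 3, 4, 5, 9],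
    [7, 6, 5, 4, 3, 2, 1, 0, 8, 3, 2, 1, 4, 5, 9, 8, 3, 2, 1, 4, 3, 5, 4, 6, 8, 3, 2],
    [7, 6, 5, 4, 3, 2, 1, 0, 8, 3, 2, 1, 4, 5, 9, 8, 3, 2, 4, 3, 5, 4, 6, 5, 7, 8, 3],
    [7, 6, 5, 4, 3, 2, 1, 0, 8, 3, 2, 1, 4, 5, 9, 8, 3, 2, 4, 3, 5, 4, 6, 8, 3, 2, 1],
    [7, 6, 5, 4, 3, 2, 1, 0, 8, 3, 2, 1, 4, 9, 8, 3, 2, 1, 0, 4, 3, 5, 4, 6, 5, 8, 9],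
    [7, 6, 5, 4, 3, 2, 1, 0, 8, 3, 2, 1, 4, 9, 8, 3, 2, 1, 4, 3, 5, 4, 6, 8, 3, 9, 8],
    [7, 6, 5, 4, 3, 2, 1, 0, 8, 3, 2, 1, 4, 9, 8, 3, 2, 4, 3, 5, 4, 6, 8, 3, 2, 1, 0],
    [7, 6, 5, 4, 3, 2, 1, 0, 8, 3, 2, 4, 3, 5, 6, 7, 9, 8, 3, 2, 1, 4, 3, 2, 5, 8, 3],
    [7, 6, 5, 4, 3, 2, 1, 0, 8, 3, 2, 4, 3, 9, 8, 3, 2, 1, 4, 3, 2, 5, 4, 3, 6, 8, 9],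
    [7, 6, 5, 4, 3, 2, 1, 0, 8, 3, 2, 4, 5, 6, 9, 8, 3, 2, 1, 4, 3, 2, 5, 4, 3, 8, 3],
    [7, 6, 5, 4, 3, 2, 1, 0, 8, 3, 2, 4, 5, 6, 9, 8, 3, 2, 1, 4, 3, 2, 8, 3, 4, 5, 6],
    [7, 6, 5, 4, 3, 2, 1, 0, 8, 3, 4, 5, 6, 9, 8, 3, 2, 1, 4, 3, 2, 5, 4, 8, 3, 4, 5],
    [7, 6, 5, 4, 3, 2, 1, 0, 8, 3, 2, 1, 4, 3, 2, 5, 4, 3, 6, 7, 9, 8, 3, 2, 1, 0, 4, 3],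
    [7, 6, 5, 4, 3, 2, 1, 0, 8, 3, 2, 1, 4, 3, 2, 5, 4, 3, 6, 9, 8, 3, 2, 1, 4, 3, 2, 8],
    [7, 6, 5, 4, 3, 2, 1, 0, 8, 3, 2, 1, 4, 3, 2, 5, 4, 6, 5, 7, 8, 9, 8, 3, 4, 5, 6, 7],
    [7, 6, 5, 4, 3, 2, 1, 0, 8, 3, 2, 1, 4, 3, 2, 5, 4, 6, 7, 8, 9, 8, 3, 2, 4, 3, 5, 8],
    [7, 6, 5, 4, 3, 2, 1, 0, 8, 3, 2, 1, 4, 3, 2, 5, 4, 6, 7, 9, 8, 3, 2, 1, 0, 4, 3, 2],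
    [7, 6, 5, 4, 3, 2, 1, 0, 8, 3, 2, 1, 4, 3, 2, 5, 4, 6, 7, 9, 8, 3, 2, 4, 3, 5, 6, 8],
    [7, 6, 5, 4, 3, 2, 1, 0, 8, 3, 2, 1, 4, 3, 2, 5, 4, 6, 8, 9, 8, 3, 2, 4, 3, 5, 8, 9],
    [7, 6, 5, 4, 3, 2, 1, 0, 8, 3, 2, 1, 4, 3, 2, 5, 4, 6, 9, 8, 3, 2, 1, 0, 4, 3, 2, 1],
    [7, 6, 5, 4, 3, 2, 1, 0, 8, 3, 2, 1, 4, 3, 2, 5, 4, 6, 9, 8, 3, 2, 1, 4, 3, 5, 4, 8],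
    [7, 6, 5, 4, 3, 2, 1, 0, 8, 3, 2, 1, 4, 3, 2, 5, 4, 6, 9, 8, 3, 2, 1, 4, 3, 5, 8, 9],
    [7, 6, 5, 4, 3, 2, 1, 0, 8, 3, 2, 1, 4, 3, 2, 5, 4, 6, 9, 8, 3, 2, 4, 3, 5, 4, 8, 9],
    [7, 6, 5, 4, 3, 2, 1, 0, 8, 3, 2, 1, 4, 3, 2, 5, 4, 6, 9, 8, 3, 2, 4, 3, 5, 6, 8, 9],
    [7, 6, 5, 4, 3, 2, 1, 0, 8, 3, 2, 1, 4, 3, 2, 5, 4, 8, 9, 8, 3, 2, 4, 3, 5, 6, 7, 8],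
    [7, 6, 5, 4, 3, 2, 1, 0, 8, 3, 2, 1, 4, 3, 2, 5, 4, 9, 8, 3, 2, 1, 4, 3, 2, 5, 6, 7],
    [7, 6, 5, 4, 3, 2, 1, 0, 8, 3, 2, 1, 4, 3, 2, 5, 4, 9, 8, 3, 2, 1, 4, 3, 2, 5, 6, 8],
    [7, 6, 5, 4, 3, 2, 1, 0, 8, 3, 2, 1, 4, 3, 2, 5, 4, 9, 8, 3, 2, 1, 4, 3, 5, 6, 7, 8],
    [7, 6, 5, 4, 3, 2, 1, 0, 8, 3, 2, 1, 4, 3, 2, 5, 6, 7, 9, 8, 3, 2, 1, 0, 4, 3, 5, 4],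
    [7, 6, 5, 4, 3, 2, 1, 0, 8, 3, 2, 1, 4, 3, 2, 5, 6, 7, 9, 8, 3, 2, 1, 4, 3, 2, 5, 8],
    [7, 6, 5, 4, 3, 2, 1, 0, 8, 3, 2, 1, 4, 3, 2, 5, 6, 7, 9, 8, 3, 2, 1, 4, 3, 5, 4, 8],
    [7, 6, 5, 4, 3, 2, 1, 0, 8, 3, 2, 1, 4, 3, 2, 5, 6, 8, 3, 9, 8, 3, 2, 1, 0, 4, 3, 8],
    [7, 6, 5, 4, 3, 2, 1, 0, 8, 3, 2, 1, 4, 3, 2, 5, 6, 8, 3, 9, 8, 3, 2, 4, 3, 5, 6, 8],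
    [7, 6, 5, 4, 3, 2, 1, 0, 8, 3, 2, 1, 4, 3, 2, 5, 6, 8, 9, 8, 3, 2, 1, 4, 3, 5, 8, 9],
    [7, 6, 5, 4, 3, 2, 1, 0, 8, 3, 2, 1, 4, 3, 2, 5, 6, 9, 8, 3, 2, 1, 0, 4, 3, 5, 6, 7],
    [7, 6, 5, 4, 3, 2, 1, 0, 8, 3, 2, 1, 4, 3, 2, 5, 8, 9, 8, 3, 2, 1, 0, 4, 3, 2, 1, 5],
    [7, 6, 5, 4, 3, 2, 1, 0, 8, 3, 2, 1, 4, 3, 2, 5, 9, 8, 3, 2, 1, 0, 4, 3, 5, 4, 8, 3],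
    [7, 6, 5, 4, 3, 2, 1, 0, 8, 3, 2, 1, 4, 3, 2, 5, 9, 8, 3, 2, 1, 4, 3, 2, 5, 6, 8, 3],
    [7, 6, 5, 4, 3, 2, 1, 0, 8, 3, 2, 1, 4, 3, 2, 5, 9, 8, 3, 2, 1, 4, 3, 2, 5, 6, 8, 9],
    [7, 6, 5, 4, 3, 2, 1, 0, 8, 3, 2, 1, 4, 3, 2, 5, 9, 8, 3, 2, 1, 4, 3, 2, 8, 3, 4, 5],
    [7, 6, 5, 4, 3, 2, 1, 0, 8, 3, 2, 1, 4, 3, 2, 5, 9, 8, 3, 2, 1, 4, 3, 2, 8, 3, 4, 9],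
    [7, 6, 5, 4, 3, 2, 1, 0, 8, 3, 2, 1, 4, 3, 2, 8, 9, 8, 3, 2, 4, 3, 5, 4, 8, 3, 2, 9],
    [7, 6, 5, 4, 3, 2, 1, 0, 8, 3, 2, 1, 4, 3, 2, 9, 8, 3, 2, 1, 0, 4, 3, 5, 4, 6, 5, 8],
    [7, 6, 5, 4, 3, 2, 1, 0, 8, 3, 2, 1, 4, 3, 2, 9, 8, 3, 2, 1, 4, 3, 2, 5, 4, 3, 6, 5],
    [7, 6, 5, 4, 3, 2, 1, 0, 8, 3, 2, 1, 4, 3, 2, 9, 8, 3, 2, 1, 4, 3, 2, 5, 4, 3, 8, 9],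
    [7, 6, 5, 4, 3, 2, 1, 0, 8, 3, 2, 1, 4, 3, 2, 9, 8, 3, 2, 1, 4, 3, 2, 5, 4, 6, 5, 7],
    [7, 6, 5, 4, 3, 2, 1, 0, 8, 3, 2, 1, 4, 3, 2, 9, 8, 3, 2, 4, 3, 5, 4, 6, 5, 8, 3, 2],
    [7, 6, 5, 4, 3, 2, 1, 0, 8, 3, 2, 1, 4, 3, 5, 4, 6, 5, 9, 8, 3, 2, 4, 3, 5, 6, 7, 8],
    [7, 6, 5, 4, 3, 2, 1, 0, 8, 3, 2, 1, 4, 3, 5, 4, 6, 7, 8, 9, 8, 3, 2, 1, 4, 3, 8, 9],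
    [7, 6, 5, 4, 3, 2, 1, 0, 8, 3, 2, 1, 4, 3, 5, 4, 6, 7, 9, 8, 3, 2, 1, 0, 4, 3, 5, 8],
    [7, 6, 5, 4, 3, 2, 1, 0, 8, 3, 2, 1, 4, 3, 5, 4, 6, 8, 3, 9, 8, 3, 2, 4, 3, 5, 8, 9],
    [7, 6, 5, 4, 3, 2, 1, 0, 8, 3, 2, 1, 4, 3, 5, 4, 8, 9, 8, 3, 2, 1, 4, 3, 2, 5, 8, 9],
    [7, 6, 5, 4, 3, 2, 1, 0, 8, 3, 2, 1, 4, 3, 5, 4, 8, 9, 8, 3, 2, 4, 3, 5, 4, 6, 8, 3],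
    [7, 6, 5, 4, 3, 2, 1, 0, 8, 3, 2, 1, 4, 3, 5, 4, 8, 9, 8, 3, 2, 4, 3, 5, 4, 6, 8, 9],
    [7, 6, 5, 4, 3, 2, 1, 0, 8, 3, 2, 1, 4, 3, 5, 4, 9, 8, 3, 2, 4, 3, 5, 4, 6, 5, 8, 3],
    [7, 6, 5, 4, 3, 2, 1, 0, 8, 3, 2, 1, 4, 3, 5, 4, 9, 8, 3, 2, 4, 3, 5, 4, 6, 8, 3, 2],
    [7, 6, 5, 4, 3, 2, 1, 0, 8, 3, 2, 1, 4, 3, 5, 6, 7, 8, 9, 8, 3, 2, 1, 0, 4, 3, 5, 8],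
    [7, 6, 5, 4, 3, 2, 1, 0, 8, 3, 2, 1, 4, 3, 5, 6, 7, 9, 8, 3, 2, 4, 3, 5, 4, 6, 8, 3],
    [7, 6, 5, 4, 3, 2, 1, 0, 8, 3, 2, 1, 4, 3, 5, 6, 7, 9, 8, 3, 2, 4, 3, 5, 4, 8, 3, 9],
    [7, 6, 5, 4, 3, 2, 1, 0, 8, 3, 2, 1, 4, 3, 5, 6, 9, 8, 3, 2, 4, 3, 5, 4, 8, 3, 2, 1],
    [7, 6, 5, 4, 3, 2, 1, 0, 8, 3, 2, 1, 4, 3, 5, 8, 9, 8, 3, 2, 1, 0, 4, 3, 2, 5, 6, 8],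
    [7, 6, 5, 4, 3, 2, 1, 0, 8, 3, 2, 1, 4, 3, 5, 8, 9, 8, 3, 2, 1, 4, 3, 5, 4, 6, 8, 3],
    [7, 6, 5, 4, 3, 2, 1, 0, 8, 3, 2, 1, 4, 3, 5, 9, 8, 3, 2, 1, 4, 3, 2, 5, 4, 3, 8, 3],
    [7, 6, 5, 4, 3, 2, 1, 0, 8, 3, 2, 1, 4, 3, 5, 9, 8, 3, 2, 1, 4, 3, 2, 8, 3, 4, 5, 6],
    [7, 6, 5, 4, 3, 2, 1, 0, 8, 3, 2, 1, 4, 3, 8, 9, 8, 3, 2, 1, 0, 4, 3, 5, 4, 6, 5, 7],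
    [7, 6, 5, 4, 3, 2, 1, 0, 8, 3, 2, 1, 4, 3, 8, 9, 8, 3, 2, 1, 4, 3, 5, 4, 6, 7, 8, 3],
    [7, 6, 5, 4, 3, 2, 1, 0, 8, 3, 2, 1, 4, 3, 8, 9, 8, 3, 2, 4, 3, 5, 4, 6, 5, 8, 3, 2],
    [7, 6, 5, 4, 3, 2, 1, 0, 8, 3, 2, 1, 4, 3, 9, 8, 3, 2, 1, 0, 4, 3, 5, 4, 6, 5, 7, 6],
    [7, 6, 5, 4, 3, 2, 1, 0, 8, 3, 2, 1, 4, 3, 9, 8, 3, 2, 4, 3, 5, 4, 6, 5, 7, 8, 3, 4],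
    [7, 6, 5, 4, 3, 2, 1, 0, 8, 3, 2, 1, 4, 3, 9, 8, 3, 2, 4, 3, 5, 4, 8, 3, 2, 9, 8, 3]]

/-- A part of the representatives. -/
def repsU_10 : List (List ℕ) :=
  [[7, 6, 5, 4, 3, 2, 1, 0, 8, 3, 2, 1, 4, 5, 6, 7, 9, 8, 3, 2, 1, 4, 3, 5, 4, 8, 3, 2],
    [7, 6, 5, 4, 3, 2, 1, 0, 8, 3, 2, 1, 4, 5, 6, 9, 8, 3, 2, 1, 0, 4, 3, 5, 6, 7, 8, 9],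
    [7, 6, 5, 4, 3, 2, 1, 0, 8, 3, 2, 1, 4, 5, 9, 8, 3, 2, 1, 4, 3, 2, 5, 4, 6, 7, 8, 9],
    [7, 6, 5, 4, 3, 2, 1, 0, 8, 3, 2, 1, 4, 5, 9, 8, 3, 2, 4, 3, 5, 4, 6, 7, 8, 3, 2, 1],
    [7, 6, 5, 4, 3, 2, 1, 0, 8, 3, 2, 4, 3, 5, 9, 8, 3, 2, 1, 0, 4, 3, 2, 5, 4, 3, 6, 8],
    [7, 6, 5, 4, 3, 2, 1, 0, 8, 3, 2, 4, 3, 5, 9, 8, 3, 2, 1, 4, 3, 2, 5, 4, 3, 6, 8, 9],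
    [7, 6, 5, 4, 3, 2, 1, 0, 8, 3, 2, 4, 3, 9, 8, 3, 2, 1, 0, 4, 3, 2, 5, 4, 3, 6, 7, 8],
    [7, 6, 5, 4, 3, 2, 1, 0, 8, 3, 2, 4, 3, 9, 8, 3, 2, 1, 0, 4, 3, 2, 5, 4, 3, 6, 8, 9],
    [7, 6, 5, 4, 3, 2, 1, 0, 8, 3, 4, 5, 6, 7, 9, 8, 3, 2, 1, 4, 3, 2, 5, 4, 6, 8, 3, 4],
    [7, 6, 5, 4, 3, 2, 1, 0, 8, 3, 2, 1, 4, 3, 2, 5, 4, 3, 6, 7, 9, 8, 3, 2, 4, 3, 5, 8, 9],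
    [7, 6, 5, 4, 3, 2, 1, 0, 8, 3, 2, 1, 4, 3, 2, 5, 4, 3, 9, 8, 3, 2, 1, 0, 4, 3, 5, 4, 8],
    [7, 6, 5, 4, 3, 2, 1, 0, 8, 3, 2, 1, 4, 3, 2, 5, 4, 3, 9, 8, 3, 2, 1, 4, 3, 2, 8, 3, 9],
    [7, 6, 5, 4, 3, 2, 1, 0, 8, 3, 2, 1, 4, 3, 2, 5, 4, 3, 9, 8, 3, 2, 4, 3, 5, 6, 7, 8, 9],
    [7, 6, 5, 4, 3, 2, 1, 0, 8, 3, 2, 1, 4, 3, 2, 5, 4, 6, 8, 9, 8, 3, 2, 1, 4, 3, 2, 8, 3],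
    [7, 6, 5, 4, 3, 2, 1, 0, 8, 3, 2, 1, 4, 3, 2, 5, 4, 6, 8, 9, 8, 3, 2, 4, 3, 5, 6, 7, 8],
    [7, 6, 5, 4, 3, 2, 1, 0, 8, 3, 2, 1, 4, 3, 2, 5, 4, 6, 9, 8, 3, 2, 1, 0, 4, 3, 2, 8, 3],
    [7, 6, 5, 4, 3, 2, 1, 0, 8, 3, 2, 1, 4, 3, 2, 5, 4, 6, 9, 8, 3, 2, 4, 3, 5, 4, 6, 8, 9],
    [7, 6, 5, 4, 3, 2, 1, 0, 8, 3, 2, 1, 4, 3, 2, 5, 4, 6, 9, 8, 3, 2, 4, 3, 5, 4, 8, 3, 9],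
    [7, 6, 5, 4, 3, 2, 1, 0, 8, 3, 2, 1, 4, 3, 2, 5, 4, 8, 9, 8, 3, 2, 1, 4, 3, 2, 5, 6, 8],
    [7, 6, 5, 4, 3, 2, 1, 0, 8, 3, 2, 1, 4, 3, 2, 5, 4, 8, 9, 8, 3, 2, 1, 4, 3, 2, 5, 8, 3],
    [7, 6, 5, 4, 3, 2, 1, 0, 8, 3, 2, 1, 4, 3, 2, 5, 4, 8, 9, 8, 3, 2, 1, 4, 3, 5, 6, 7, 8],
    [7, 6, 5, 4, 3, 2, 1, 0, 8, 3, 2, 1, 4, 3, 2, 5, 4, 9, 8, 3, 2, 1, 0, 4, 3, 2, 5, 6, 8],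
    [7, 6, 5, 4, 3, 2, 1, 0, 8, 3, 2, 1, 4, 3, 2, 5, 4, 9, 8, 3, 2, 1, 0, 4, 3, 5, 4, 6, 7],
    [7, 6, 5, 4, 3, 2, 1, 0, 8, 3, 2, 1, 4, 3, 2, 5, 4, 9, 8, 3, 2, 1, 4, 3, 2, 5, 4, 3, 8],
    [7, 6, 5, 4, 3, 2, 1, 0, 8, 3, 2, 1, 4, 3, 2, 5, 4, 9, 8, 3, 2, 1, 4, 3, 2, 5, 6, 7, 8],
    [7, 6, 5, 4, 3, 2, 1, 0, 8, 3, 2, 1, 4, 3, 2, 5, 4, 9, 8, 3, 2, 4, 3, 5, 4, 6, 5, 7, 8],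
    [7, 6, 5, 4, 3, 2, 1, 0, 8, 3, 2, 1, 4, 3, 2, 5, 6, 7, 8, 9, 8, 3, 2, 1, 4, 3, 5, 8, 9],
    [7, 6, 5, 4, 3, 2, 1, 0, 8, 3, 2, 1, 4, 3, 2, 5, 6, 7, 9, 8, 3, 2, 4, 3, 5, 4, 6, 8, 9],
    [7, 6, 5, 4, 3, 2, 1, 0, 8, 3, 2, 1, 4, 3, 2, 5, 8, 3, 9, 8, 3, 2, 1, 4, 3, 5, 4, 6, 8],
    [7, 6, 5, 4, 3, 2, 1, 0, 8, 3, 2, 1, 4, 3, 2, 5, 8, 9, 8, 3, 2, 1, 4, 3, 2, 5, 6, 8, 3],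
    [7, 6, 5, 4, 3, 2, 1, 0, 8, 3, 2, 1, 4, 3, 2, 5, 9, 8, 3, 2, 1, 4, 3, 2, 5, 4, 6, 7, 8],
    [7, 6, 5, 4, 3, 2, 1, 0, 8, 3, 2, 1, 4, 3, 2, 5, 9, 8, 3, 2, 4, 3, 5, 4, 6, 8, 3, 2, 1],
    [7, 6, 5, 4, 3, 2, 1, 0, 8, 3, 2, 1, 4, 3, 2, 8, 9, 8, 3, 2, 1, 4, 3, 2, 5, 4, 6, 5, 7],
    [7, 6, 5, 4, 3, 2, 1, 0, 8, 3, 2, 1, 4, 3, 2, 8, 9, 8, 3, 2, 4, 3, 5, 4, 6, 5, 7, 8, 9],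
    [7, 6, 5, 4, 3, 2, 1, 0, 8, 3, 2, 1, 4, 3, 2, 9, 8, 3, 2, 1, 0, 4, 3, 2, 5, 4, 3, 6, 8],
    [7, 6, 5, 4, 3, 2, 1, 0, 8, 3, 2, 1, 4, 3, 2, 9, 8, 3, 2, 1, 4, 3, 2, 5, 4, 3, 6, 5, 8],
    [7, 6, 5, 4, 3, 2, 1, 0, 8, 3, 2, 1, 4, 3, 5, 4, 6, 5, 9, 8, 3, 2, 1, 4, 3, 2, 5, 4, 6],
    [7, 6, 5, 4, 3, 2, 1, 0, 8, 3, 2, 1, 4, 3, 5, 4, 6, 5, 9, 8, 3, 2, 4, 3, 5, 4, 8, 3, 9],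
    [7, 6, 5, 4, 3, 2, 1, 0, 8, 3, 2, 1, 4, 3, 5, 4, 6, 9, 8, 3, 2, 1, 0, 4, 3, 5, 4, 8, 3],
    [7, 6, 5, 4, 3, 2, 1, 0, 8, 3, 2, 1, 4, 3, 5, 4, 6, 9, 8, 3, 2, 1, 0, 4, 3, 5, 6, 8, 9],
    [7, 6, 5, 4, 3, 2, 1, 0, 8, 3, 2, 1, 4, 3, 5, 4, 8, 3, 9, 8, 3, 2, 4, 3, 5, 4, 6, 8, 9],
    [7, 6, 5, 4, 3, 2, 1, 0, 8, 3, 2, 1, 4, 3, 5, 4, 9, 8, 3, 2, 1, 4, 3, 5, 4, 6, 5, 8, 9],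
    [7, 6, 5, 4, 3, 2, 1, 0, 8, 3, 2, 1, 4, 3, 5, 4, 9, 8, 3, 2, 1, 4, 3, 5, 4, 6, 8, 3, 2],
    [7, 6, 5, 4, 3, 2, 1, 0, 8, 3, 2, 1, 4, 3, 5, 4, 9, 8, 3, 2, 4, 3, 5, 4, 6, 8, 3, 2, 9],
    [7, 6, 5, 4, 3, 2, 1, 0, 8, 3, 2, 1, 4, 3, 5, 4, 9, 8, 3, 2, 4, 3, 5, 4, 8, 3, 2, 1, 9],
    [7, 6, 5, 4, 3, 2, 1, 0, 8, 3, 2, 1, 4, 3, 5, 6, 8, 9, 8, 3, 2, 1, 0, 4, 3, 5, 6, 8, 9],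
    [7, 6, 5, 4, 3, 2, 1, 0, 8, 3, 2, 1, 4, 3, 5, 6, 9, 8, 3, 2, 1, 4, 3, 5, 4, 8, 3, 2, 1],
    [7, 6, 5, 4, 3, 2, 1, 0, 8, 3, 2, 1, 4, 3, 5, 8, 9, 8, 3, 2, 1, 4, 3, 2, 5, 4, 3, 8, 3],
    [7, 6, 5, 4, 3, 2, 1, 0, 8, 3, 2, 1, 4, 3, 5, 8, 9, 8, 3, 2, 1, 4, 3, 2, 5, 4, 6, 8, 3],
    [7, 6, 5, 4, 3, 2, 1, 0, 8, 3, 2, 1, 4, 3, 5, 8, 9, 8, 3, 2, 4, 3, 5, 4, 8, 3, 2, 1, 0],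
    [7, 6, 5, 4, 3, 2, 1, 0, 8, 3, 2, 1, 4, 3, 5, 9, 8, 3, 2, 1, 0, 4, 3, 5, 4, 6, 8, 3, 9],
    [7, 6, 5, 4, 3, 2, 1, 0, 8, 3, 2, 1, 4, 3, 9, 8, 3, 2, 1, 4, 3, 2, 5, 4, 3, 6, 8, 3, 9],
    [7, 6, 5, 4, 3, 2, 1, 0, 8, 3, 2, 1, 4, 3, 9, 8, 3, 2, 4, 3, 5, 4, 6, 8, 3, 2, 9, 8, 3],
    [7, 6, 5, 4, 3, 2, 1, 0, 8, 3, 2, 1, 4, 5, 6, 7, 9, 8, 3, 2, 4, 3, 5, 4, 6, 5, 8, 3, 4],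
    [7, 6, 5, 4, 3, 2, 1, 0, 8, 3, 2, 1, 4, 5, 6, 9, 8, 3, 2, 1, 4, 3, 2, 5, 4, 3, 8, 3, 4],
    [7, 6, 5, 4, 3, 2, 1, 0, 8, 3, 2, 1, 4, 5, 6, 9, 8, 3, 2, 1, 4, 3, 2, 5, 4, 6, 5, 8, 9],
    [7, 6, 5, 4, 3, 2, 1, 0, 8, 3, 2, 1, 4, 5, 6, 9, 8, 3, 2, 1, 4, 3, 2, 5, 4, 6, 8, 3, 2],
    [7, 6, 5, 4, 3, 2, 1, 0, 8, 3, 2, 1, 4, 5, 6, 9, 8, 3, 2, 1, 4, 3, 2, 5, 4, 6, 8, 3, 4],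
    [7, 6, 5, 4, 3, 2, 1, 0, 8, 3, 2, 1, 4, 5, 6, 9, 8, 3, 2, 4, 3, 5, 4, 6, 7, 8, 3, 2, 1],
    [7, 6, 5, 4, 3, 2, 1, 0, 8, 3, 2, 1, 4, 5, 6, 9, 8, 3, 2, 4, 3, 5, 4, 6, 8, 3, 2, 1, 0],
    [7, 6, 5, 4, 3, 2, 1, 0, 8, 3, 2, 1, 4, 5, 9, 8, 3, 2, 1, 0, 4, 3, 2, 5, 4, 6, 8, 3, 2],
    [7, 6, 5, 4, 3, 2, 1, 0, 8, 3, 2, 4, 3, 5, 4, 6, 9, 8, 3, 2, 1, 4, 3, 2, 5, 8, 3, 4, 5],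
    [7, 6, 5, 4, 3, 2, 1, 0, 8, 3, 2, 4, 3, 5, 4, 9, 8, 3, 2, 1, 4, 3, 2, 5, 4, 3, 6, 7, 8],
    [7, 6, 5, 4, 3, 2, 1, 0, 8, 3, 2, 4, 3, 5, 9, 8, 3, 2, 1, 0, 4, 3, 2, 5, 4, 3, 6, 7, 8],
    [7, 6, 5, 4, 3, 2, 1, 0, 8, 3, 2, 1, 4, 3, 2, 5, 4, 3, 6, 9, 8, 3, 2, 1, 0, 4, 3, 5, 8, 9],
    [7, 6, 5, 4, 3, 2, 1, 0, 8, 3, 2, 1, 4, 3, 2, 5, 4, 6, 8, 9, 8, 3, 2, 4, 3, 5, 4, 6, 8, 3],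
    [7, 6, 5, 4, 3, 2, 1, 0, 8, 3, 2, 1, 4, 3, 2, 5, 4, 8, 9, 8, 3, 2, 1, 4, 3, 2, 5, 6, 8, 9],
    [7, 6, 5, 4, 3, 2, 1, 0, 8, 3, 2, 1, 4, 3, 2, 5, 4, 8, 9, 8, 3, 2, 4, 3, 5, 4, 8, 3, 2, 9],
    [7, 6, 5, 4, 3, 2, 1, 0, 8, 3, 2, 1, 4, 3, 2, 5, 4, 9, 8, 3, 2, 1, 4, 3, 2, 5, 4, 3, 8, 9],
    [7, 6, 5, 4, 3, 2, 1, 0, 8, 3, 2, 1, 4, 3, 2, 5, 6, 9, 8, 3, 2, 1, 0, 4, 3, 2, 1, 5, 6, 8],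
    [7, 6, 5, 4, 3, 2, 1, 0, 8, 3, 2, 1, 4, 3, 2, 5, 9, 8, 3, 2, 1, 0, 4, 3, 2, 5, 4, 8, 3, 2],
    [7, 6, 5, 4, 3, 2, 1, 0, 8, 3, 2, 1, 4, 3, 2, 9, 8, 3, 2, 1, 4, 3, 2, 5, 4, 3, 6, 7, 8, 9],
    [7, 6, 5, 4, 3, 2, 1, 0, 8, 3, 2, 1, 4, 3, 2, 9, 8, 3, 2, 1, 4, 3, 5, 4, 6, 5, 8, 3, 2, 9],
    [7, 6, 5, 4, 3, 2, 1, 0, 8, 3, 2, 1, 4, 3, 5, 4, 6, 7, 9, 8, 3, 2, 1, 4, 3, 5, 4, 6, 8, 3],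
    [7, 6, 5, 4, 3, 2, 1, 0, 8, 3, 2, 1, 4, 3, 5, 4, 6, 9, 8, 3, 2, 1, 4, 3, 2, 5, 4, 6, 5, 7],
    [7, 6, 5, 4, 3, 2, 1, 0, 8, 3, 2, 1, 4, 3, 5, 4, 6, 9, 8, 3, 2, 1, 4, 3, 2, 5, 4, 8, 3, 9],
    [7, 6, 5, 4, 3, 2, 1, 0, 8, 3, 2, 1, 4, 3, 5, 4, 6, 9, 8, 3, 2, 1, 4, 3, 5, 4, 6, 8, 3, 2],
    [7, 6, 5, 4, 3, 2, 1, 0, 8, 3, 2, 1, 4, 3, 5, 4, 6, 9, 8, 3, 2, 4, 3, 5, 4, 6, 5, 8, 3, 2],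
    [7, 6, 5, 4, 3, 2, 1, 0, 8, 3, 2, 1, 4, 3, 5, 4, 9, 8, 3, 2, 1, 0, 4, 3, 2, 1, 5, 6, 7, 8],
    [7, 6, 5, 4, 3, 2, 1, 0, 8, 3, 2, 1, 4, 3, 5, 6, 7, 8, 9, 8, 3, 2, 1, 0, 4, 3, 5, 4, 6, 5],
    [7, 6, 5, 4, 3, 2, 1, 0, 8, 3, 2, 1, 4, 3, 5, 6, 7, 9, 8, 3, 2, 4, 3, 5, 4, 6, 7, 8, 3, 9],
    [7, 6, 5, 4, 3, 2, 1, 0, 8, 3, 2, 1, 4, 3, 5, 6, 8, 9, 8, 3, 2, 1, 0, 4, 3, 5, 4, 6, 8, 3],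
    [7, 6, 5, 4, 3, 2, 1, 0, 8, 3, 2, 1, 4, 3, 5, 6, 9, 8, 3, 2, 4, 3, 5, 4, 8, 3, 2, 9, 8, 3],
    [7, 6, 5, 4, 3, 2, 1, 0, 8, 3, 2, 1, 4, 3, 5, 9, 8, 3, 2, 1, 0, 4, 3, 5, 4, 8, 3, 2, 1, 0],
    [7, 6, 5, 4, 3, 2, 1, 0, 8, 3, 2, 1, 4, 3, 9, 8, 3, 2, 1, 4, 3, 5, 4, 6, 8, 3, 2, 9, 8, 3],
    [7, 6, 5, 4, 3, 2, 1, 0, 8, 3, 2, 1, 4, 5, 9, 8, 3, 2, 1, 4, 3, 5, 4, 6, 5, 8, 3, 2, 1, 0],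
    [7, 6, 5, 4, 3, 2, 1, 0, 8, 3, 2, 1, 4, 3, 2, 5, 4, 9, 8, 3, 2, 1, 0, 4, 3, 5, 4, 6, 5, 7,
      8],
    [7, 6, 5, 4, 3, 2, 1, 0, 8, 3, 2, 1, 4, 3, 2, 5, 4, 9, 8, 3, 2, 1, 4, 3, 2, 5, 4, 3, 6, 7,
      8],
    [7, 6, 5, 4, 3, 2, 1, 0, 8, 3, 2, 1, 4, 3, 2, 5, 4, 9, 8, 3, 2, 1, 4, 3, 2, 5, 8, 3, 4, 5,
      6],
    [7, 6, 5, 4, 3, 2, 1, 0, 8, 3, 2, 1, 4, 3, 2, 5, 4, 9, 8, 3, 2, 1, 4, 3, 5, 4, 8, 3, 2, 1,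
      0],
    [7, 6, 5, 4, 3, 2, 1, 0, 8, 3, 2, 1, 4, 3, 2, 5, 9, 8, 3, 2, 4, 3, 5, 4, 6, 8, 3, 2, 1, 0,
      9],
    [7, 6, 5, 4, 3, 2, 1, 0, 8, 3, 2, 1, 4, 5, 9, 8, 3, 2, 1, 4, 3, 2, 5, 4, 6, 5, 7, 8, 3, 9,
      8],
    [7, 6, 5, 4, 3, 2, 1, 0, 8, 3, 2, 1, 4, 5, 9, 8, 3, 2, 1, 4, 3, 2, 5, 4, 6, 8, 3, 2, 9, 8,
      3],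
    [7, 6, 5, 4, 3, 2, 1, 0, 8, 3, 2, 1, 4, 3, 2, 5, 6, 7, 8, 9, 8, 3, 2, 1, 0, 4, 3, 5, 4, 6,
      5, 8],
    [7, 6, 5, 4, 3, 2, 1, 0, 8, 3, 2, 1, 4, 3, 5, 6, 7, 8, 9, 8, 3, 2, 1, 4, 3, 2, 5, 4, 8, 3,
      9, 8],
    [7, 6, 5, 4, 3, 2, 1, 0, 8, 3, 2, 1, 4, 3, 2, 5, 6, 7, 9, 8, 3, 2, 1, 0, 4, 3, 2, 5, 4, 3,
      6, 8, 3, 2],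
    [7, 6, 5, 4, 3, 2, 1, 0, 8, 3, 2, 1, 4, 3, 5, 6, 9, 8, 3, 2, 1, 4, 3, 2, 5, 4, 6, 8, 3, 4,
      5, 6, 9, 8]]

/-- The representatives. -/
def repsU : List (List ℕ) :=
  repsU_0 ++
    repsU_1 ++
    repsU_2 ++
    repsU_3 ++
    repsU_4 ++
    repsU_5 ++
    repsU_6 ++
    repsU_7 ++
    repsU_8 ++
    repsU_9 ++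
    repsU_10

end CfsgLib.Fi24Out
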