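import Cfsg.Agent.Lib.Fi24Out.Defs
import Cfsg.Agent.Lib.Fi24Out.DataRepsU

/-!
# Kernel checks: the element of order 23
-/

set_option autoImplicit false
set_option maxRecDepth 100000

namespace CfsgLib.Fi24Out

open CfsgLib.PresCert

theorem chk_coverU : Fi23P.coverOk wUs 23 repsU = true := by decide +kernel

theorem chk_scanU : Fi23P.scanOk wUs pxU patU goodU [] repsU = true := by decide +kernel

theorem chk_seedU : Fi23P.seedOk wUs patU goodU [[]] pxU = true := by decide +kernel

theorem chk_reachU : Fi23P.genReach wUs pxU esU (List.range 10) = true := by decide +kernel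

end CfsgLib.Fi24Out
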