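import Cfsg.Agent.Lib.PresCert.Fast

/-!
# Data for the automorphisms of the commutator subgroup (generated)
-/

set_option autoImplicit false
set_option maxRecDepth 100000

namespace CfsgLib.Fi24Out

/-- A short word of order 23. -/
def wUs : List ℕ :=
  [9, 3, 1, 6, 2, 3, 7, 5, 6, 4, 3, 8, 3, 5, 2, 4, 0]

/-- A word of order 11. -/
def wV : List ℕ :=
  [3, 1, 4, 8, 3, 5, 9, 8, 2, 4, 0, 1, 3, 8, 4, 2, 5, 6]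

/-- The conjugating word. -/
def wH : List ℕ :=
  [4, 2, 3, 4, 5, 6, 8, 3, 4, 5, 9, 3, 8, 3, 4, 2, 3, 0, 9, 8, 1, 9, 2, 3, 4, 5, 8, 3, 2, 1,
    0, 6, 5, 4, 3, 2, 5, 4, 3, 6, 8, 3, 4, 1, 0, 2, 3, 1, 8, 2, 5, 4, 3, 8, 2, 1, 4, 0, 3, 2,
    1, 5, 4, 3, 8, 6, 5, 4, 1, 2, 3, 0, 4, 1, 2, 8, 3, 4, 8, 3, 2, 3, 5, 4, 1, 0, 2, 9, 0, 8,
    3, 4, 5, 2, 3, 4, 5, 6, 5, 7, 6, 5, 4, 3, 2, 1, 0, 8, 3, 2, 1, 4, 3, 2, 5, 9, 8, 3, 2, 1,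
    4, 3, 2, 5, 4, 6, 5, 7, 8, 3, 4, 5, 9, 8, 3, 2, 1, 4, 3]

/-- The exponent of the action. -/
def kk : ℕ :=
  2

/-- Its inverse. -/
def kkInv : ℕ :=
  12

/-- A point for the scan. -/
def pxU : List ℕ :=
  [7, 6, 5, 4, 3]

/-- Its pattern. -/
def patU : List Bool :=
  [false, true, false, false, false, false, false, true, false, true, true, true, true,
    false, true, false, false, false, false, false, true, false]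

/-- The points with this pattern. -/
def goodU : List ℕ :=
  [5]

/-- Edges reaching the points of the generators. -/
def esU : List (ℕ × ℕ) :=
  [(0, 5), (0, 6), (1, 6), (0, 40), (0, 8003), (0, 3330), (1, 3330),
    (0, 3839), (1, 3839), (0, 2994), (0, 2110), (0, 1743), (0, 29), (1, 6716),
    (0, 4992), (1, 4992), (0, 5056), (0, 1258), (0, 12673), (0, 12740), (0, 8656),
    (1, 18412), (0, 596), (1, 16760), (0, 23190), (1, 23190), (1, 14530), (0, 13872),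
    (0, 5051), (0, 18753), (0, 16009), (0, 15395), (0, 22292), (0, 15998), (0, 10384),
    (0, 21310), (0, 24588), (1, 24588), (0, 7959), (0, 20633), (0, 21258), (1, 21141),
    (1, 7295), (1, 26092), (0, 26386), (0, 14480), (0, 7178), (0, 17074), (0, 24094),
    (0, 15999), (0, 21416), (0, 27182), (0, 18541), (1, 7556), (0, 21765), (0, 26298),
    (0, 25523), (1, 14362), (0, 22834), (0, 9175), (0, 5890), (0, 22048), (1, 27617),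
    (0, 31226), (0, 9550), (1, 14565), (0, 11060), (0, 6972), (0, 24746), (0, 28804),
    (1, 29162), (0, 19241), (0, 16587), (0, 9399), (0, 16538), (1, 28718), (0, 27373),
    (0, 30234), (0, 11703), (1, 17127), (1, 14027), (1, 22210), (0, 23615), (0, 9561),
    (0, 23313), (0, 10931), (1, 10931), (0, 15795), (0, 6205), (0, 25099), (1, 28683),
    (1, 2844), (0, 18860), (1, 3475), (0, 19226), (0, 16333), (0, 4780), (0, 24560),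
    (0, 25379), (0, 10526), (0, 598), (0, 782), (0, 601), (1, 19731), (0, 17186),
    (0, 9962), (0, 30430), (0, 22876), (0, 17), (0, 4112), (0, 1245), (0, 14301),
    (1, 15437), (1, 1165), (0, 31331), (0, 18136), (1, 7), (0, 2289), (0, 9592),
    (0, 6411), (0, 22578), (0, 1649), (0, 18411), (1, 10069), (0, 4171), (0, 1822),
    (0, 3646), (0, 157), (1, 6310), (0, 8168), (0, 3073), (0, 63), (0, 1973),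
    (0, 5286), (0, 3970), (0, 14056), (0, 21188), (0, 1243), (0, 8002), (0, 443),
    (0, 6169), (0, 14842), (1, 3860), (0, 2298), (0, 2252), (0, 623), (0, 1252),
    (0, 2908), (0, 4135)]

/-- A point for the second scan. -/
def pxV : List ℕ :=
  [7, 6, 5, 4, 3, 2]

/-- Its pattern. -/
def patV : List Bool :=
  [true, false, false, false, true, true, false, false, false, true]

/-- Its images. -/
def goodV : List ℕ :=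
  [6, 536, 10836, 13151]

/-- Moves telling the other points apart. -/
def sepsV : List (List ℕ) :=
  [[0, 0, 1, 0, 0, 0, 1, 0, 0]]

/-- Edges reaching the points of the generators. -/
def esV : List (ℕ × ℕ) :=
  [(0, 6), (0, 1090), (0, 20637), (1, 20637), (1, 17989), (0, 14500), (0, 18130),
    (0, 19006), (1, 19006), (0, 20431), (0, 16596), (1, 16596), (0, 16811), (0, 16481),
    (1, 19055), (0, 21606), (0, 28588), (1, 28588), (1, 20378), (0, 20759), (0, 19991),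
    (1, 19991), (0, 19867), (0, 26930), (0, 21749), (0, 13515), (0, 12292), (0, 15823),
    (0, 13732), (1, 13732), (0, 28115), (1, 26356), (0, 3810), (1, 5536), (0, 4448),
    (1, 4448), (1, 9958), (0, 14174), (0, 23939), (1, 23939), (0, 30928), (1, 22158),
    (0, 10184), (1, 13764), (0, 8515), (0, 11891), (1, 10448), (0, 11029), (0, 22475),
    (0, 28582), (0, 27163), (0, 10551), (0, 8046), (0, 14842), (0, 6214), (0, 9068),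
    (1, 8462), (0, 28481), (1, 24257), (0, 27015), (0, 16229), (1, 10576), (1, 11832),
    (1, 10410), (1, 19338), (0, 4457), (0, 19853), (0, 26822), (0, 24469), (0, 23267),
    (0, 3874), (0, 13975), (0, 5245), (0, 11050), (1, 4423), (0, 11949), (0, 4652),
    (1, 4415), (0, 9157), (0, 455), (0, 9658), (1, 2550), (1, 4210), (0, 3502),
    (0, 7393), (0, 20324), (0, 3516), (0, 7648), (0, 4025), (0, 15914), (0, 3364),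
    (0, 1370), (1, 18142), (0, 15392), (1, 20693), (1, 13748), (0, 28960), (0, 20371),
    (0, 10923), (0, 13269), (0, 27188), (0, 12730), (0, 20206), (1, 28159), (1, 9538),
    (0, 3518), (0, 17477), (1, 29804), (0, 5039), (1, 7636), (0, 29305), (0, 6438),
    (0, 4233), (0, 4704), (0, 30150), (1, 3293), (0, 5104), (0, 24861), (0, 528),
    (1, 3168), (1, 7716), (1, 29149), (0, 497), (1, 2471), (1, 2635), (0, 2376),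
    (0, 1), (0, 15628), (0, 25383), (0, 108), (0, 545), (1, 6444), (0, 2),
    (1, 2863), (0, 7754), (1, 8), (0, 1237), (0, 2322), (1, 9), (0, 1883),
    (1, 6980), (0, 704), (0, 7999), (0, 2138), (0, 6629), (0, 4143), (0, 5688),
    (0, 3153)]

/-- Words of the centraliser in the smaller group. -/
def sWords : List (List ℕ) :=
  [[],
    [1, 2, 3, 4, 8, 5, 4, 3, 2, 6, 4, 5, 3, 8, 4, 3, 2, 1, 2, 3, 8, 3, 4, 5, 0, 6, 3, 8, 2, 4,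
      0, 5, 0, 3, 4, 8, 3, 2, 0, 1, 6, 4, 5, 3, 4, 5, 6, 2, 3, 4, 5, 8, 3, 0, 1, 2, 3, 8, 4, 3,
      2, 8, 9, 1, 8, 3, 2, 0, 4, 3, 8, 9, 4, 3, 2, 5, 4, 3, 8, 6, 5, 4, 3, 5, 4, 3, 4, 5, 6, 1,
      2, 3, 4, 8, 3, 2, 1, 9, 8, 3, 2, 4, 3, 8, 9, 2, 3, 8, 4, 3, 2, 1, 2, 3, 0, 4, 1, 2, 8, 3,
      4, 5, 2, 8, 1, 3, 2, 0, 1, 2, 3, 8, 4, 5, 6, 1, 2, 0, 3, 1, 8, 3, 4, 9, 8, 3, 6, 4, 2, 8,
      5, 9, 3],
    [1, 2, 3, 4, 8, 5, 4, 3, 2, 6, 4, 5, 3, 8, 4, 3, 2, 1, 2, 3, 8, 3, 4, 5, 0, 6, 3, 8, 2, 4,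
      0, 5, 0, 3, 4, 8, 3, 2, 0, 1, 5, 3, 4, 5, 6, 2, 3, 8, 3, 4, 5, 2, 3, 4, 5, 6, 5, 8, 2, 3,
      4, 2, 8, 3, 2, 8, 4, 1, 2, 0, 3, 1, 2, 4, 3, 8, 4, 3, 2, 1, 4, 0, 3, 2, 1, 3, 4, 5, 6, 8,
      2, 3, 8, 2, 1, 2, 3, 8, 5, 4, 3, 2, 5, 4, 3, 8, 9, 8, 3, 2, 4, 3, 5, 4, 8, 3, 2, 1, 2, 8,
      3, 2, 8, 6, 1, 2, 0, 1, 2, 5, 3, 8, 4, 2, 3, 8, 2, 1, 4, 0, 3, 2, 1, 4, 3, 6, 9, 8, 3, 4,
      5, 6, 2, 3, 8, 4, 3, 8, 1, 4, 0, 3, 2, 1, 0, 3, 9, 8, 5, 9, 4, 3, 2, 1, 5, 4, 3, 2, 0, 6,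
      5, 2, 4, 9, 8, 3, 2, 1, 3, 6, 3, 5, 8, 4, 3, 0, 2, 6, 5, 2, 3, 4, 8, 3, 2, 9, 8, 3, 4, 2,
      3, 8, 9, 1, 2, 3, 8, 4, 3, 2, 1, 6, 4, 5, 6, 3, 4, 9, 8, 3, 4, 1, 3, 2, 8, 3, 4, 5, 2, 9,
      8, 3, 4, 2, 3, 8, 5, 1, 6, 5, 0, 4, 3, 8, 2, 3, 8, 9, 8, 3, 1, 0, 2, 1, 8, 3, 4, 8, 3, 2,
      6, 5, 4, 3, 8, 9, 6, 3, 2, 5, 4, 3, 8, 2, 9, 1, 5, 4, 3, 2, 8, 3, 4, 5, 2, 9, 8, 3, 4, 2,
      3, 8, 5, 1, 6, 5, 0, 4, 3, 8, 2, 3, 8, 9, 8, 3, 1, 0, 2, 1, 8, 3, 4, 8, 3, 2, 6, 5, 4, 3,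
      8, 9, 3, 8, 3, 2, 1, 4, 2, 0, 3, 4, 5, 8, 3, 2, 4, 3, 1, 9, 0, 2, 3, 4, 5, 1, 8, 3, 2, 4,
      3, 8, 9, 0, 3, 4, 2, 5, 4, 2, 0, 3, 4, 8, 5, 3, 6, 1, 0, 9, 2, 8, 3, 4, 1, 2, 3, 8, 2, 4,
      3, 4, 5, 6, 4, 1, 9, 2, 0, 1, 2, 3, 8, 9],
    [1, 2, 0, 3, 1, 2, 4, 3, 8, 4, 3, 2, 1, 4, 0, 3, 2, 1, 3, 4, 5, 6, 8, 2, 3, 8, 2, 1, 2, 3,
      8, 5, 4, 3, 2, 5, 4, 3, 8, 9, 8, 3, 2, 4, 3, 5, 4, 8, 3, 2, 1, 2, 8, 3, 2, 8, 6, 1, 2, 0,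
      1, 2, 5, 3, 8, 4, 2, 3, 8, 2, 1, 4, 0, 3, 2, 1, 4, 3, 6, 9, 8, 3, 4, 5, 6, 2, 3, 8, 4, 3,
      8, 1, 4, 0, 3, 2, 1, 0, 3, 9, 8, 5, 9, 4, 3, 2, 1, 5, 4, 3, 2, 0, 6, 5, 2, 4, 9, 8, 3, 2,
      1, 3, 6, 3, 5, 8, 4, 3, 0, 2, 6, 5, 2, 3, 4, 8, 3, 2, 9, 8, 3, 4, 2, 3, 8, 9, 1, 2, 3, 8,
      4, 3, 2, 1, 6, 4, 5, 6, 3, 4, 9, 8, 3, 4, 1, 3, 2, 8, 3, 4, 5, 2, 9, 8, 3, 4, 2, 3, 8, 5,
      1, 6, 5, 0, 4, 3, 8, 2, 3, 8, 9, 8, 3, 1, 0, 2, 1, 8, 3, 4, 8, 3, 2, 6, 5, 4, 3, 8, 9, 6,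
      3, 2, 5, 4, 3, 8, 2, 9, 1, 5, 4, 3, 2, 8, 3, 4, 5, 2, 9, 8, 3, 4, 2, 3, 8, 5, 1, 6, 5, 0,
      4, 3, 8, 2, 3, 8, 9, 8, 3, 1, 0, 2, 1, 8, 3, 4, 8, 3, 2, 6, 5, 4, 3, 8, 9, 3, 8, 3, 2, 1,
      4, 2, 0, 3, 4, 5, 8, 3, 2, 4, 3, 1, 9, 0, 2, 3, 4, 5, 1, 8, 3, 2, 4, 3, 8, 9, 0, 3, 4, 2,
      5, 4, 2, 0, 3, 4, 8, 5, 3, 6, 1, 0, 9, 2, 8, 3, 4, 1, 2, 3, 8, 2, 4, 3, 4, 5, 6, 4, 1, 9,
      2, 0, 1, 2, 3, 8, 9]]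

/-- The transversal. -/
def tWords : List (List ℕ) :=
  [[],
    [3, 4, 11, 10, 5, 6, 7, 8, 4, 10, 5, 6, 7, 4, 5, 10, 5, 4, 6, 5, 4, 3, 10, 11, 8, 7, 6, 5,
      7, 8, 6, 7, 8, 4, 5, 6, 7, 8, 10, 5, 6, 7, 11, 5, 10, 5, 6, 4, 5, 2, 11, 10, 3, 11, 4, 5,
      6, 7, 10, 5, 4, 3, 2, 8, 7, 6, 5, 4, 7, 6, 5, 6, 8, 11, 10, 5, 6, 7, 8, 4, 5, 10, 6, 5,
      10, 3, 4, 2, 3, 5, 10, 11, 10, 5, 4, 10, 5, 6, 2, 7, 8, 3, 7, 10, 5, 4, 6, 5, 10, 11, 4,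
      7, 6, 5, 10, 4, 5, 2, 3, 4, 5, 6, 7, 10, 5, 6, 4, 5, 10, 11, 10, 5, 4, 3, 10, 6, 5, 7, 6,
      10, 5, 4, 3, 4, 2, 5, 3, 4, 5, 6, 10, 2, 3, 4, 5, 10, 6, 4, 3, 5, 2, 4, 3, 4, 5, 6, 7, 10,
      5, 6, 11, 3, 4, 2, 10, 5, 6, 7, 10, 11, 3, 4, 5, 6, 5, 4, 10, 9, 8, 7, 6, 5, 4, 3, 2, 10,
      5, 4, 3, 6, 5, 7, 8, 10, 11, 10, 5, 4, 6, 5, 7, 6, 8, 7, 10, 5, 6, 11, 1, 0, 2, 1, 3, 2,
      4, 5, 6, 7, 8, 9, 10, 5, 4, 6, 5, 7, 6, 8, 7, 10, 5, 4, 3, 6, 5, 4, 10, 5, 6, 7, 8, 9],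
    [10, 5, 6, 7, 8, 4, 5, 10, 5, 6, 4, 5, 10, 2, 3, 4, 5, 10, 7, 6, 5, 4, 7, 6, 5, 10, 11, 10,
      5, 4, 6, 5, 7, 6, 10, 5, 4, 3, 6, 5, 10, 2, 8, 4, 5, 10, 7, 6, 5, 4, 7, 8, 6, 7, 10, 5, 6,
      2, 7, 8, 10, 6, 5, 4, 3, 4, 5, 10, 7, 6, 5, 4, 7, 6, 5, 10, 11, 10, 5, 4, 6, 5, 7, 6, 10,
      5, 4, 3, 4, 5, 10, 8, 2, 7, 6, 5, 10, 8, 10, 5, 3, 6, 4, 2, 5, 6, 7, 10, 5, 4, 6, 5, 3,
      11, 2, 4, 5, 6, 7, 3, 10, 5, 4, 6, 5, 10, 11, 8, 6, 5, 2, 4, 5, 11, 10, 5, 6, 7, 4, 2, 5,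
      6, 10, 5, 2, 4, 3, 4, 5, 6, 10, 5, 4, 7, 6, 5, 10, 11, 3, 4, 11, 10, 2, 5, 3, 6, 7, 6, 5,
      10, 5, 4, 6, 2, 5, 9, 8, 7, 6, 5, 4, 3, 2, 10, 5, 4, 6, 5, 7, 6, 8, 7, 9, 8, 10, 5, 4, 6,
      5, 7, 6, 10, 5, 4, 3, 0, 0, 1, 0, 2, 1, 3, 4, 5, 6, 7, 8, 10, 5, 4, 3, 6, 5, 7, 6, 11, 10,
      5, 4, 3, 6, 5, 4, 7, 6, 10, 5, 4, 6, 11]]

/-- The other fixed point. -/
def ptB : ℕ :=
  17519

/-- The third generator. -/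
def wW : List ℕ :=
  [10, 5, 6, 7, 8, 4, 5, 10, 5, 6, 4, 5, 10, 2, 3, 4, 5, 10, 7, 6, 5, 4, 7, 6, 5, 10, 11, 10,
    5, 4, 6, 5, 7, 6, 10, 5, 4, 3, 6, 5, 10, 2, 8, 4, 5, 10, 7, 6, 5, 4, 7, 8, 6, 7, 10, 5, 6,
    2, 7, 8, 10, 6, 5, 4, 3, 4, 5, 10, 7, 6, 5, 4, 7, 6, 5, 10, 11, 10, 5, 4, 6, 5, 7, 6, 10,
    5, 4, 3, 4, 5, 10, 8, 2, 7, 6, 5, 10, 8, 10, 5, 3, 6, 4, 2, 5, 6, 7, 10, 5, 4, 6, 5, 3,
    11, 2, 4, 5, 6, 7, 3, 10, 5, 4, 6, 5, 10, 11, 8, 6, 5, 2, 4, 5, 11, 10, 5, 6, 7, 4, 2, 5,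
    6, 10, 5, 2, 4, 3, 4, 5, 6, 10, 5, 4, 7, 6, 5, 10, 11, 3, 4, 11, 10, 2, 5, 3, 6, 7, 6, 5,
    10, 5, 4, 6, 2, 5, 9, 8, 7, 6, 5, 4, 3, 2, 10, 5, 4, 6, 5, 7, 6, 8, 7, 9, 8, 10, 5, 4, 6,
    5, 7, 6, 10, 5, 4, 3, 0, 0, 1, 0, 2, 1, 3, 4, 5, 6, 7, 8, 10, 5, 4, 3, 6, 5, 7, 6, 11, 10,
    5, 4, 3, 6, 5, 4, 7, 6, 10, 5, 4, 6, 11]

/-- A point leaving the small orbit. -/
def midPt : ℕ :=
  2

/-- A point telling two conjugates apart. -/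
def outerPt : ℕ :=
  2

/-- A test point. -/
def testPt : ℕ :=
  1000

/-- Relations with test points. -/
def relList : List (List ℕ × ℕ) :=
  [([0, 1, 1, 1, 1, 1, 1, 2, 0, 1, 1, 1, 1, 1, 1, 2, 0, 1, 1, 1, 1, 1, 1, 2, 0, 1, 1, 1, 1, 1,
      1, 2, 0, 1, 1, 1, 1, 1, 1, 2, 0, 1, 1, 1, 1, 1, 1, 2, 0, 1, 1, 1, 1, 1, 1, 2, 0, 1, 1, 1,
      1, 1, 1, 2, 0, 1, 1, 1, 1, 1, 1, 2, 0, 1, 1, 1, 1, 1, 1, 2, 0, 1, 1, 1, 1, 1, 1, 2, 0, 1,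
      1, 1, 1, 1, 1, 2, 0, 1, 1, 1, 1, 1, 1, 2], 0)]

/-- A transposition as a word in the three generators. -/
def genWord : List ℕ :=
  [2, 3, 2, 2, 0, 1, 1, 1, 1, 2, 0, 1, 1, 1, 1, 1, 1, 1, 2, 0, 2, 0, 2, 0, 2, 0, 2, 0, 2, 0,
    2, 0, 2, 0, 2, 0, 2, 0, 2, 0, 2, 0, 2, 0, 1, 1, 1, 1, 1, 1, 1, 1, 1, 1, 1, 1, 1, 1, 1, 1,
    1, 1, 1, 1, 1, 1, 1, 1, 1, 1, 1, 1, 1, 1, 1, 1, 1, 1, 1, 1, 1, 1, 1, 1, 1, 1, 1, 1, 1, 1,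
    1, 1, 1, 1, 1, 1, 1, 1, 1, 1, 1, 1, 1, 1, 1, 1, 1, 1, 1, 1, 1, 1, 1, 1, 3, 2, 2, 1, 1, 1,
    1, 1, 1, 1, 1, 1, 1, 1, 1, 1, 1, 1, 1, 1, 1, 1, 1, 1, 1, 1, 1, 1, 1, 1, 1, 1, 1, 1, 1, 1,
    1, 1, 1, 1, 1, 1, 1, 3, 2, 2, 2, 2, 0, 2, 2]

/-- The path of its point. -/
def qPath : List ℕ :=
  [7, 6, 5, 4, 3, 2, 1, 0, 8, 3, 2, 1, 4, 3, 5, 4, 6, 5, 7, 6, 8, 9, 8, 3, 4, 5, 6]

/-- Edges reaching the points of the generators. -/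
def esK : List (ℕ × ℕ) :=
  [(0, 5696), (0, 12701), (1, 12701), (0, 2042), (1, 2042), (0, 17076), (0, 9184),
    (1, 9184), (0, 17682), (0, 11280), (0, 31169), (0, 29275), (0, 24002), (1, 24002),
    (0, 19646), (1, 19646), (1, 27207), (0, 16643), (0, 28613), (0, 26801), (0, 1209),
    (0, 4950), (0, 26816), (0, 19106), (0, 14076), (1, 14318), (0, 485), (0, 24024),
    (1, 24024), (0, 6786), (0, 17477), (1, 17477), (0, 3597), (0, 4353), (1, 17305),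
    (0, 22102), (0, 12367), (1, 550), (0, 15891), (1, 15891), (0, 27173), (1, 18391),
    (1, 1306), (0, 28590), (0, 23255), (0, 8064), (0, 1503), (0, 22416), (0, 16128),
    (0, 29201), (0, 9510), (0, 22807), (0, 3918), (0, 27108), (1, 25443), (0, 7066),
    (1, 4467), (0, 11546), (1, 11546), (0, 3336), (0, 25177), (1, 8883), (0, 10366),
    (0, 19640), (0, 4764), (1, 23716), (0, 8590), (0, 2733), (0, 13263), (0, 18608),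
    (0, 9192), (0, 23233), (0, 20226), (1, 13409), (0, 8234), (0, 15710), (1, 8928),
    (1, 19687), (0, 20543), (0, 29670), (1, 13496), (0, 2047), (1, 8687), (0, 10774),
    (1, 23842), (0, 2046), (0, 20685), (0, 1415), (1, 1920), (1, 26572), (0, 15714),
    (1, 9443), (0, 8897), (0, 7690), (0, 25265), (0, 30313), (0, 20005), (0, 13774),
    (0, 2774), (0, 25420), (0, 16153), (0, 15070), (0, 16102), (1, 16436), (0, 9761),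
    (1, 7155), (0, 6258), (1, 24697), (1, 24157), (1, 186), (0, 31091), (1, 30756),
    (1, 13355), (0, 3739), (0, 11784), (0, 7653), (0, 3612), (0, 28725), (0, 9029),
    (0, 16792), (0, 22288), (0, 6699), (0, 21750), (0, 17578), (0, 4440), (1, 4521),
    (1, 11376), (0, 12296), (0, 11914), (0, 9985), (1, 21440), (0, 16708), (0, 7003),
    (0, 25018), (1, 21365), (0, 29908), (1, 14085), (1, 4526), (0, 20434), (0, 13506),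
    (0, 23057), (0, 8726), (0, 11909), (0, 15203), (0, 26465), (0, 20047), (0, 17408),
    (1, 4973), (0, 26455), (0, 4161), (1, 5889), (0, 21026), (0, 11572), (1, 16659),
    (0, 7576), (1, 17005), (0, 18563), (0, 17458), (0, 23679), (0, 30248), (0, 18583),
    (0, 19758), (0, 13564), (0, 31368), (1, 4967), (1, 6545), (0, 2358), (0, 13763)]

end CfsgLib.Fi24Out
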