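import Cfsg.Agent.Lib.Fi23P.PermDefs
import Cfsg.Agent.Lib.Fi24P.PermDefs

/-!
# The smaller action inside the larger one

The points after the first in the larger table carry the action of the smaller group.
-/

set_option autoImplicit false
set_option maxRecDepth 100000

namespace CfsgLib.Fi24Out

/-- A generator of the smaller group on a shifted point. -/
noncomputable def liftAt (p k : ℕ) : Bool :=
  Nat.beq (Fi24P.img (Nat.add k 2) (Fi24P.img 0 (Nat.add p 1))) (Nat.add (Fi23P.fimg k p) 1)

/-- All generators on a shifted point. -/
noncomputable def liftPt (p : ℕ) : Bool :=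
  !(Nat.blt p 31671) || Fi24P.loop (liftAt p) 0 10

/-- A block of 1000 points. -/
noncomputable def liftBlock (b : ℕ) : Bool := Fi24P.loop liftPt (1000 * b) 1000

/-- The word in the larger group of a word of the smaller group. -/
def upWord (w : List ℕ) : List ℕ := w.map (fun g => g + 2) ++ List.replicate (w.length % 2) 0

end CfsgLib.Fi24Out
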