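import Cfsg.Agent.Lib.Fi23P.CentScan
import Cfsg.Agent.Lib.Fi24P.PermDefs
import Cfsg.Agent.Lib.Fi24P.Steps
import Cfsg.Agent.Lib.Fi24Out.LiftDefs
import Cfsg.Agent.Lib.Fi24Out.Data

/-!
# The checked statements for the outer automorphism group
-/

set_option autoImplicit false
set_option maxRecDepth 100000

namespace CfsgLib.Fi24Out

open CfsgLib.PresCert

/-- A word of order 23. -/
def wU : List ℕ := wH.reverse ++ wUs ++ wH

/-- A power of a word. -/
def powWord (k : ℕ) (w : List ℕ) : List ℕ := (List.replicate k w).flatten

/-- The twelve representatives of the centraliser modulo the powers of the element of order 11. -/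
def mWords : List (List ℕ) :=
  tWords.flatMap fun t => sWords.map fun s => upWord s ++ t

/-- The word of a member of the centraliser. -/
def centWord (k : ℕ) (m : List ℕ) : List ℕ := m ++ powWord k (upWord wV)

/-- The values of the symbols. -/
def symWords (minus : Bool) (c : List ℕ) : List (List ℕ) :=
  [bif minus then (upWord wU).reverse else upWord wU, upWord wV, c,
    bif minus then upWord wU else (upWord wU).reverse]

/-- Two words give the same element, judged at the first point and the base of the smaller
action. -/
noncomputable def sameW (u v : List ℕ) : Bool :=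
  u.all (fun g => Nat.blt g 12) && v.all (fun g => Nat.blt g 12) &&
    Nat.beq (u.length % 2) (v.length % 2) && Nat.beq (Fi24P.tab.walk 0 u) (Fi24P.tab.walk 0 v) &&
    Fi23P.baseL.all fun b => Nat.blt b 31671 && Nat.beq (Fi24P.tab.walk (b + 1) u) (Fi24P.tab.walk (b + 1) v)

/-- A witness against a candidate. -/
noncomputable def rejected (minus : Bool) (k : ℕ) (m : List ℕ) : Bool :=
  !(Nat.beq (Fi24P.tab.walk testPt (powWord 3 (centWord k m))) testPt) ||
    relList.any fun e =>
      !(Nat.beq (Fi24P.tab.walk e.2 (Fi24P.witWord (symWords minus (centWord k m)) e.1)) e.2)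

end CfsgLib.Fi24Out
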