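import Cfsg.Agent.Lib.Fi24Out.LiftDefs

/-!
# Kernel checks of the smaller action inside the larger one, part 0
-/

set_option autoImplicit false
set_option maxRecDepth 100000

namespace CfsgLib.Fi24Out

theorem lift_chk0 : liftBlock 0 = true := by decide +kernel

theorem lift_chk1 : liftBlock 1 = true := by decide +kernel

theorem lift_chk2 : liftBlock 2 = true := by decide +kernel

theorem lift_chk3 : liftBlock 3 = true := by decide +kernel

theorem lift_chk4 : liftBlock 4 = true := by decide +kernel

theorem lift_chk5 : liftBlock 5 = true := by decide +kernel

theorem lift_chk6 : liftBlock 6 = true := by decide +kernel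

theorem lift_chk7 : liftBlock 7 = true := by decide +kernel

end CfsgLib.Fi24Out
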