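import Cfsg.Agent.Lib.Fi24Out.LiftDefs

/-!
# Kernel checks of the smaller action inside the larger one, part 1
-/

set_option autoImplicit false
set_option maxRecDepth 100000

namespace CfsgLib.Fi24Out

theorem lift_chk8 : liftBlock 8 = true := by decide +kernel

theorem lift_chk9 : liftBlock 9 = true := by decide +kernel

theorem lift_chk10 : liftBlock 10 = true := by decide +kernel

theorem lift_chk11 : liftBlock 11 = true := by decide +kernel

theorem lift_chk12 : liftBlock 12 = true := by decide +kernel

theorem lift_chk13 : liftBlock 13 = true := by decide +kernel

theorem lift_chk14 : liftBlock 14 = true := by decide +kernel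

theorem lift_chk15 : liftBlock 15 = true := by decide +kernel

end CfsgLib.Fi24Out
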