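import Cfsg.Agent.Lib.Fi24Out.LiftDefs

/-!
# Kernel checks of the smaller action inside the larger one, part 2
-/

set_option autoImplicit false
set_option maxRecDepth 100000

namespace CfsgLib.Fi24Out

theorem lift_chk16 : liftBlock 16 = true := by decide +kernel

theorem lift_chk17 : liftBlock 17 = true := by decide +kernel

theorem lift_chk18 : liftBlock 18 = true := by decide +kernel

theorem lift_chk19 : liftBlock 19 = true := by decide +kernel

theorem lift_chk20 : liftBlock 20 = true := by decide +kernel

theorem lift_chk21 : liftBlock 21 = true := by decide +kernel

theorem lift_chk22 : liftBlock 22 = true := by decide +kernel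

theorem lift_chk23 : liftBlock 23 = true := by decide +kernel

end CfsgLib.Fi24Out
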