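import Cfsg.Agent.Lib.Fi24Out.LiftDefs

/-!
# Kernel checks of the smaller action inside the larger one, part 3
-/

set_option autoImplicit false
set_option maxRecDepth 100000

namespace CfsgLib.Fi24Out

theorem lift_chk24 : liftBlock 24 = true := by decide +kernel

theorem lift_chk25 : liftBlock 25 = true := by decide +kernel

theorem lift_chk26 : liftBlock 26 = true := by decide +kernel

theorem lift_chk27 : liftBlock 27 = true := by decide +kernel

theorem lift_chk28 : liftBlock 28 = true := by decide +kernel

theorem lift_chk29 : liftBlock 29 = true := by decide +kernel

theorem lift_chk30 : liftBlock 30 = true := by decide +kernel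

theorem lift_chk31 : liftBlock 31 = true := by decide +kernel

end CfsgLib.Fi24Out
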