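import Cfsg.Agent.Lib.Fi23P.OutRigid
import Cfsg.Agent.Lib.Fi24Out.Defs
import Cfsg.Agent.Lib.Fi24P.Simple
import Cfsg.Agent.Lib.Fi24Out.LiftCheck0
import Cfsg.Agent.Lib.Fi24Out.LiftCheck1
import Cfsg.Agent.Lib.Fi24Out.LiftCheck2
import Cfsg.Agent.Lib.Fi24Out.LiftCheck3

/-!
# Transport from the smaller group and equality of words
-/

set_option autoImplicit false
set_option maxRecDepth 100000

namespace CfsgLib.Fi24Out

open CfsgLib.PresCert Cfsg.Spor CfsgLib.Fi24P

theorem lift_all {b : ℕ} (hb : b < 32) : liftBlock b = true := by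
  interval_cases b
  exacts [lift_chk0, lift_chk1, lift_chk2, lift_chk3, lift_chk4, lift_chk5, lift_chk6, lift_chk7,
    lift_chk8, lift_chk9, lift_chk10, lift_chk11, lift_chk12, lift_chk13, lift_chk14, lift_chk15,
    lift_chk16, lift_chk17, lift_chk18, lift_chk19, lift_chk20, lift_chk21, lift_chk22, lift_chk23,
    lift_chk24, lift_chk25, lift_chk26, lift_chk27, lift_chk28, lift_chk29, lift_chk30, lift_chk31]

theorem lift_img {p k : ℕ} (hp : p < 31671) (hk : k < 10) :
    img (k + 2) (img 0 (p + 1)) = Fi23P.fimg k p + 1 := by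
  have h := loop_spec _ _ (lift_all (b := p / 1000) (by omega))
    (Nat.mod_lt p (by norm_num : 1000 > 0))
  rw [Nat.div_add_mod, liftPt, Nat.blt_eq.mpr hp, Bool.not_true, Bool.false_or] at h
  have h' := loop_spec _ _ h hk
  rw [zero_add, liftAt, Nat.beq_eq] at h'
  exact h'

/-- A point of the smaller action as a point of the larger one. -/
def up (i : Fin Fi23P.tab.n) : Fin Fi24P.tab.n :=
  ⟨i.val + 1, by have : i.val < 31671 := i.isLt; show i.val + 1 < 306936; omega⟩

theorem phi_psi_up (z : Cfsg.Spor.Fi23) :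
    ∀ i, phi (psi z) (up i) = up (Fi23P.phi z i) := by
  have h : z ∈ genGrp ((List.range 10).map fun g => [g]) Fi23P.fiGen := by
    rw [Fi23P.closure_all]; exact Subgroup.mem_top z
  induction h using Subgroup.closure_induction with
  | mem s hs =>
    obtain ⟨w, hw, rfl⟩ := hs
    obtain ⟨g, hg, rfl⟩ := List.mem_map.1 hw
    rw [List.mem_range] at hg
    intro i
    refine Fin.ext ?_
    rw [act_cons, act_nil, one_mul, psi_gen hg, smallGen, map_mul, Equiv.Perm.mul_apply]
    show ((phi (ftGen (g + 2)) (phi eltL (up i)) : Fin tab.n) : ℕ) =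
      ((Fi23P.phi (Fi23P.fiGen g) i : Fin Fi23P.tab.n) : ℕ) + 1
    rw [realised.app (g + 2) (by show g + 2 < 12; omega),
      show ((phi eltL (up i) : Fin tab.n) : ℕ) = img 0 (i.val + 1) from
        realised.app 0 (by decide) (up i),
      show ((Fi23P.phi (Fi23P.fiGen g) i : Fin Fi23P.tab.n) : ℕ) = Fi23P.fimg g i.val from
        Fi23P.realised.app g hg i]
    exact lift_img i.isLt hg
  | one => intro i; simp
  | mul a b _ _ ha hb =>
    intro i
    rw [map_mul, map_mul, Equiv.Perm.mul_apply, hb, ha, map_mul, Equiv.Perm.mul_apply]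
  | inv a _ ha =>
    intro i
    rw [map_inv, map_inv, Equiv.Perm.inv_def, Equiv.symm_apply_eq, ha, map_inv, Equiv.Perm.inv_def,
      Equiv.apply_symm_apply]

theorem phi_psi_zero (z : Cfsg.Spor.Fi23) : phi (psi z) pt0 = pt0 := subgH_fix (psi_mem z)

theorem proj_equiv (m : Cfsg.Spor.Fi24) (x : Cos) : proj (m • x) = phi m (proj x) := by
  obtain ⟨a, rfl⟩ := QuotientGroup.mk_surjective x
  have e : ((a : Cfsg.Spor.Fi24) : Cos) = a • base0 := by
    rw [base0, MulAction.Quotient.smul_coe, smul_eq_mul, mul_one]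
  rw [e, ← mul_smul, proj_smul, proj_smul, map_mul, Equiv.Perm.mul_apply]

theorem stab_zero {m : Cfsg.Spor.Fi24} (h : phi m pt0 = pt0) : m ∈ subgH := by
  have e : proj (m • base0) = proj base0 := by
    rw [proj_smul, h, show base0 = (1 : Cfsg.Spor.Fi24) • base0 from (one_smul _ _).symm, proj_smul,
      map_one, Equiv.Perm.one_apply]
  have e2 := proj_bijective.1 e
  rw [base0, MulAction.Quotient.smul_coe, smul_eq_mul, mul_one, QuotientGroup.eq, mul_one,
    inv_mem_iff] at e2
  exact e2

theorem com_stab {m : Cfsg.Spor.Fi24} (hs : signHom m = 1) (h : phi m pt0 = pt0) :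
    ∃ z, m = psi z := by
  obtain ⟨z, hz | hz⟩ := subgH_cases (stab_zero h)
  · exact ⟨z, hz⟩
  · rw [hz, map_mul, psi_sign, signHom_gen, one_mul] at hs
    exact absurd hs (by decide)

theorem act_psi {w : List ℕ} (hw : ∀ g ∈ w, g < 10) :
    psi (act Fi23P.fiGen w) = act smallGen w := by
  induction w with
  | nil => simp [act_nil]
  | cons g w ih =>
    rw [act_cons, act_cons, map_mul, ih fun a ha => hw a (List.mem_cons_of_mem _ ha),
      psi_gen (hw g List.mem_cons_self)]

theorem act_lift {w : List ℕ} (hw : ∀ g ∈ w, g < 10) :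
    act ftGen (upWord w) = psi (act Fi23P.fiGen w) := by
  rw [act_psi hw, act_smallGen hw, upWord, act_append]
  have h0 : ∀ m : ℕ, act ftGen (List.replicate m 0) = eltL ^ m := by
    intro m
    induction m with
    | zero => simp [act_nil]
    | succ m ih => rw [List.replicate_succ, act_cons, ih, pow_succ]
  rw [h0, ← pow_eltL]
  have hc : eltL * act ftGen (w.map (· + 2)) = act ftGen (w.map (· + 2)) * eltL :=
    eltL_comm_act fun g hg => by
      obtain ⟨a, ha, rfl⟩ := List.mem_map.1 hg
      have := hw a ha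
      exact ⟨by omega, by omega⟩
  exact ((show Commute eltL _ from hc).pow_left w.length).eq

theorem lift_lt {w : List ℕ} (hw : ∀ g ∈ w, g < 10) : ∀ g ∈ upWord w, g < 12 := by
  intro g hg
  simp only [upWord, List.mem_append, List.mem_map, List.mem_replicate] at hg
  rcases hg with ⟨a, ha, rfl⟩ | ⟨-, rfl⟩
  · have := hw a ha; omega
  · norm_num

theorem sign_act : ∀ w : List ℕ, signHom (act ftGen w) = (-1 : ℤˣ) ^ w.length
  | [] => by simp [act_nil]
  | g :: w => by rw [act_cons, map_mul, sign_act w, signHom_gen, List.length_cons, pow_succ]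

theorem eq_of_sameW {u v : List ℕ} (h : sameW u v = true) : act ftGen u = act ftGen v := by
  simp only [sameW, Bool.and_eq_true, List.all_eq_true, Nat.beq_eq, Nat.blt_eq] at h
  obtain ⟨⟨⟨⟨hu, hv⟩, hp⟩, h0⟩, hb⟩ := h
  set d := (act ftGen v)⁻¹ * act ftGen u with hd
  have hs : signHom d = 1 := by
    rw [hd, map_mul, map_inv, sign_act, sign_act, inv_mul_eq_one, ← Nat.div_add_mod u.length 2,
      ← Nat.div_add_mod v.length 2, hp, pow_add, pow_add, pow_mul, pow_mul]
    simp
  have hfix : ∀ i : Fin tab.n, tab.walk i.val u = tab.walk i.val v → phi d i = i := by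
    intro i e
    rw [hd, map_mul, Equiv.Perm.mul_apply, map_inv, Equiv.Perm.inv_def, Equiv.symm_apply_eq]
    exact Fin.ext (by rw [realised.act_apply hu, realised.act_apply hv, e])
  obtain ⟨z, hz⟩ := com_stab hs (hfix pt0 h0)
  have hz1 : z ∈ Fast.fixSub Fi23P.phi ([0, 52] ++ Fi23P.levels.map Fast.Level.base) := by
    intro i hi
    rw [← Fi23P.levels_ok.2.2] at hi
    have := hfix (up i) (hb _ hi).2
    rw [hz, phi_psi_up] at this
    exact Fin.ext (Nat.succ.inj (congrArg Fin.val this))
  rw [Fi23P.base_trivial, Subgroup.mem_bot] at hz1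
  rw [hz1, map_one, hd, inv_mul_eq_one] at hz
  exact hz.symm

/-- The first point of the large orbit. -/
noncomputable def bigPt : Fin Fi24P.tab.n := proj (Fi24P.root 1)

theorem root_values : Nat.beq (tab.walk 0 (rootWord 1)) 31672 = true ∧
    (Nat.ble 1 (tab.walk 0 (rootWord 2)) && Nat.ble (tab.walk 0 (rootWord 2)) 31671 &&
      (rootWord 2).all fun g => Nat.blt g 12) = true := by
  decide +kernel

theorem bigPt_val : bigPt.val = 31672 := by
  rw [bigPt, Fi24P.root, proj_smul, phi_pt (by decide)]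
  exact Nat.eq_of_beq_eq_true root_values.1

theorem small_cases (p : Fin Fi24P.tab.n) (h : p.val < 31672) : p = pt0 ∨ ∃ i, p = up i := by
  rcases Nat.eq_zero_or_pos p.val with e | e
  · exact Or.inl (Fin.ext e)
  · exact Or.inr ⟨⟨p.val - 1, by show p.val - 1 < 31671; omega⟩, Fin.ext (by show p.val = p.val - 1 + 1; omega)⟩

theorem psi_keeps_small (z : Cfsg.Spor.Fi23) {p : Fin Fi24P.tab.n} (h : p.val < 31672) :
    (phi (psi z) p).val < 31672 := by
  rcases small_cases p h with rfl | ⟨i, rfl⟩
  · rw [phi_psi_zero]; exact h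
  · rw [phi_psi_up]
    show (Fi23P.phi z i).val + 1 < 31672
    have : (Fi23P.phi z i).val < 31671 := Fin.isLt _
    omega

theorem psi_keeps_big (z : Cfsg.Spor.Fi23) {p : Fin Fi24P.tab.n} (h : ¬ p.val < 31672) :
    ¬ (phi (psi z) p).val < 31672 := fun hc => h (by
  have := psi_keeps_small z⁻¹ hc
  rwa [map_inv, map_inv, Equiv.Perm.inv_def, Equiv.symm_apply_apply] at this)

/-- The large orbit. -/
theorem big_reach {p : Fin Fi24P.tab.n} (h : ¬ p.val < 31672) : ∃ z, phi (psi z) bigPt = p := by
  obtain ⟨x, rfl⟩ := proj_bijective.2 p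
  rcases cos_cases x with rfl | hx | hx
  · exfalso
    refine h ?_
    rw [show base0 = (1 : Cfsg.Spor.Fi24) • base0 from (one_smul _ _).symm, proj_smul, map_one,
      Equiv.Perm.one_apply]
    exact show 0 < 31672 by norm_num
  · obtain ⟨z, rfl⟩ := orbOf_one_psi hx
    exact ⟨z, (proj_equiv _ _).symm⟩
  · obtain ⟨z, rfl⟩ := orbOf_two_psi hx
    exfalso
    rw [proj_equiv] at h
    refine h (psi_keeps_small z ?_)
    have hr := root_values.2
    simp only [Bool.and_eq_true, Nat.ble_eq, List.all_eq_true, Nat.blt_eq] at hr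
    rw [Fi24P.root, proj_smul, phi_pt hr.2]
    omega

/-- An element of order 23 or 11 of the smaller group fixes no point of the large orbit. -/
theorem big_free {l : ℕ} (_ : l.Prime) (hl : l = 23 ∨ l = 11) {z : Cfsg.Spor.Fi23}
    (hz : orderOf z = l) {p : Fin Fi24P.tab.n}
    (hp : ¬ p.val < 31672) : phi (psi z) p ≠ p := by
  have := Fi23P.card_fi.1
  intro hfix
  let S : Subgroup Cfsg.Spor.Fi23 :=
    (MulAction.stabilizer (Equiv.Perm (Fin tab.n)) p).comap (phi.comp psi)
  have hmem : ∀ m, m ∈ S ↔ phi (psi m) p = p := fun m => Iff.rfl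
  obtain ⟨b, hb⟩ := big_reach hp
  let F : Cfsg.Spor.Fi23 ⧸ S → {q : Fin tab.n // ¬ q.val < 31672} :=
    fun q => ⟨phi (psi q.out) p, psi_keeps_big _ hp⟩
  have hF : Function.Bijective F := by
    constructor
    · intro a c e
      have e' : phi (psi a.out) p = phi (psi c.out) p := congrArg Subtype.val e
      rw [← QuotientGroup.out_eq' a, ← QuotientGroup.out_eq' c, QuotientGroup.eq, hmem, map_mul,
        map_mul, Equiv.Perm.mul_apply, ← e', map_inv, map_inv, Equiv.Perm.inv_def,
        Equiv.symm_apply_apply]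
    · rintro ⟨q, hq⟩
      obtain ⟨c, hc⟩ := big_reach hq
      refine ⟨((c * b⁻¹ : Cfsg.Spor.Fi23) : _ ⧸ S), Subtype.ext ?_⟩
      show phi (psi (QuotientGroup.mk (c * b⁻¹) : Cfsg.Spor.Fi23 ⧸ S).out) p = q
      obtain ⟨s, hs⟩ := QuotientGroup.mk_out_eq_mul S (c * b⁻¹)
      rw [hs, map_mul, map_mul, Equiv.Perm.mul_apply, (hmem _).1 s.2, map_mul, map_mul,
        Equiv.Perm.mul_apply, map_inv, map_inv, Equiv.Perm.inv_def, ← hb, Equiv.symm_apply_apply,
        hc]
  have hi : S.index = 275264 := by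
    rw [Subgroup.index_eq_card, Nat.card_congr (Equiv.ofBijective F hF)]
    let e : Fin 275264 ≃ {q : Fin tab.n // ¬ q.val < 31672} :=
      { toFun := fun j => ⟨⟨j.val + 31672, by have := j.isLt; show _ < 306936; omega⟩,
          show ¬ j.val + 31672 < 31672 by omega⟩
        invFun := fun q => ⟨q.1.val - 31672, by
          have : q.1.val < 306936 := q.1.isLt
          have := q.2
          omega⟩
        left_inv := fun j => Fin.ext (show j.val + 31672 - 31672 = j.val by omega)
        right_inv := fun q => Subtype.ext (Fin.ext (by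
          have := q.2
          show q.1.val - 31672 + 31672 = q.1.val
          omega)) }
    rw [← Nat.card_congr e, Nat.card_fin]
  have hd : l ∣ Nat.card S := by
    have : orderOf (⟨z, (hmem z).2 hfix⟩ : S) = l := by rw [Subgroup.orderOf_mk, hz]
    rw [← this]
    exact orderOf_dvd_natCard _
  obtain ⟨k, hk⟩ := hd
  have := S.card_mul_index
  rw [hi, hk, Fi23P.card_fi.2] at this
  rcases hl with rfl | rfl <;> omega

end CfsgLib.Fi24Out
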